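import Cfsg.Agent.H11.Third2
import Cfsg.Agent.H11.Emb
import Cfsg.Agent.H3.Clifford

/-!
Blocks and normal `p'`-subgroups (helper11).
-/
set_option autoImplicit false

namespace Cfsg.Agent.H11

open Cfsg Cfsg.Agent.H3 Cfsg.Agent.H27 ComplexConjugate

universe u

variable {G : Type u} [Group G] [Fintype G] {p : ℕ} {M : Ideal AlgInt}

section orbit

variable {N : Subgroup G} (hN : N.Normal) [Fintype N]

theorem blockCoeff_cj {U : Set (IrrCharacter N)}
    (hU : ∀ (x : G) (η : IrrCharacter N), η ∈ U → (⟨cj hN x η, isIrr_cj hN η.2 x⟩ : IrrCharacter N) ∈ U)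
    (x : G) (n : N) : blockCoeff U (⟨x * n * x⁻¹, hN.conj_mem n n.2 x⟩ : N) = blockCoeff U n := by
  classical
  have := Fintype.ofFinite (IrrCharacter N)
  unfold blockCoeff
  rw [finsum_mem_irr, finsum_mem_irr]
  congr 1
  refine Finset.sum_bij' (fun η _ => (⟨cj hN x η, isIrr_cj hN η.2 x⟩ : IrrCharacter N))
    (fun η _ => (⟨cj hN x⁻¹ η, isIrr_cj hN η.2 x⁻¹⟩ : IrrCharacter N)) ?_ ?_ ?_ ?_ ?_
  · intro η hη
    rw [Finset.mem_filter] at hη ⊢
    exact ⟨Finset.mem_univ _, hU x η hη.2⟩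
  · intro η hη
    rw [Finset.mem_filter] at hη ⊢
    exact ⟨Finset.mem_univ _, hU x⁻¹ η hη.2⟩
  · intro η _
    apply Subtype.ext
    show cj hN x⁻¹ (cj hN x η) = η
    rw [← cj_mul, mul_inv_cancel, cj_one]
  · intro η _
    apply Subtype.ext
    show cj hN x (cj hN x⁻¹ η) = η
    rw [← cj_mul, inv_mul_cancel, cj_one]
  · intro η _
    show _ = cj hN x η 1 * conj (cj hN x η n)
    rw [cj_one_apply]
    rfl

theorem isCen_emb_fIdem {U : Set (IrrCharacter N)}
    (hU : ∀ (x : G) (η : IrrCharacter N), η ∈ U → (⟨cj hN x η, isIrr_cj hN η.2 x⟩ : IrrCharacter N) ∈ U) :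
    IsCen (emb N (fIdem U)) := by
  intro g x
  by_cases hg : g ∈ N
  · have hg' : x * g * x⁻¹ ∈ N := hN.conj_mem g hg x
    show (emb N (fIdem U)).coeff (x * g * x⁻¹) = (emb N (fIdem U)).coeff g
    rw [coeff_emb_mem N _ hg, coeff_emb_mem N _ hg', coeff_fIdem, coeff_fIdem]
    exact blockCoeff_cj hN hU x ⟨g, hg⟩
  · have hg' : x * g * x⁻¹ ∉ N := fun h => hg (by
      have := hN.conj_mem _ h x⁻¹
      simpa [mul_assoc] using this)
    show (emb N (fIdem U)).coeff (x * g * x⁻¹) = (emb N (fIdem U)).coeff g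
    rw [coeff_emb_not_mem N _ hg, coeff_emb_not_mem N _ hg']

theorem omega_emb_fIdem [Fintype (IrrCharacter N)] (U : Set (IrrCharacter N))
    [DecidablePred (· ∈ U)] (χ : G → ℂ) :
    omega χ (emb N (fIdem U)) =
      (χ 1)⁻¹ * ∑ η : IrrCharacter N with η ∈ U, (η : N → ℂ) 1 *
        classInner (fun n : N => χ n) (η : N → ℂ) := by
  unfold omega
  rw [lin_emb, fIdem_eq_sum, map_sum, div_eq_inv_mul]
  congr 1
  refine Finset.sum_congr rfl fun η _ => ?_
  rw [lin_apply, classInner, Finset.mul_sum, Finset.mul_sum]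
  refine Finset.sum_congr rfl fun n _ => ?_
  rw [coeff_eIdem]
  ring

open Classical in
theorem omega_orbit {χ : G → ℂ} (hχ : IsIrrCharacter G χ) (θ : IrrCharacter N) :
    omega χ (emb N (fIdem {η : IrrCharacter N | ∃ x : G, cj hN x θ = η})) =
      if classInner (fun n : N => χ n) (θ : N → ℂ) = 0 then 0 else 1 := by
  have := Fintype.ofFinite (IrrCharacter N)
  have hU : ∀ (x : G) (η : IrrCharacter N), η ∈ {η : IrrCharacter N | ∃ x : G, cj hN x θ = η} →
      (⟨cj hN x η, isIrr_cj hN η.2 x⟩ : IrrCharacter N) ∈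
        {η : IrrCharacter N | ∃ x : G, cj hN x θ = η} := by
    rintro x η ⟨y, hy⟩
    refine ⟨y * x, ?_⟩
    rw [cj_mul, hy]
  have hcen := isCen_emb_fIdem hN hU
  have hidem : emb N (fIdem {η : IrrCharacter N | ∃ x : G, cj hN x θ = η}) *
      emb N (fIdem {η : IrrCharacter N | ∃ x : G, cj hN x θ = η}) =
      emb N (fIdem {η : IrrCharacter N | ∃ x : G, cj hN x θ = η}) := by
    rw [← map_mul, fIdem_mul_self]
  have hform := omega_emb_fIdem {η : IrrCharacter N | ∃ x : G, cj hN x θ = η} χ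
  split_ifs with h0
  · rw [hform, Finset.sum_eq_zero, mul_zero]
    intro η hη
    obtain ⟨x, hx⟩ := (Finset.mem_filter.mp hη).2
    rw [← hx, classInner_restrict_cj hN (irr_classFun hχ), h0, mul_zero]
  · rcases omega_idem hχ hcen hidem with h | h
    · exfalso
      rw [hform, mul_eq_zero, inv_eq_zero] at h
      rcases h with h | h
      · exact irr_one_ne_zero hχ h
      · have hnat : ∀ η : IrrCharacter N, ∃ n : ℕ, (η : N → ℂ) 1 *
            classInner (fun n : N => χ n) (η : N → ℂ) = n := by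
          intro η
          obtain ⟨a, ha⟩ := char_one_eq_nat (irr_isChar η.2)
          obtain ⟨b, hb⟩ := classInner_char_nat (isChar_restrict N (irr_isChar hχ)) (irr_isChar η.2)
          exact ⟨a * b, by rw [ha, hb]; push_cast; ring⟩
        choose f hf using hnat
        rw [Finset.sum_congr rfl fun η _ => hf η] at h
        have h1 : (∑ η : IrrCharacter N with
            η ∈ {η : IrrCharacter N | ∃ x : G, cj hN x θ = η}, f η) = 0 := by exact_mod_cast h
        rw [Finset.sum_eq_zero_iff] at h1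
        have h2 := h1 θ (Finset.mem_filter.mpr ⟨Finset.mem_univ _, 1, cj_one hN _⟩)
        have h3 := hf θ
        rw [h2, Nat.cast_zero, mul_eq_zero] at h3
        exact h3.elim (irr_one_ne_zero θ.2) h0
    · exact h

end orbit

theorem same_below_iff (hM : IsPModular p M) {N : Subgroup G} (hN : N.Normal) [Fintype N]
    (hpN : ¬ p ∣ Nat.card N) {χ ψ : IrrCharacter G}
    (h : SameBlock M (χ : G → ℂ) (ψ : G → ℂ)) (θ : IrrCharacter N) :
    classInner (fun n : N => (χ : G → ℂ) n) (θ : N → ℂ) ≠ 0 ↔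
      classInner (fun n : N => (ψ : G → ℂ) n) (θ : N → ℂ) ≠ 0 := by
  classical
  have hMp : M.IsPrime := pmod_isPrime hM
  have := Fintype.ofFinite (IrrCharacter N)
  have hU : ∀ (x : G) (η : IrrCharacter N), η ∈ {η : IrrCharacter N | ∃ x : G, cj hN x θ = η} →
      (⟨cj hN x η, isIrr_cj hN η.2 x⟩ : IrrCharacter N) ∈
        {η : IrrCharacter N | ∃ x : G, cj hN x θ = η} := by
    rintro x η ⟨y, hy⟩
    refine ⟨y * x, ?_⟩
    rw [cj_mul, hy]
  have hZS : IsZS M (emb N (fIdem {η : IrrCharacter N | ∃ x : G, cj hN x θ = η})) := by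
    refine ⟨isCen_emb_fIdem hN hU, lr_coeff_emb N fun n => ?_⟩
    rw [coeff_fIdem]
    unfold blockCoeff
    rw [finsum_mem_irr]
    refine lr_mul (lr_inv_natCast hM hpN) (lr_sum _ _ fun η _ => lr_mul (lr_char η.2 1) ?_)
    rw [← char_inv (irr_isChar η.2)]
    exact lr_char η.2 _
  have key := li_omega_sub hZS (irr_classFun χ.2) (irr_classFun ψ.2) h
  rw [omega_orbit hN χ.2 θ, omega_orbit hN ψ.2 θ] at key
  by_cases h1 : classInner (fun n : N => (χ : G → ℂ) n) (θ : N → ℂ) = 0 <;>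
  by_cases h2 : classInner (fun n : N => (ψ : G → ℂ) n) (θ : N → ℂ) = 0
  · simp [h1, h2]
  · rw [if_pos h1, if_neg h2, zero_sub] at key
    exact absurd (by simpa using li_neg key) (not_li_one M)
  · rw [if_neg h1, if_pos h2, sub_zero] at key
    exact absurd key (not_li_one M)
  · simp [h1, h2]

end Cfsg.Agent.H11
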