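import Cfsg.Agent.H11.Blk4
import Cfsg.Agent.H11.Misc1

/-!
Blocks and normal subgroups: constituents and central characters (helper11).
-/
set_option autoImplicit false

namespace Cfsg.Agent.H11

open Cfsg Cfsg.Agent.H3 Cfsg.Agent.H27 ComplexConjugate

universe u

variable {G : Type u} [Group G] [Fintype G] {p : ℕ} {M : Ideal AlgInt}

section

variable {N : Subgroup G} (hN : N.Normal) [Fintype N]

include hN in
omit [Fintype N] in
theorem indFun_one_eq (θ : N → ℂ) : indFun N θ 1 = (Nat.card N : ℂ)⁻¹ * (Nat.card G * θ 1) := by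
  have h := indFun_restrict_normal hN θ 1
  rw [Subgroup.coe_one] at h
  rw [h]
  congr 1
  simp only [cj_one_apply]
  rw [Finset.sum_const, Finset.card_univ, nsmul_eq_mul, Nat.card_eq_fintype_card]

include hN in
omit [Fintype N] in
theorem centralChar_ratio_iff (χ : G → ℂ) (θ : N → ℂ) (n : N) :
    centralChar χ (n : G) = inducedCentralChar N θ (n : G) ↔
      χ n / χ 1 = indFun N θ n / indFun N θ 1 := by
  rw [inducedCentralChar_eq]
  unfold centralChar
  have h0 : ((Subgroup.centralizer ({(n : G)} : Set G)).index : ℂ) ≠ 0 := by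
    exact_mod_cast Subgroup.index_ne_zero_of_finite
  rw [mul_div_assoc, mul_div_assoc]
  exact mul_right_inj' h0

include hN in
theorem below_iff (χ : IrrCharacter G) (θ : IrrCharacter N) :
    classInner (fun n : N => (χ : G → ℂ) n) (θ : N → ℂ) ≠ 0 ↔
      ∀ n : N, centralChar (χ : G → ℂ) (n : G) = inducedCentralChar N (θ : N → ℂ) (n : G) := by
  classical
  have hG0 : (Nat.card G : ℂ) ≠ 0 := by exact_mod_cast Nat.card_pos.ne'
  have hN0 : (Nat.card N : ℂ) ≠ 0 := by exact_mod_cast Nat.card_pos.ne'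
  have hθ1 : (θ : N → ℂ) 1 ≠ 0 := irr_one_ne_zero θ.2
  have hχ1 : (χ : G → ℂ) 1 ≠ 0 := irr_one_ne_zero χ.2
  have hind1 := indFun_one_eq hN (θ : N → ℂ)
  constructor
  · intro he n
    rw [centralChar_ratio_iff hN]
    have h1 := clifford_sum hN χ.2 θ.2 he
    have h2 := congrFun h1 n
    have h3 := congrFun h1 1
    simp only [Pi.smul_apply, Finset.sum_apply, smul_eq_mul] at h2 h3
    simp only [cj_one_apply] at h3
    rw [Finset.sum_const, Finset.card_univ, nsmul_eq_mul, ← Nat.card_eq_fintype_card,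
      Subgroup.coe_one] at h3
    have hI : (Nat.card (inertia hN (θ : N → ℂ)) : ℂ) ≠ 0 := by exact_mod_cast Nat.card_pos.ne'
    rw [indFun_restrict_normal hN, hind1]
    have e1 : (χ : G → ℂ) n = (Nat.card (inertia hN (θ : N → ℂ)) : ℂ)⁻¹ *
        (classInner (fun h : N => (χ : G → ℂ) h) (θ : N → ℂ) * ∑ x : G, cj hN x (θ : N → ℂ) n) := by
      rw [← h2]; field_simp
    have e2 : (χ : G → ℂ) 1 = (Nat.card (inertia hN (θ : N → ℂ)) : ℂ)⁻¹ *
        (classInner (fun h : N => (χ : G → ℂ) h) (θ : N → ℂ) * (Nat.card G * (θ : N → ℂ) 1)) := by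
      rw [← h3]; field_simp
    rw [e1, e2]
    field_simp
  · intro h
    have h1 : (fun n : N => (χ : G → ℂ) n) =
        ((χ : G → ℂ) 1 / indFun N (θ : N → ℂ) 1) • (fun n : N => indFun N (θ : N → ℂ) n) := by
      funext n
      have h2 := (centralChar_ratio_iff hN _ _ n).mp (h n)
      rw [Pi.smul_apply, smul_eq_mul]
      have h3 : indFun N (θ : N → ℂ) 1 ≠ 0 := by
        rw [hind1]
        exact mul_ne_zero (inv_ne_zero hN0) (mul_ne_zero hG0 hθ1)
      rw [div_eq_div_iff hχ1 h3] at h2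
      field_simp
      linear_combination h2
    have h3 : indFun N (θ : N → ℂ) 1 ≠ 0 := by
      rw [hind1]
      exact mul_ne_zero (inv_ne_zero hN0) (mul_ne_zero hG0 hθ1)
    rw [h1, classInner_smul_left]
    refine mul_ne_zero (div_ne_zero hχ1 h3) ?_
    have h6 : (fun h : N => indFun N (θ : N → ℂ) h) =
        (Nat.card N : ℂ)⁻¹ • ∑ x : G, cj hN x (θ : N → ℂ) := by
      funext h
      rw [indFun_restrict_normal hN]
      simp
    rw [h6, classInner_smul_left, classInner_sum_left]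
    refine mul_ne_zero (inv_ne_zero hN0) ?_
    rw [Finset.sum_congr rfl fun x _ => classInner_irr (isIrr_cj hN θ.2 x) θ.2, Finset.sum_boole]
    have : (1 : G) ∈ Finset.univ.filter (fun x : G => cj hN x (θ : N → ℂ) = θ) :=
      Finset.mem_filter.mpr ⟨Finset.mem_univ _, cj_one hN _⟩
    exact_mod_cast (Finset.card_pos.mpr ⟨1, this⟩).ne'

omit [Fintype G] in
theorem exists_below (χ : IrrCharacter G) :
    ∃ θ : IrrCharacter N, classInner (fun n : N => (χ : G → ℂ) n) (θ : N → ℂ) ≠ 0 := by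
  have h1 := isChar_restrict N (irr_isChar χ.2)
  have h2 : (fun n : N => (χ : G → ℂ) n) ≠ 0 := by
    intro h
    have := congrFun h 1
    rw [Subgroup.coe_one] at this
    exact irr_one_ne_zero χ.2 this
  obtain ⟨θ, hθ⟩ := exists_constituent h1 h2
  exact ⟨θ, hθ⟩

include hN in
/-- block determined by values on the `p`-regular elements of the complement. -/
theorem sameBlock_of_below (hM : IsPModular p M) {k : ℕ} (hidx : N.index = p ^ k)
    {χ ψ : IrrCharacter G} {θ : IrrCharacter N}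
    (h1 : classInner (fun n : N => (χ : G → ℂ) n) (θ : N → ℂ) ≠ 0)
    (h2 : classInner (fun n : N => (ψ : G → ℂ) n) (θ : N → ℂ) ≠ 0) :
    SameBlock M (χ : G → ℂ) (ψ : G → ℂ) := by
  classical
  have hMp : M.IsPrime := pmod_isPrime hM
  have := Fintype.ofFinite (ConjClasses G)
  have hB : IsPBlock M (blockOf M (χ : G → ℂ)) := ⟨χ, rfl⟩
  have h3 : omega (χ : G → ℂ) (fIdem (blockOf M (χ : G → ℂ))) =
      omega (ψ : G → ℂ) (fIdem (blockOf M (χ : G → ℂ))) := by
    rw [omega_eq_sum (isCen_fIdem _) (irr_classFun χ.2),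
      omega_eq_sum (isCen_fIdem _) (irr_classFun ψ.2)]
    refine Finset.sum_congr rfl fun C _ => ?_
    rw [coeff_fIdem]
    by_cases hC : p ∣ orderOf C.out
    · rw [blockCoeff_eq_zero hM hB _ hC, zero_mul, zero_mul]
    · have hmem : C.out ∈ N := mem_of_index_pow hM.1 hidx hC
      rw [(below_iff hN χ θ).mp h1 ⟨_, hmem⟩, (below_iff hN ψ θ).mp h2 ⟨_, hmem⟩]
  rw [omega_fIdem, omega_fIdem, if_pos (mem_blockOf_self χ)] at h3
  by_contra hcon
  rw [if_neg (show ψ ∉ blockOf M (χ : G → ℂ) from hcon)] at h3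
  exact one_ne_zero h3

end

/-- blocks of the quotient by a normal `p'`-subgroup. -/
theorem inflated_block (hM : IsPModular p M) (N : Subgroup G) [hN : N.Normal]
    (hpN : ¬ p ∣ Nat.card N) (χ : IrrCharacter (G ⧸ N)) (ψ : IrrCharacter G)
    (hψ : ψ ∈ blockOf M ((χ : G ⧸ N → ℂ) ∘ QuotientGroup.mk)) :
    ∃ ψ' : IrrCharacter (G ⧸ N), (ψ : G → ℂ) = (ψ' : G ⧸ N → ℂ) ∘ QuotientGroup.mk ∧
      SameBlock M (χ : G ⧸ N → ℂ) (ψ' : G ⧸ N → ℂ) := by
  classical
  have hMp : M.IsPrime := pmod_isPrime hM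
  have := Fintype.ofFinite (IrrCharacter G)
  have := Fintype.ofFinite (G ⧸ N)
  have := Fintype.ofFinite (IrrCharacter (G ⧸ N))
  have hinfl : ∀ η : IrrCharacter (G ⧸ N), IsIrrCharacter G ((η : G ⧸ N → ℂ) ∘ QuotientGroup.mk) := by
    intro η
    exact (isIrr_comp_surjective_iff (irr_isChar η.2) (QuotientGroup.mk' N)
      (QuotientGroup.mk'_surjective N)).mpr η.2
  let A : Set (IrrCharacter G) := {η | ∃ η' : IrrCharacter (G ⧸ N),
    (η : G → ℂ) = (η' : G ⧸ N → ℂ) ∘ QuotientGroup.mk ∧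
      SameBlock M (χ : G ⧸ N → ℂ) (η' : G ⧸ N → ℂ)}
  have hA : ∀ g : G, MemLocalRing M (blockCoeff A g) := by
    intro g
    have h1 : blockCoeff A g = (Nat.card N : ℂ)⁻¹ *
        blockCoeff (blockOf M (χ : G ⧸ N → ℂ)) (QuotientGroup.mk g : G ⧸ N) := by
      unfold blockCoeff
      rw [finsum_mem_irr, finsum_mem_irr, ← mul_assoc]
      have hcard : (Nat.card G : ℂ)⁻¹ = (Nat.card N : ℂ)⁻¹ * (Nat.card (G ⧸ N) : ℂ)⁻¹ := by
        rw [Subgroup.card_eq_card_quotient_mul_card_subgroup N]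
        push_cast
        rw [mul_inv, mul_comm]
      rw [← hcard]
      congr 1
      symm
      refine Finset.sum_bij (fun η _ => (⟨(η : G ⧸ N → ℂ) ∘ QuotientGroup.mk, hinfl η⟩ :
        IrrCharacter G)) ?_ ?_ ?_ ?_
      · intro η hη
        rw [Finset.mem_filter] at hη ⊢
        exact ⟨Finset.mem_univ _, η, rfl, hη.2⟩
      · intro η _ η' _ h
        apply Subtype.ext
        funext x
        obtain ⟨y, rfl⟩ := QuotientGroup.mk_surjective x
        exact congrFun (congrArg Subtype.val h) y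
      · intro η hη
        obtain ⟨η', h1, h2⟩ := (Finset.mem_filter.mp hη).2
        exact ⟨η', Finset.mem_filter.mpr ⟨Finset.mem_univ _, h2⟩, Subtype.ext h1.symm⟩
      · intro η _
        rfl
    rw [h1]
    exact lr_mul (lr_inv_natCast hM hpN) (lr_blockCoeff ⟨χ, rfl⟩ _)
  have h2 : (⟨(χ : G ⧸ N → ℂ) ∘ QuotientGroup.mk, hinfl χ⟩ : IrrCharacter G) ∈ A :=
    ⟨χ, rfl, sameBlock_refl _⟩
  exact blockOf_subset_of_lr hA h2 hψ

end Cfsg.Agent.H11
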