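import Cfsg.Agent.H11.Third4
import Cfsg.Agent.H11.Defect5
import Cfsg.Agent.H1.Cores
import Cfsg.Agent.H26.RegPart
import Mathlib.GroupTheory.Transfer

/-!
Principal block of a group with an abelian Sylow subgroup whose normalizer acts freely (helper11).
-/
set_option autoImplicit false

namespace Cfsg.Agent.H11

open Cfsg Cfsg.Agent.H3 Cfsg.Agent.H27 ComplexConjugate

universe u

section group

variable {G : Type u} [Group G] [Finite G] {p : ℕ} [hp : Fact p.Prime]

/-- The hypothesis: `P` is abelian and `N(P)/C(P)` acts freely on the nonidentity elements. -/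
structure FrobSyl (p : ℕ) (P : Sylow p G) : Prop where
  comm : ∀ x ∈ P, ∀ y ∈ P, x * y = y * x
  free : ∀ z ∈ P, z ≠ 1 → Subgroup.centralizer ({z} : Set G) ⊓
    Subgroup.normalizer ((P : Subgroup G) : Set G) ≤ Subgroup.centralizer ((P : Subgroup G) : Set G)

variable {P : Sylow p G}

omit [Finite G] hp in
theorem FrobSyl.le_centralizer (h : FrobSyl p P) {z : G} (hz : z ∈ P) :
    (P : Subgroup G) ≤ Subgroup.centralizer ({z} : Set G) := by
  intro x hx
  rw [Subgroup.mem_centralizer_singleton_iff]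
  exact h.comm x hx z hz

/-- the centralizer of a nonidentity element of `P` has a normal `p`-complement. -/
theorem FrobSyl.complement (h : FrobSyl p P) {z : G} (hz : z ∈ P) (hz1 : z ≠ 1) :
    ∃ k : ℕ, (pPrimeCore p (Subgroup.centralizer ({z} : Set G))).index = p ^ k := by
  classical
  obtain ⟨C, hC⟩ : ∃ C, C = Subgroup.centralizer ({z} : Set G) := ⟨_, rfl⟩
  rw [← hC]
  have hPC : (P : Subgroup G) ≤ C := by rw [hC]; exact h.le_centralizer hz
  have hN : Subgroup.normalizer ((P.subtype hPC : Subgroup C) : Set C) ≤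
      Subgroup.centralizer ((P.subtype hPC : Subgroup C) : Set C) := by
    intro n hn
    rw [Subgroup.mem_centralizer_iff]
    intro x hx
    have hxP : (x : G) ∈ (P : Subgroup G) := Subgroup.mem_subgroupOf.mp hx
    have hnN : (n : G) ∈ Subgroup.normalizer ((P : Subgroup G) : Set G) := by
      rw [Subgroup.mem_normalizer_iff]
      rw [Subgroup.mem_normalizer_iff] at hn
      intro y
      constructor
      · intro hy
        have := (hn ⟨y, hPC hy⟩).mp (Subgroup.mem_subgroupOf.mpr hy)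
        exact Subgroup.mem_subgroupOf.mp this
      · intro hy
        have hyC : y ∈ C := by
          have h1 : (n : G)⁻¹ * ((n : G) * y * (n : G)⁻¹) * n ∈ C :=
            C.mul_mem (C.mul_mem (C.inv_mem n.2) (hPC hy)) n.2
          have h2 : (n : G)⁻¹ * ((n : G) * y * (n : G)⁻¹) * n = y := by group
          rwa [h2] at h1
        exact Subgroup.mem_subgroupOf.mp ((hn ⟨y, hyC⟩).mpr (Subgroup.mem_subgroupOf.mpr hy))
    have hnC : (n : G) ∈ Subgroup.centralizer ({z} : Set G) := by rw [← hC]; exact n.2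
    have h1 := h.free z hz hz1 ⟨hnC, hnN⟩
    have h2 := Subgroup.mem_centralizer_iff.mp h1 x hxP
    exact Subtype.ext h2
  have hcompl := MonoidHom.ker_transferSylow_isComplement' (P.subtype hPC) hN
  obtain ⟨K, hK⟩ : ∃ K, K = (MonoidHom.transferSylow (P.subtype hPC) hN).ker := ⟨_, rfl⟩
  have hKn : K.Normal := by rw [hK]; infer_instance
  rw [← hK] at hcompl
  have hKc : (Nat.card K).Coprime p := by
    have := MonoidHom.not_dvd_card_ker_transferSylow (P.subtype hPC) hN
    rw [← hK] at this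
    exact ((Nat.Prime.coprime_iff_not_dvd hp.out).mpr this).symm
  have hle : K ≤ pPrimeCore p C := Cfsg.Agent.H1.le_pPrimeCore hKn hKc
  have hdvd : (pPrimeCore p C).index ∣ K.index := Subgroup.index_dvd_of_le hle
  have hidx : K.index = Nat.card (P.subtype hPC : Subgroup C) := by
    have h1 := hcompl.card_mul
    have h2 := K.card_mul_index
    rw [← h1] at h2
    exact Nat.eq_of_mul_eq_mul_left Nat.card_pos h2
  obtain ⟨n, hn⟩ := (P.subtype hPC).isPGroup'.exists_card_eq
  rw [hidx, hn] at hdvd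
  obtain ⟨k, -, hk⟩ := (Nat.dvd_prime_pow hp.out).mp hdvd
  exact ⟨k, hk⟩

omit [Finite G] in
theorem mem_sylow_order {x : G} (hx : x ∈ P) : ∃ k : ℕ, orderOf x = p ^ k := by
  obtain ⟨k, hk⟩ := (IsPGroup.iff_orderOf.mp P.isPGroup') ⟨x, hx⟩
  exact ⟨k, by rw [← hk, Subgroup.orderOf_mk]⟩

theorem exists_conj_mem_sylow (P : Sylow p G) {x : G} (hx : ∃ k : ℕ, orderOf x = p ^ k) :
    ∃ c : G, c * x * c⁻¹ ∈ P := by
  obtain ⟨k, hk⟩ := hx
  have h1 : IsPGroup p (Subgroup.zpowers x) := by
    apply IsPGroup.of_card (n := k)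
    rw [Nat.card_zpowers, hk]
  obtain ⟨Q, hQ⟩ := h1.exists_le_sylow
  obtain ⟨c, hc⟩ := MulAction.exists_smul_eq G Q P
  refine ⟨c, ?_⟩
  rw [← hc]
  exact Subgroup.smul_mem_pointwise_smul x (MulAut.conj c) (Q : Subgroup G)
    (hQ (Subgroup.mem_zpowers x))

end group

section block

variable {G : Type u} [Group G] [Fintype G] {p : ℕ} [hp : Fact p.Prime] {M : Ideal AlgInt}
  {P : Sylow p G}

theorem FrobSyl.const (hM : IsPModular p M) (h : FrobSyl p P) {z : G} (hz : z ∈ P) (hz1 : z ≠ 1)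
    {v : G} (hv : z * v = v * z) (hvp : ¬ p ∣ orderOf v) {χ : IrrCharacter G}
    (hχ : χ ∈ principalBlock M G) : (χ : G → ℂ) (z * v) = (χ : G → ℂ) z := by
  obtain ⟨k, hk⟩ := h.complement hz hz1
  have hvC : v ∈ Subgroup.centralizer ({z} : Set G) := by
    rw [Subgroup.mem_centralizer_singleton_iff]
    exact hv.symm
  have hcop : ¬ p ∣ Nat.card (pPrimeCore p (Subgroup.centralizer ({z} : Set G))) :=
    (Nat.Prime.coprime_iff_not_dvd hp.out).mp (Cfsg.Agent.H1.pPrimeCore_coprime p _).symm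
  have hn : (pPrimeCore p (Subgroup.centralizer ({z} : Set G))).Normal :=
    Cfsg.Agent.H1.pPrimeCore_normal p _
  have hmem : (⟨v, hvC⟩ : Subgroup.centralizer ({z} : Set G)) ∈
      pPrimeCore p (Subgroup.centralizer ({z} : Set G)) := by
    refine mem_of_index_pow hp.out hk ?_
    rwa [Subgroup.orderOf_mk]
  exact principal_const hM (mem_sylow_order hz) hcop hmem hχ

theorem FrobSyl.exists_ne (hM : IsPModular p M) (h : FrobSyl p P) (hpG : p ∣ Nat.card G)
    {χ : IrrCharacter G} (hχ : χ ∈ principalBlock M G) :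
    ∃ z ∈ P, z ≠ 1 ∧ (χ : G → ℂ) z ≠ 0 := by
  classical
  have hMp : M.IsPrime := pmod_isPrime hM
  by_contra hcon
  push Not at hcon
  have hvan : ∀ g : G, p ∣ orderOf g → (χ : G → ℂ) g = 0 := by
    intro g hg
    obtain ⟨x, hx⟩ := exists_isPPart hp.out g
    have hx1 : x ≠ 1 := fun h1 => (isPPart_eq_one_iff hp.out hx).mp h1 hg
    obtain ⟨y, hxy, hcomm, hxp, hyp⟩ := hx
    obtain ⟨c, hc⟩ := exists_conj_mem_sylow P hxp
    have h1 : c * g * c⁻¹ = (c * x * c⁻¹) * (c * y * c⁻¹) := by rw [← hxy]; group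
    have h2 : (c * x * c⁻¹) * (c * y * c⁻¹) = (c * y * c⁻¹) * (c * x * c⁻¹) := by
      have := hcomm.eq
      calc (c * x * c⁻¹) * (c * y * c⁻¹) = c * (x * y) * c⁻¹ := by group
        _ = c * (y * x) * c⁻¹ := by rw [this]
        _ = _ := by group
    have h3 : c * x * c⁻¹ ≠ 1 := by
      intro h4
      apply hx1
      have : x = c⁻¹ * (c * x * c⁻¹) * c := by group
      rw [this, h4]; group
    rw [← irr_classFun χ.2 g c, h1, h.const hM hc h3 h2 (by rwa [orderOf_conj]) hχ]
    exact hcon _ hc h3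
  obtain ⟨k, hk⟩ := Cfsg.Agent.H26.isGen_sylow_dvd (p := p) (isGen_of_irr χ.2) hvan
  have h1 : (Nat.card G).factorization p ≤ (charDegree (χ : G → ℂ)).factorization p := by
    have h2 := charDegree_cast (irr_isChar χ.2)
    rw [← h2] at hk
    have h3 : (charDegree (χ : G → ℂ) : ℤ) = (p ^ (Nat.card G).factorization p : ℕ) * k := by
      exact_mod_cast hk
    have h4 : p ^ (Nat.card G).factorization p ∣ charDegree (χ : G → ℂ) := by
      have : ((p ^ (Nat.card G).factorization p : ℕ) : ℤ) ∣ (charDegree (χ : G → ℂ) : ℤ) :=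
        ⟨k, h3⟩
      exact_mod_cast this
    exact (hp.out.pow_dvd_iff_le_factorization (charDegree_spec χ.2).2).mp h4
  have h2 := blockOf_eq_singleton hM h1
  have h3 : (⟨fun _ => 1, isIrr_one⟩ : IrrCharacter G) ∈ blockOf M (χ : G → ℂ) :=
    sameBlock_symm hχ
  rw [h2, Set.mem_singleton_iff] at h3
  have hne : (P : Subgroup G) ≠ ⊥ := P.ne_bot_of_dvd_card hpG
  obtain ⟨⟨z, hz⟩, hz1⟩ := Subgroup.ne_bot_iff_exists_ne_one.mp hne
  have h4 := hcon z hz (fun h => hz1 (Subtype.ext h))
  rw [← h3] at h4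
  exact one_ne_zero h4

theorem FrobSyl.card_centralizer (h : FrobSyl p P) {z : G} (hz : z ∈ P) :
    p ^ (Nat.card (Subgroup.centralizer ({z} : Set G))).factorization p =
      Nat.card (P : Subgroup G) := by
  have hPC := h.le_centralizer hz
  have h1 := (P.subtype hPC).card_eq_multiplicity
  rw [← h1]
  exact Nat.card_congr (Subgroup.subgroupOfEquivOfLe hPC).toEquiv

open Classical in
theorem FrobSyl.ortho (hM : IsPModular p M) (h : FrobSyl p P) [Fintype (IrrCharacter G)]
    {z z' : G} (hz : z ∈ P) (hz1 : z ≠ 1) (hz' : z' ∈ P) (_hz1' : z' ≠ 1) :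
    ∑ χ : IrrCharacter G with χ ∈ principalBlock M G, (χ : G → ℂ) z * conj ((χ : G → ℂ) z') =
      if IsConj z z' then (Nat.card (P : Subgroup G) : ℂ) else 0 := by
  split_ifs with hc
  · have h1 : ∀ χ : IrrCharacter G, (χ : G → ℂ) z' = (χ : G → ℂ) z := fun χ =>
      (classFun_isConj (irr_classFun χ.2) hc).symm
    simp only [h1]
    obtain ⟨k, hk⟩ := h.complement hz hz1
    have hcop : ¬ p ∣ Nat.card (pPrimeCore p (Subgroup.centralizer ({z} : Set G))) :=
      (Nat.Prime.coprime_iff_not_dvd hp.out).mp (Cfsg.Agent.H1.pPrimeCore_coprime p _).symm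
    have h2 := principal_sum_sq hM (mem_sylow_order hz) (1 : Subgroup.centralizer ({z} : Set G))
      (by rw [orderOf_one]; exact hp.out.one_lt.ne' ∘ Nat.dvd_one.mp)
    have h3 := principal_sum_sq_complement hM hcop hk
      (y := (1 : Subgroup.centralizer ({z} : Set G)))
      (by rw [orderOf_one]; exact hp.out.one_lt.ne' ∘ Nat.dvd_one.mp)
    rw [h3, h.card_centralizer hz, Subgroup.coe_one, mul_one] at h2
    have h4 := finsum_sq_eq (principalBlock M G) z
    rw [h2] at h4
    rw [show ((Nat.card (P : Subgroup G) : ℕ) : ℂ) = ((Nat.card (P : Subgroup G) : ℝ) : ℂ) by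
      push_cast; rfl, h4]
    exact Finset.sum_congr rfl fun χ _ => mul_comm _ _
  · have h1 := block_orthogonality hM (isPPart_self hp.out (mem_sylow_order hz).choose_spec)
      (isPPart_self hp.out (mem_sylow_order hz').choose_spec) hc
      (principalBlock_isPBlock (M := M) (G := G))
    rw [finsum_mem_irr] at h1
    rw [← h1]
    refine Finset.sum_congr rfl fun χ _ => ?_
    rw [char_inv (irr_isChar χ.2)]

end block

end Cfsg.Agent.H11
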