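import Cfsg.Agent.H11.FB1

/-!
Abelian Sylow subgroups: elements of the normalizer acting trivially on elements of order `p`;
Sylow 2-subgroups with three involutions (helper11).
-/
set_option autoImplicit false

namespace Cfsg.Agent.H11

universe u

variable {G : Type u} [Group G] [Finite G] {p : ℕ} [hp : Fact p.Prime] {P : Sylow p G}

/-- some power prime to `p` of an element of the normalizer centralizes `P` abelian. -/
theorem exists_pow_centralizes (hab : ∀ x ∈ P, ∀ y ∈ P, x * y = y * x) {n : G}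
    (hn : n ∈ Subgroup.normalizer ((P : Subgroup G) : Set G)) :
    ∃ m : ℕ, ¬ p ∣ m ∧ ∀ y ∈ P, n ^ m * y = y * n ^ m := by
  obtain ⟨a, m, hm, ham⟩ := Nat.exists_eq_pow_mul_and_not_dvd (orderOf_pos n).ne' p hp.out.ne_one
  refine ⟨m, hm, ?_⟩
  have h1 : IsPGroup p (Subgroup.zpowers (n ^ m)) := by
    have h2 : (n ^ m) ^ p ^ a = 1 := by
      rw [← pow_mul, mul_comm, ← ham, pow_orderOf_eq_one]
    obtain ⟨k, -, hk⟩ := (Nat.dvd_prime_pow hp.out).mp (orderOf_dvd_of_pow_eq_one h2)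
    exact IsPGroup.of_card (n := k) (by rw [Nat.card_zpowers, hk])
  have h2 : n ^ m ∈ Subgroup.zpowers (n ^ m) ⊓ Subgroup.normalizer ((P : Subgroup G) : Set G) :=
    ⟨Subgroup.mem_zpowers _, Subgroup.pow_mem _ hn m⟩
  have h3 := (h1.inf_normalizer_sylow P).le h2
  intro y hy
  exact hab _ h3.2 y hy

omit [Finite G] in
theorem conj_pow_eq {n y t : G} (h1 : n * y * n⁻¹ = t * y) (h2 : n * t * n⁻¹ = t) (j : ℕ) :
    n ^ j * y * (n ^ j)⁻¹ = t ^ j * y := by
  induction j with
  | zero => simp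
  | succ j ih =>
    have e1 : n ^ (j + 1) * y * (n ^ (j + 1))⁻¹ = n * (n ^ j * y * (n ^ j)⁻¹) * n⁻¹ := by
      rw [pow_succ']; group
    rw [e1, ih]
    have h3 : n * t ^ j * n⁻¹ = t ^ j := by
      have := congrArg (fun z => z ^ j) h2
      simp only [conj_pow] at this
      exact this
    calc n * (t ^ j * y) * n⁻¹ = (n * t ^ j * n⁻¹) * (n * y * n⁻¹) := by group
      _ = t ^ j * (t * y) := by rw [h3, h1]
      _ = t ^ (j + 1) * y := by rw [pow_succ, mul_assoc]

theorem fixed_of_quasi (hab : ∀ x ∈ P, ∀ y ∈ P, x * y = y * x) {n : G}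
    (hn : n ∈ Subgroup.normalizer ((P : Subgroup G) : Set G)) {y t : G} (hy : y ∈ P)
    (h1 : n * y * n⁻¹ = t * y) (h2 : n * t * n⁻¹ = t) (h3 : t ^ p = 1) : t = 1 := by
  obtain ⟨m, hm, hmc⟩ := exists_pow_centralizes hab hn
  have h4 := conj_pow_eq h1 h2 m
  rw [hmc y hy, mul_inv_cancel_right] at h4
  have h5 : t ^ m = 1 := by
    have := congrArg (fun z => z * y⁻¹) h4
    simpa using this.symm
  have h6 : orderOf t ∣ Nat.gcd p m :=
    Nat.dvd_gcd (orderOf_dvd_of_pow_eq_one h3) (orderOf_dvd_of_pow_eq_one h5)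
  rw [(Nat.Prime.coprime_iff_not_dvd hp.out).mpr hm] at h6
  exact orderOf_eq_one_iff.mp (Nat.dvd_one.mp h6)

/-- Acting trivially on the elements of order `p` implies acting trivially. -/
theorem centralizes_of_omega (hab : ∀ x ∈ P, ∀ y ∈ P, x * y = y * x) {n : G}
    (hn : n ∈ Subgroup.normalizer ((P : Subgroup G) : Set G))
    (h : ∀ t ∈ P, t ^ p = 1 → n * t * n⁻¹ = t) :
    n ∈ Subgroup.centralizer ((P : Subgroup G) : Set G) := by
  have key : ∀ k : ℕ, ∀ y ∈ P, y ^ p ^ k = 1 → n * y * n⁻¹ = y := by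
    intro k
    induction k with
    | zero =>
      intro y _ h1
      rw [pow_zero, pow_one] at h1
      rw [h1]; group
    | succ k ih =>
      intro y hy h1
      have hyp : y ^ p ∈ P := P.pow_mem hy p
      have h2 : n * y ^ p * n⁻¹ = y ^ p := ih _ hyp (by rw [← pow_mul, ← pow_succ']; exact h1)
      have hny : n * y * n⁻¹ ∈ P := (Subgroup.mem_normalizer_iff.mp hn y).mp hy
      obtain ⟨t, ht⟩ : ∃ t, t = n * y * n⁻¹ * y⁻¹ := ⟨_, rfl⟩
      have htP : t ∈ P := by rw [ht]; exact P.mul_mem hny (P.inv_mem hy)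
      have h3 : n * y * n⁻¹ = t * y := by rw [ht]; group
      have h4 : t ^ p = 1 := by
        have hc : Commute (n * y * n⁻¹) y⁻¹ := hab _ hny _ (P.inv_mem hy)
        rw [ht, hc.mul_pow, conj_pow, h2, inv_pow, mul_inv_cancel]
      have h5 := fixed_of_quasi hab hn hy h3 (h t htP h4) h4
      rw [h3, h5, one_mul]
  rw [Subgroup.mem_centralizer_iff]
  intro y hy
  obtain ⟨k, hk⟩ := mem_sylow_order hy
  have h1 := key k y hy (by rw [← hk]; exact pow_orderOf_eq_one y)
  exact (mul_inv_eq_iff_eq_mul.mp h1).symm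

/-- Three involutions. -/
structure ThreeInv (S : Subgroup G) (a b : G) : Prop where
  ha : a ∈ S
  hb : b ∈ S
  a_ne : a ≠ 1
  b_ne : b ≠ 1
  ab_ne : a ≠ b
  a_sq : a ^ 2 = 1
  b_sq : b ^ 2 = 1
  all : ∀ t ∈ S, t ^ 2 = 1 → t ≠ 1 → t = a ∨ t = b ∨ t = a * b

theorem ThreeInv.fix {P : Sylow 2 G} {a b : G} (hT : ThreeInv (P : Subgroup G) a b)
    (hab : ∀ x ∈ P, ∀ y ∈ P, x * y = y * x) {n s : G}
    (hn : n ∈ Subgroup.normalizer ((P : Subgroup G) : Set G)) (hs : s ∈ P) (hs2 : s ^ 2 = 1)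
    (hs1 : s ≠ 1) (hns : n * s * n⁻¹ = s) :
    n ∈ Subgroup.centralizer ((P : Subgroup G) : Set G) := by
  refine centralizes_of_omega hab hn ?_
  intro t ht ht2
  -- `t` and `n t n⁻¹` are involutions
  by_cases ht1 : t = 1
  · rw [ht1]; group
  by_cases hts : t = s
  · rw [hts]; exact hns
  obtain ⟨t', ht'⟩ : ∃ t', t' = n * t * n⁻¹ := ⟨_, rfl⟩
  have ht'P : t' ∈ P := by rw [ht']; exact (Subgroup.mem_normalizer_iff.mp hn t).mp ht
  have ht'2 : t' ^ 2 = 1 := by rw [ht', conj_pow, ht2]; group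
  have ht'1 : t' ≠ 1 := by
    intro h
    apply ht1
    have : t = n⁻¹ * t' * n := by rw [ht']; group
    rw [this, h]; group
  have ht's : t' ≠ s := by
    intro h
    apply hts
    calc t = n⁻¹ * t' * n := by rw [ht']; group
      _ = n⁻¹ * (n * s * n⁻¹) * n := by rw [h, hns]
      _ = s := by group
  -- the other involutions are `t` and `t s`
  have key : t' = t ∨ t' = s * t := by
    have c1 := hT.all s hs hs2 hs1
    have c2 := hT.all t ht ht2 ht1
    have c3 := hT.all t' ht'P ht'2 ht'1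
    have haa : a * a = 1 := by rw [← sq]; exact hT.a_sq
    have hbb : b * b = 1 := by rw [← sq]; exact hT.b_sq
    have hba : b * a = a * b := hab b hT.hb a hT.ha
    have e1 : a * (a * b) = b := by rw [← mul_assoc, haa, one_mul]
    have e2 : (a * b) * a = b := by rw [mul_assoc, hba, ← mul_assoc, haa, one_mul]
    have e3 : b * (a * b) = a := by rw [← mul_assoc, hba, mul_assoc, hbb, mul_one]
    have e4 : (a * b) * b = a := by rw [mul_assoc, hbb, mul_one]
    rcases c1 with c1 | c1 | c1 <;> rcases c2 with c2 | c2 | c2 <;> rcases c3 with c3 | c3 | c3 <;>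
    first
      | exact absurd (c2.trans c1.symm) hts
      | exact absurd (c3.trans c1.symm) ht's
      | exact Or.inl (c3.trans c2.symm)
      | (refine Or.inr ?_; rw [c1, c2, c3]; done)
      | (refine Or.inr ?_; rw [c1, c2, c3]; exact hba.symm)
      | (refine Or.inr ?_; rw [c1, c2, c3]; exact e1.symm)
      | (refine Or.inr ?_; rw [c1, c2, c3]; exact e2.symm)
      | (refine Or.inr ?_; rw [c1, c2, c3]; exact e3.symm)
      | (refine Or.inr ?_; rw [c1, c2, c3]; exact e4.symm)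
  rcases key with h | h
  · rw [← ht', h]
  · have h5 := fixed_of_quasi hab hn ht (by rw [← ht']; exact h) hns hs2
    exact absurd h5 hs1

theorem ThreeInv.frobSyl {P : Sylow 2 G} {a b : G} (hT : ThreeInv (P : Subgroup G) a b)
    (hab : ∀ x ∈ P, ∀ y ∈ P, x * y = y * x) : FrobSyl 2 P := by
  refine ⟨hab, ?_⟩
  rintro z hz hz1 n ⟨hnz, hn⟩
  obtain ⟨k, hk⟩ := mem_sylow_order hz
  have hk0 : k ≠ 0 := by
    rintro rfl
    rw [pow_zero, orderOf_eq_one_iff] at hk
    exact hz1 hk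
  obtain ⟨j, rfl⟩ := Nat.exists_eq_succ_of_ne_zero hk0
  have hzj : z ^ 2 ^ j ≠ 1 := by
    intro h
    have := orderOf_dvd_of_pow_eq_one h
    rw [hk] at this
    have := Nat.le_of_dvd (by positivity) this
    have h3 : 2 ^ j < 2 ^ (j + 1) := Nat.pow_lt_pow_right (by norm_num) (Nat.lt_succ_self j)
    omega
  refine hT.fix hab hn (P.pow_mem hz (2 ^ j)) ?_ hzj ?_
  · rw [← pow_mul, ← pow_succ, ← hk, pow_orderOf_eq_one]
  · have h1 : n * z = z * n := Subgroup.mem_centralizer_singleton_iff.mp hnz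
    rw [← conj_pow]
    rw [mul_inv_eq_iff_eq_mul.mpr h1]

end Cfsg.Agent.H11
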