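import Cfsg.Agent.H11.FB2
import Cfsg.Agent.H11.Misc1

/-!
Klein four Sylow 2-subgroup, one class of involutions: the principal 2-block (helper11).
-/
set_option autoImplicit false

namespace Cfsg.Agent.H11

open Cfsg Cfsg.Agent.H3 Cfsg.Agent.H27 ComplexConjugate

universe u

section

variable {G : Type u} [Group G] [Finite G]

theorem klein_comm {P : Sylow 2 G} (hP : IsKleinFour (P : Subgroup G)) :
    ∀ x ∈ P, ∀ y ∈ P, x * y = y * x := by
  intro x hx y hy
  have := (IsKleinFour.isMulCommutative (G := (P : Subgroup G))).1.1 ⟨x, hx⟩ ⟨y, hy⟩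
  exact congrArg Subtype.val this

theorem klein_sq {P : Sylow 2 G} (hP : IsKleinFour (P : Subgroup G)) {x : G} (hx : x ∈ P) :
    x ^ 2 = 1 := by
  rw [sq]
  exact congrArg Subtype.val (IsKleinFour.mul_self (⟨x, hx⟩ : (P : Subgroup G)))

theorem klein_threeInv {P : Sylow 2 G} (hP : IsKleinFour (P : Subgroup G)) :
    ∃ a b, ThreeInv (P : Subgroup G) a b := by
  classical
  have hcard : Nat.card (P : Subgroup G) = 4 := IsKleinFour.card_four
  have := Fintype.ofFinite (P : Subgroup G)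
  rw [Nat.card_eq_fintype_card] at hcard
  obtain ⟨a, ha⟩ : ∃ a : (P : Subgroup G), a ∉ ({1} : Finset (P : Subgroup G)) := by
    by_contra h
    push Not at h
    have : (Finset.univ : Finset (P : Subgroup G)) ⊆ {1} := fun x _ => h x
    have := Finset.card_le_card this
    rw [Finset.card_univ, hcard, Finset.card_singleton] at this
    omega
  obtain ⟨b, hb⟩ : ∃ b : (P : Subgroup G), b ∉ ({1, a} : Finset (P : Subgroup G)) := by
    by_contra h
    push Not at h
    have : (Finset.univ : Finset (P : Subgroup G)) ⊆ {1, a} := fun x _ => h x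
    have := (Finset.card_le_card this).trans (Finset.card_insert_le _ _)
    rw [Finset.card_univ, hcard, Finset.card_singleton] at this
    omega
  rw [Finset.mem_singleton] at ha
  simp only [Finset.mem_insert, Finset.mem_singleton, not_or] at hb
  refine ⟨a, b, a.2, b.2, fun h => ha (Subtype.ext h), fun h => hb.1 (Subtype.ext h),
    fun h => hb.2 (Subtype.ext h.symm), klein_sq hP a.2, klein_sq hP b.2, ?_⟩
  intro t ht _ ht1
  by_cases h1 : t = a
  · exact Or.inl h1
  by_cases h2 : t = b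
  · exact Or.inr (Or.inl h2)
  right; right
  have := IsKleinFour.eq_mul_of_ne_all (x := a) (y := b) (z := ⟨t, ht⟩) ha
    hb.1 (fun h => hb.2 h.symm) (fun h => ht1 (congrArg Subtype.val h))
    (fun h => h1 (congrArg Subtype.val h)) (fun h => h2 (congrArg Subtype.val h))
  exact congrArg Subtype.val this

end

section

variable {G : Type u} [Group G] [Fintype G] {M : Ideal AlgInt}

theorem sum_sq_three {ι : Type*} [DecidableEq ι] (s : Finset ι) (n : ι → ℤ) (h0 : ∀ i ∈ s, n i ≠ 0)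
    (h : ∑ i ∈ s, n i * n i = 3) : s.card = 3 ∧ ∀ i ∈ s, n i = 1 ∨ n i = -1 := by
  have hpos : ∀ i ∈ s, 1 ≤ n i * n i := by
    intro i hi
    have := h0 i hi
    have h1 : 0 < n i * n i := mul_self_pos.mpr this
    omega
  have hone : ∀ i ∈ s, n i = 1 ∨ n i = -1 := by
    intro i hi
    have h1 : n i * n i ≤ 3 := by
      rw [← h]
      exact Finset.single_le_sum (f := fun i => n i * n i) (fun j _ => mul_self_nonneg _) hi
    have h2 : n i ≤ 1 := by nlinarith
    have h3 : -1 ≤ n i := by nlinarith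
    have := h0 i hi
    omega
  refine ⟨?_, hone⟩
  have h1 : ∀ i ∈ s, n i * n i = 1 := by
    intro i hi
    rcases hone i hi with h | h <;> rw [h] <;> norm_num
  rw [Finset.sum_congr rfl h1, Finset.sum_const] at h
  have h' : (s.card : ℤ) = 3 := by simpa using h
  exact_mod_cast h'

/-- the statement on the four characters. -/
def KleinData (M : Ideal AlgInt) (ζ₂ ζ₃ ζ₄ : IrrCharacter G) (ε : ℤ) : Prop :=
  (ε = 1 ∨ ε = -1) ∧ (ζ₂ : G → ℂ) ≠ (fun _ => 1) ∧ (ζ₃ : G → ℂ) ≠ (fun _ => 1) ∧ ζ₂ ≠ ζ₃ ∧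
    ζ₂ ≠ ζ₄ ∧ ζ₃ ≠ ζ₄ ∧
    principalBlock M G = {χ : IrrCharacter G | (χ : G → ℂ) = (fun _ => 1) ∨ χ = ζ₂ ∨ χ = ζ₃ ∨ χ = ζ₄} ∧
    (∀ z : G, orderOf z = 2 → (ζ₂ : G → ℂ) z = 1 ∧ (ζ₃ : G → ℂ) z = (ε : ℂ) ∧
      (ζ₄ : G → ℂ) z = -1) ∧
    (4 : ℤ) ∣ (charDegree (ζ₂ : G → ℂ) : ℤ) - 1 ∧ (4 : ℤ) ∣ (charDegree (ζ₃ : G → ℂ) : ℤ) - ε ∧
    (4 : ℤ) ∣ (charDegree (ζ₄ : G → ℂ) : ℤ) + 1 ∧
    ∀ y : G, Odd (orderOf y) → 1 + (ζ₂ : G → ℂ) y + (ε : ℂ) * (ζ₃ : G → ℂ) y - (ζ₄ : G → ℂ) y = 0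

theorem klein_principal (hM : IsPModular 2 M) (P : Sylow 2 G) (hP : IsKleinFour (P : Subgroup G))
    (hone : ∀ s t : G, orderOf s = 2 → orderOf t = 2 → IsConj s t) :
    ∃ ζ₂ ζ₃ ζ₄ : IrrCharacter G, ∃ ε : ℤ, KleinData M ζ₂ ζ₃ ζ₄ ε := by
  classical
  have hMp : M.IsPrime := pmod_isPrime hM
  have := Fintype.ofFinite (IrrCharacter G)
  obtain ⟨a, b, hT⟩ := klein_threeInv hP
  have hFS := hT.frobSyl (klein_comm hP)
  have hPcard : Nat.card (P : Subgroup G) = 4 := IsKleinFour.card_four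
  have h2G : 2 ∣ Nat.card G := by
    have h1 : Nat.card (P : Subgroup G) ∣ Nat.card G := Subgroup.card_subgroup_dvd_card _
    rw [hPcard] at h1
    exact dvd_trans ⟨2, rfl⟩ h1
  have hord : ∀ z ∈ P, z ≠ 1 → orderOf z = 2 := by
    intro z hz hz1
    exact orderOf_eq_prime (klein_sq hP hz) hz1
  have hza := hord a hT.ha hT.a_ne
  -- integer values
  have hint : ∀ χ : IrrCharacter G, ∃ n : ℤ, ∀ z : G, orderOf z = 2 → (χ : G → ℂ) z = (n : ℂ) := by
    intro χ
    obtain ⟨n, hn, -⟩ := char_involution (irr_isChar χ.2) hza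
    refine ⟨n, fun z hz => ?_⟩
    rw [← hn]
    exact (classFun_isConj (irr_classFun χ.2) (hone z a hz hza))
  choose n hn using hint
  have hn0 : ∀ χ ∈ principalBlock M G, n χ ≠ 0 := by
    intro χ hχ h0
    obtain ⟨z, hz, hz1, hne⟩ := hFS.exists_ne hM h2G hχ
    rw [hn χ z (hord z hz hz1), h0] at hne
    simp at hne
  obtain ⟨B, hB⟩ : ∃ B : Finset (IrrCharacter G), B = Finset.univ.filter
    (fun χ : IrrCharacter G => χ ∈ principalBlock M G) := ⟨_, rfl⟩
  have hmemB : ∀ χ, χ ∈ B ↔ χ ∈ principalBlock M G := by intro χ; rw [hB]; simp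
  obtain ⟨τ, hτ⟩ : ∃ τ : IrrCharacter G, τ = ⟨fun _ => 1, isIrr_one⟩ := ⟨_, rfl⟩
  have hτB : τ ∈ B := by rw [hmemB, hτ]; exact mem_blockOf_self (⟨fun _ => 1, isIrr_one⟩ : IrrCharacter G)
  have hnτ : n τ = 1 := by
    have := hn τ a hza
    rw [hτ] at this
    have h1 : (1 : ℂ) = (n ⟨fun _ => 1, isIrr_one⟩ : ℂ) := this
    rw [hτ]
    exact_mod_cast h1.symm
  have hsum : ∑ χ ∈ B, n χ * n χ = 4 := by
    have h1 := hFS.ortho hM hT.ha hT.a_ne hT.ha hT.a_ne
    rw [if_pos (IsConj.refl a), hPcard, ← hB] at h1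
    have h2 : ∀ χ ∈ B, (χ : G → ℂ) a * conj ((χ : G → ℂ) a) = ((n χ * n χ : ℤ) : ℂ) := by
      intro χ _
      rw [hn χ a hza]
      push_cast
      rw [map_intCast (starRingEnd ℂ)]
    rw [Finset.sum_congr rfl h2] at h1
    exact_mod_cast h1
  obtain ⟨B', hB'⟩ : ∃ B', B' = B.erase τ := ⟨_, rfl⟩
  have hsum' : ∑ χ ∈ B', n χ * n χ = 3 := by
    rw [← Finset.add_sum_erase _ _ hτB, hnτ, ← hB'] at hsum
    linarith
  obtain ⟨hcard3, hpm⟩ := sum_sq_three B' n (fun χ hχ => hn0 χ ((hmemB χ).mp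
    (Finset.mem_of_mem_erase (hB' ▸ hχ)))) hsum'
  -- orthogonality
  have horth : ∀ y : G, ¬ 2 ∣ orderOf y → 1 + ∑ χ ∈ B', (χ : G → ℂ) y * (n χ : ℂ) = 0 := by
    intro y hy
    have h1 := weak_block_orthogonality hM (B := principalBlock M G) principalBlock_isPBlock y a hy
      (by rw [hza])
    rw [finsum_mem_irr, ← hB, ← Finset.add_sum_erase _ _ hτB, ← hB'] at h1
    rw [← h1]
    congr 1
    · rw [hn τ a hza, hnτ, hτ]
      simp
    · refine Finset.sum_congr rfl fun χ _ => ?_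
      rw [hn χ a hza, map_intCast (starRingEnd ℂ)]
  -- degrees
  have hdeg : ∀ χ : IrrCharacter G, (4 : ℤ) ∣ (charDegree (χ : G → ℂ) : ℤ) - n χ := by
    intro χ
    have := Fintype.ofFinite (P : Subgroup G)
    obtain ⟨k, hk⟩ := classInner_char_nat (isChar_restrict (P : Subgroup G) (irr_isChar χ.2))
      (isChar_one (G := (P : Subgroup G)))
    unfold classInner at hk
    rw [hPcard] at hk
    have h1 : ∑ g : (P : Subgroup G), (fun h : (P : Subgroup G) => (χ : G → ℂ) h) g *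
        conj ((fun _ : (P : Subgroup G) => (1 : ℂ)) g) =
        (χ : G → ℂ) 1 + 3 * (n χ : ℂ) := by
      rw [← Finset.add_sum_erase _ _ (Finset.mem_univ (1 : (P : Subgroup G)))]
      congr 1
      · simp
      · have h2 : ∀ g ∈ Finset.univ.erase (1 : (P : Subgroup G)),
            (fun h : (P : Subgroup G) => (χ : G → ℂ) h) g *
              conj ((fun _ : (P : Subgroup G) => (1 : ℂ)) g) = (n χ : ℂ) := by
          intro g hg
          show (χ : G → ℂ) g * _ = _
          rw [hn χ g (hord g g.2 (fun h => (Finset.mem_erase.mp hg).1 (Subtype.ext h)))]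
          simp
        rw [Finset.sum_congr rfl h2, Finset.sum_const, Finset.card_erase_of_mem (Finset.mem_univ _),
          Finset.card_univ, ← Nat.card_eq_fintype_card, hPcard, nsmul_eq_mul]
        norm_num
    rw [h1, ← charDegree_cast (irr_isChar χ.2)] at hk
    have h3 : (charDegree (χ : G → ℂ) : ℂ) + 3 * (n χ : ℂ) = 4 * (k : ℂ) := by
      rw [← hk]; field_simp; norm_num
    have h4 : (charDegree (χ : G → ℂ) : ℤ) + 3 * n χ = 4 * (k : ℤ) := by exact_mod_cast h3
    exact ⟨k - n χ, by linarith⟩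
  have hdegpos : ∀ χ : IrrCharacter G, (1 : ℤ) ≤ (charDegree (χ : G → ℂ) : ℤ) := by
    intro χ
    have := (charDegree_spec χ.2).2
    omega
  -- the data for a given labelling
  have key : ∀ u v w : IrrCharacter G, u ≠ v → u ≠ w → v ≠ w → B' = {u, v, w} → n u = 1 →
      n w = -1 → KleinData M u v w (n v) := by
    intro u v w huv huw hvw hBuvw hu hw
    have huB : u ∈ B' := by rw [hBuvw]; simp
    have hvB : v ∈ B' := by rw [hBuvw]; simp
    have hwB : w ∈ B' := by rw [hBuvw]; simp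
    have hne : ∀ χ ∈ B', (χ : G → ℂ) ≠ (fun _ => 1) := by
      intro χ hχ h
      rw [hB'] at hχ
      exact (Finset.mem_erase.mp hχ).1 (by rw [hτ]; exact Subtype.ext h)
    refine ⟨hpm v hvB, hne u huB, hne v hvB, huv, huw, hvw, ?_, ?_, ?_, hdeg v, ?_, ?_⟩
    · ext χ
      rw [← hmemB]
      constructor
      · intro hχ
        by_cases h1 : χ = τ
        · left; rw [h1, hτ]
        · right
          have : χ ∈ B' := by rw [hB']; exact Finset.mem_erase.mpr ⟨h1, hχ⟩
          rw [hBuvw] at this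
          simpa using this
      · rintro (h | h | h | h)
        · have : χ = τ := by rw [hτ]; exact Subtype.ext h
          rw [this]; exact hτB
        · rw [h]; exact Finset.mem_of_mem_erase (hB' ▸ huB)
        · rw [h]; exact Finset.mem_of_mem_erase (hB' ▸ hvB)
        · rw [h]; exact Finset.mem_of_mem_erase (hB' ▸ hwB)
    · intro z hz
      refine ⟨by rw [hn u z hz, hu]; simp, hn v z hz, by rw [hn w z hz, hw]; simp⟩
    · have := hdeg u
      rwa [hu] at this
    · have := hdeg w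
      rwa [hw, sub_neg_eq_add] at this
    · intro y hy
      have h1 := horth y (fun h => (Nat.not_even_iff_odd.mpr hy) (even_iff_two_dvd.mpr h))
      rw [hBuvw, Finset.sum_insert (by simp [huv, huw]), Finset.sum_insert (by simp [hvw]),
        Finset.sum_singleton, hu, hw] at h1
      push_cast at h1
      linear_combination h1
  obtain ⟨x, y, z, hxy, hxz, hyz, hxyz⟩ := Finset.card_eq_three.mp hcard3
  have hx := hpm x (by rw [hxyz]; simp)
  have hy := hpm y (by rw [hxyz]; simp)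
  have hz := hpm z (by rw [hxyz]; simp)
  -- degree equation
  have hd : 1 + (charDegree (x : G → ℂ) : ℤ) * n x + (charDegree (y : G → ℂ) : ℤ) * n y +
      (charDegree (z : G → ℂ) : ℤ) * n z = 0 := by
    have h1 := horth 1 (by rw [orderOf_one]; norm_num)
    rw [hxyz, Finset.sum_insert (by simp [hxy, hxz]), Finset.sum_insert (by simp [hyz]),
      Finset.sum_singleton, ← charDegree_cast (irr_isChar x.2),
      ← charDegree_cast (irr_isChar y.2), ← charDegree_cast (irr_isChar z.2)] at h1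
    have h2 : ((1 + (charDegree (x : G → ℂ) : ℤ) * n x + (charDegree (y : G → ℂ) : ℤ) * n y +
      (charDegree (z : G → ℂ) : ℤ) * n z : ℤ) : ℂ) = 0 := by
      push_cast
      rw [← h1]; ring
    exact_mod_cast h2
  have dx := hdegpos x
  have dy := hdegpos y
  have dz := hdegpos z
  rcases hx with hx | hx <;> rcases hy with hy | hy <;> rcases hz with hz | hz
  · exfalso; rw [hx, hy, hz] at hd; linarith
  · exact ⟨x, y, z, _, key x y z hxy hxz hyz hxyz hx hz⟩
  · refine ⟨x, z, y, _, key x z y hxz hxy hyz.symm ?_ hx hy⟩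
    rw [hxyz]; congr 1; exact Finset.pair_comm _ _
  · exact ⟨x, y, z, _, key x y z hxy hxz hyz hxyz hx hz⟩
  · refine ⟨y, z, x, _, key y z x hyz hxy.symm hxz.symm ?_ hy hx⟩
    rw [hxyz]; ext w; simp; tauto
  · refine ⟨y, x, z, _, key y x z hxy.symm hyz hxz ?_ hy hz⟩
    rw [hxyz]; ext w; simp; tauto
  · refine ⟨z, y, x, _, key z y x hyz.symm hxz.symm hxy.symm ?_ hz hx⟩
    rw [hxyz]; ext w; simp; tauto
  · exfalso; rw [hx, hy, hz] at hd; linarith

end

end Cfsg.Agent.H11
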