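import Cfsg.Agent.H11.FB3

/-! Sylow 2-subgroups of type (2^m, 2^m) (helper11). -/

set_option autoImplicit false
open Cfsg

namespace Cfsg.Agent.H11

universe u

theorem zmod_two_mul {m : ℕ} (hm : 1 ≤ m) (x : ZMod (2 ^ m)) (h : 2 * x = 0) :
    x = 0 ∨ x = ((2 ^ (m - 1) : ℕ) : ZMod (2 ^ m)) := by
  have hne : NeZero (2 ^ m) := ⟨by positivity⟩
  have h1 : ((2 * x.val : ℕ) : ZMod (2 ^ m)) = 0 := by
    push_cast
    rw [ZMod.natCast_zmod_val]
    exact h
  rw [ZMod.natCast_eq_zero_iff] at h1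
  have h2 : 2 ^ m = 2 * 2 ^ (m - 1) := by
    rw [← pow_succ']; congr 1; omega
  obtain ⟨k, hk'⟩ := h1
  have hk : x.val = 2 ^ (m - 1) * k := by
    have h5 : 2 * x.val = 2 * (2 ^ (m - 1) * k) := by rw [hk', ← mul_assoc, ← h2]
    omega
  have hlt := x.val_lt
  have hk2 : k < 2 := by
    by_contra hk2
    push Not at hk2
    have h3 : 2 ^ (m - 1) * 2 ≤ 2 ^ (m - 1) * k := Nat.mul_le_mul_left _ hk2
    rw [← hk] at h3
    omega
  have h4 : x = ((x.val : ℕ) : ZMod (2 ^ m)) := (ZMod.natCast_zmod_val x).symm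
  interval_cases k
  · left
    rw [h4, hk]; simp
  · right
    rw [h4, hk, mul_one]

theorem zmod_half_ne {m : ℕ} (hm : 1 ≤ m) : ((2 ^ (m - 1) : ℕ) : ZMod (2 ^ m)) ≠ 0 := by
  intro h
  rw [ZMod.natCast_eq_zero_iff] at h
  have := Nat.le_of_dvd (by positivity) h
  have h2 : 2 ^ m = 2 * 2 ^ (m - 1) := by
    rw [← pow_succ']; congr 1; omega
  have h3 : 0 < 2 ^ (m - 1) := by positivity
  omega

theorem zmod_half_two {m : ℕ} (hm : 1 ≤ m) : 2 * ((2 ^ (m - 1) : ℕ) : ZMod (2 ^ m)) = 0 := by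
  have h2 : 2 ^ m = 2 * 2 ^ (m - 1) := by
    rw [← pow_succ']; congr 1; omega
  have : ((2 * 2 ^ (m - 1) : ℕ) : ZMod (2 ^ m)) = 0 := by
    rw [← h2, ZMod.natCast_self]
  exact_mod_cast this

variable {G : Type u} [Group G] [Finite G]

omit [Finite G] in
theorem homocyclic_threeInv {S : Subgroup G} {m : ℕ} (hm : 1 ≤ m)
    (e : S ≃* Multiplicative (ZMod (2 ^ m) × ZMod (2 ^ m))) : ∃ a b, ThreeInv S a b := by
  obtain ⟨c, hc⟩ : ∃ c : ZMod (2 ^ m), c = ((2 ^ (m - 1) : ℕ) : ZMod (2 ^ m)) := ⟨_, rfl⟩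
  have hc0 : c ≠ 0 := hc ▸ zmod_half_ne hm
  have hc2 : 2 * c = 0 := hc ▸ zmod_half_two hm
  have hcc : c + c = 0 := by rw [← two_mul]; exact hc2
  obtain ⟨a, ha⟩ : ∃ a : S, e a = Multiplicative.ofAdd (c, 0) := e.surjective _
  obtain ⟨b, hb⟩ : ∃ b : S, e b = Multiplicative.ofAdd (0, c) := e.surjective _
  have key : ∀ t : S, t ^ 2 = 1 → t = 1 ∨ t = a ∨ t = b ∨ t = a * b := by
    intro t ht
    have h1 : (e t) ^ 2 = 1 := by rw [← map_pow, ht, map_one]
    obtain ⟨x, hx⟩ : ∃ x : ZMod (2 ^ m) × ZMod (2 ^ m), e t = Multiplicative.ofAdd x := ⟨_, rfl⟩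
    rw [hx, ← ofAdd_nsmul] at h1
    have h2 : 2 • x = 0 := Multiplicative.ofAdd.injective h1
    have h3 : 2 * x.1 = 0 := by
      have := congrArg Prod.fst h2
      rw [Prod.smul_fst, nsmul_eq_mul] at this
      exact_mod_cast this
    have h4 : 2 * x.2 = 0 := by
      have := congrArg Prod.snd h2
      rw [Prod.smul_snd, nsmul_eq_mul] at this
      exact_mod_cast this
    rw [hc] at ha hb
    rcases zmod_two_mul hm x.1 h3 with h5 | h5 <;> rcases zmod_two_mul hm x.2 h4 with h6 | h6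
    · left
      apply e.injective
      rw [hx, map_one]
      show Multiplicative.ofAdd x = Multiplicative.ofAdd 0
      congr 1
      exact Prod.ext h5 h6
    · right; right; left
      apply e.injective
      rw [hx, hb]
      congr 1
      exact Prod.ext h5 h6
    · right; left
      apply e.injective
      rw [hx, ha]
      congr 1
      exact Prod.ext h5 h6
    · right; right; right
      apply e.injective
      rw [hx, map_mul, ha, hb, ← ofAdd_add]
      congr 1
      refine Prod.ext ?_ ?_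
      · simp [h5]
      · simp [h6]
  have h1 : a ≠ 1 := by
    rintro rfl
    rw [map_one] at ha
    have := Multiplicative.ofAdd.injective (a₁ := (0 : ZMod (2 ^ m) × ZMod (2 ^ m))) ha
    exact hc0 (congrArg Prod.fst this).symm
  have h2 : b ≠ 1 := by
    rintro rfl
    rw [map_one] at hb
    have := Multiplicative.ofAdd.injective (a₁ := (0 : ZMod (2 ^ m) × ZMod (2 ^ m))) hb
    exact hc0 (congrArg Prod.snd this).symm
  have h3 : a ≠ b := by
    rintro rfl
    rw [ha] at hb
    have := Multiplicative.ofAdd.injective hb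
    exact hc0 (congrArg Prod.fst this)
  have h4 : a ^ 2 = 1 := by
    apply e.injective
    rw [map_pow, ha, map_one, ← ofAdd_nsmul, two_nsmul]
    show Multiplicative.ofAdd _ = Multiplicative.ofAdd 0
    congr 1
    simp [hcc]
  have h5 : b ^ 2 = 1 := by
    apply e.injective
    rw [map_pow, hb, map_one, ← ofAdd_nsmul, two_nsmul]
    show Multiplicative.ofAdd _ = Multiplicative.ofAdd 0
    congr 1
    simp [hcc]
  refine ⟨a, b, a.2, b.2, fun h => h1 (Subtype.ext h), fun h => h2 (Subtype.ext h),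
    fun h => h3 (Subtype.ext h), by exact_mod_cast congrArg Subtype.val h4,
    by exact_mod_cast congrArg Subtype.val h5, ?_⟩
  intro t ht ht2 ht1
  rcases key ⟨t, ht⟩ (Subtype.ext ht2) with h | h | h | h
  · exact absurd (congrArg Subtype.val h) ht1
  · exact Or.inl (congrArg Subtype.val h)
  · exact Or.inr (Or.inl (congrArg Subtype.val h))
  · exact Or.inr (Or.inr (congrArg Subtype.val h))

omit [Finite G] in
theorem homocyclic_comm {S : Subgroup G} {m : ℕ}
    (e : S ≃* Multiplicative (ZMod (2 ^ m) × ZMod (2 ^ m))) : ∀ x ∈ S, ∀ y ∈ S, x * y = y * x := by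
  intro x hx y hy
  have : (⟨x, hx⟩ : S) * ⟨y, hy⟩ = ⟨y, hy⟩ * ⟨x, hx⟩ := by
    apply e.injective
    rw [map_mul, map_mul, mul_comm]
  exact congrArg Subtype.val this

section Index

variable {P : Sylow 2 G} {a b : G}

theorem centralizer_le_normalizer (S : Subgroup G) :
    Subgroup.centralizer (S : Set G) ≤ Subgroup.normalizer (S : Set G) := by
  intro c hc
  rw [Subgroup.mem_normalizer_iff]
  intro x
  rw [Subgroup.mem_centralizer_iff] at hc
  constructor
  · intro hx
    rw [← hc x hx, mul_inv_cancel_right]; exact hx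
  · intro hx
    have h1 := hc _ hx
    have : c * x * c⁻¹ = x := by
      have h2 : c⁻¹ * (c * x * c⁻¹ * c) = c⁻¹ * (c * (c * x * c⁻¹)) := by rw [h1]
      have h3 : c⁻¹ * (c * x * c⁻¹ * c) = x := by group
      have h4 : c⁻¹ * (c * (c * x * c⁻¹)) = c * x * c⁻¹ := by group
      rw [← h4, ← h2, h3]
    rw [this] at hx
    exact hx

theorem ThreeInv.mem_norm (hT : ThreeInv (P : Subgroup G) a b) {n : G}
    (hn : n ∈ Subgroup.normalizer ((P : Subgroup G) : Set G)) :
    n * a * n⁻¹ = a ∨ n * a * n⁻¹ = b ∨ n * a * n⁻¹ = a * b := by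
  refine hT.all _ ((Subgroup.mem_normalizer_iff.1 hn a).1 hT.ha) ?_ ?_
  · rw [sq, show n * a * n⁻¹ * (n * a * n⁻¹) = n * a ^ 2 * n⁻¹ by rw [sq]; group, hT.a_sq]; simp
  · intro h
    apply hT.a_ne
    have h2 : n⁻¹ * (n * a * n⁻¹) * n = a := by group
    rw [← h2, h]; group

theorem ThreeInv.inj (hT : ThreeInv (P : Subgroup G) a b)
    (hab : ∀ x ∈ P, ∀ y ∈ P, x * y = y * x) {n n' : G}
    (hn : n ∈ Subgroup.normalizer ((P : Subgroup G) : Set G))
    (hn' : n' ∈ Subgroup.normalizer ((P : Subgroup G) : Set G))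
    (h : n * a * n⁻¹ = n' * a * n'⁻¹) :
    n⁻¹ * n' ∈ Subgroup.centralizer ((P : Subgroup G) : Set G) := by
  refine (hT.frobSyl hab).free a hT.ha hT.a_ne (Subgroup.mem_inf.2
    ⟨?_, Subgroup.mul_mem _ (Subgroup.inv_mem _ hn) hn'⟩)
  rw [Subgroup.mem_centralizer_singleton_iff]
  have h1 : n⁻¹ * (n * a * n⁻¹) * n' = n⁻¹ * (n' * a * n'⁻¹) * n' := by rw [h]
  have h2 : n⁻¹ * (n * a * n⁻¹) * n' = a * (n⁻¹ * n') := by group
  have h3 : n⁻¹ * (n' * a * n'⁻¹) * n' = (n⁻¹ * n') * a := by group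
  rw [h2, h3] at h1
  first
  | exact h1
  | exact h1.symm

theorem ThreeInv.index (hT : ThreeInv (P : Subgroup G) a b)
    (hab : ∀ x ∈ P, ∀ y ∈ P, x * y = y * x) :
    ((Subgroup.centralizer ((P : Subgroup G) : Set G)).relIndex
      (Subgroup.normalizer ((P : Subgroup G) : Set G)) = 1 ∨
    (Subgroup.centralizer ((P : Subgroup G) : Set G)).relIndex
      (Subgroup.normalizer ((P : Subgroup G) : Set G)) = 3) ∧
    ((Subgroup.centralizer ((P : Subgroup G) : Set G)).relIndex
      (Subgroup.normalizer ((P : Subgroup G) : Set G)) ≠ 1 →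
      (∃ n, n * a * n⁻¹ = b) ∧ ∃ n, n * a * n⁻¹ = a * b) := by
  classical
  obtain ⟨N, hN⟩ : ∃ N, N = Subgroup.normalizer ((P : Subgroup G) : Set G) := ⟨_, rfl⟩
  obtain ⟨C, hC⟩ : ∃ C, C = Subgroup.centralizer ((P : Subgroup G) : Set G) := ⟨_, rfl⟩
  rw [← hN, ← hC]
  -- the index is odd
  have hPC : (P : Subgroup G) ≤ C := by
    rw [hC]
    intro x hx
    rw [Subgroup.mem_centralizer_iff]
    exact fun y hy => hab y hy x hx
  have hCN : C ≤ N := by rw [hC, hN]; exact centralizer_le_normalizer _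
  have hodd : ¬ 2 ∣ C.relIndex N := by
    intro h
    have h1 : C.relIndex N ∣ C.index := Subgroup.relIndex_dvd_index_of_le hCN
    have h2 : C.index ∣ (P : Subgroup G).index := Subgroup.index_dvd_of_le hPC
    exact P.not_dvd_index (h.trans (h1.trans h2))
  -- the injection
  let f : N ⧸ (C.subgroupOf N) → G := Quotient.lift (fun n : N => (n : G) * a * (n : G)⁻¹) (by
    intro n n' h
    have h1 : (n⁻¹ * n' : N) ∈ C.subgroupOf N := QuotientGroup.leftRel_apply.1 h
    rw [Subgroup.mem_subgroupOf, hC, Subgroup.mem_centralizer_iff] at h1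
    have h2 := h1 a hT.ha
    push_cast at h2
    have h3 : (n : G) * (a * ((n : G)⁻¹ * n')) * (n' : G)⁻¹ =
      (n : G) * ((n : G)⁻¹ * n' * a) * (n' : G)⁻¹ := by rw [h2]
    have h4 : (n : G) * (a * ((n : G)⁻¹ * n')) * (n' : G)⁻¹ = n * a * (n : G)⁻¹ := by group
    have h5 : (n : G) * ((n : G)⁻¹ * n' * a) * (n' : G)⁻¹ = n' * a * (n' : G)⁻¹ := by group
    show (n : G) * a * (n : G)⁻¹ = n' * a * (n' : G)⁻¹
    rw [← h4, ← h5, h3])
  have hf : Function.Injective f := by
    intro x y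
    induction x using QuotientGroup.induction_on with
    | H n =>
      induction y using QuotientGroup.induction_on with
      | H n' =>
        intro h
        rw [QuotientGroup.eq]
        rw [Subgroup.mem_subgroupOf, hC]
        exact hT.inj hab (hN ▸ n.2) (hN ▸ n'.2) h
  have hr : ∀ x, f x ∈ ({a, b, a * b} : Finset G) := by
    intro x
    induction x using QuotientGroup.induction_on with
    | H n =>
      simp only [Finset.mem_insert, Finset.mem_singleton]
      exact hT.mem_norm (hN ▸ n.2)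
  have hcard : C.relIndex N = Nat.card (N ⧸ (C.subgroupOf N)) := rfl
  have := Fintype.ofFinite (N ⧸ (C.subgroupOf N))
  have him : Finset.univ.image f ⊆ ({a, b, a * b} : Finset G) := by
    intro x hx
    obtain ⟨y, -, rfl⟩ := Finset.mem_image.1 hx
    exact hr y
  have hci : (Finset.univ.image f).card = C.relIndex N := by
    rw [Finset.card_image_of_injective _ hf, hcard, Nat.card_eq_fintype_card, Finset.card_univ]
  have h3 : ({a, b, a * b} : Finset G).card ≤ 3 := Finset.card_le_three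
  have hle : C.relIndex N ≤ 3 := by
    rw [← hci]; exact (Finset.card_le_card him).trans h3
  have hpos : C.relIndex N ≠ 0 := Subgroup.index_ne_zero_of_finite
  have h13 : C.relIndex N = 1 ∨ C.relIndex N = 3 := by omega
  refine ⟨h13, fun hne => ?_⟩
  have h33 := h13.resolve_left hne
  have heq : Finset.univ.image f = ({a, b, a * b} : Finset G) :=
    Finset.eq_of_subset_of_card_le him (by rw [hci, h33]; exact h3)
  have get : ∀ x ∈ ({a, b, a * b} : Finset G), ∃ n, n * a * n⁻¹ = x := by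
    intro x hx
    rw [← heq] at hx
    obtain ⟨y, -, rfl⟩ := Finset.mem_image.1 hx
    induction y using QuotientGroup.induction_on with
    | H n => exact ⟨n, rfl⟩
  exact ⟨get b (by simp), get _ (by simp)⟩

end Index

/-- S0945 -/
theorem st0945 (P : Sylow 2 G) (m : ℕ) (hm : 1 ≤ m)
    (e : (P : Subgroup G) ≃* Multiplicative (ZMod (2 ^ m) × ZMod (2 ^ m))) :
    ((Subgroup.centralizer (P : Set G)).relIndex (Subgroup.normalizer (P : Set G)) = 1 ∨
      (Subgroup.centralizer (P : Set G)).relIndex (Subgroup.normalizer (P : Set G)) = 3) ∧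
    ((Subgroup.centralizer (P : Set G)).relIndex (Subgroup.normalizer (P : Set G)) ≠ 1 →
      ∀ z ∈ (P : Subgroup G), z ≠ 1 → Subgroup.centralizer ({z} : Set G) ⊓
        Subgroup.normalizer (P : Set G) = Subgroup.centralizer (P : Set G)) := by
  obtain ⟨a, b, hT⟩ := homocyclic_threeInv hm e
  have hab := homocyclic_comm e
  refine ⟨(hT.index hab).1, fun _ z hz hz1 => le_antisymm ((hT.frobSyl hab).free z hz hz1) ?_⟩
  refine le_inf ?_ (centralizer_le_normalizer _)
  exact Subgroup.centralizer_le (Set.singleton_subset_iff.2 hz)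

/-- S0946 -/
theorem st0946 (P : Sylow 2 G) (m : ℕ) (hm : 1 ≤ m)
    (e : (P : Subgroup G) ≃* Multiplicative (ZMod (2 ^ m) × ZMod (2 ^ m))) :
    (∃ N : Subgroup G, N.Normal ∧ Subgroup.IsComplement' N (P : Subgroup G)) ∨
      ∀ s t : G, orderOf s = 2 → orderOf t = 2 → IsConj s t := by
  obtain ⟨a, b, hT⟩ := homocyclic_threeInv hm e
  have hab := homocyclic_comm e
  by_cases h : (Subgroup.centralizer ((P : Subgroup G) : Set G)).relIndex
      (Subgroup.normalizer ((P : Subgroup G) : Set G)) = 1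
  · left
    rw [Subgroup.relIndex_eq_one] at h
    exact ⟨(MonoidHom.transferSylow P h).ker, inferInstance,
      MonoidHom.ker_transferSylow_isComplement' P h⟩
  · right
    obtain ⟨⟨n1, h1⟩, ⟨n2, h2⟩⟩ := (hT.index hab).2 h
    have key : ∀ s : G, orderOf s = 2 → IsConj a s := by
      intro s hs
      obtain ⟨c, hc⟩ := exists_conj_mem_sylow P (x := s) ⟨1, by rw [hs, pow_one]⟩
      have hs2 : (c * s * c⁻¹) ^ 2 = 1 := by
        rw [sq, show c * s * c⁻¹ * (c * s * c⁻¹) = c * s ^ 2 * c⁻¹ by rw [sq]; group,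
          ← hs, pow_orderOf_eq_one]; simp
      have hs1 : c * s * c⁻¹ ≠ 1 := by
        intro h3
        have h4 : s = 1 := by
          have h5 : c⁻¹ * (c * s * c⁻¹) * c = s := by group
          rw [← h5, h3]; group
        rw [h4, orderOf_one] at hs
        norm_num at hs
      have h3 : IsConj a (c * s * c⁻¹) := by
        rcases hT.all _ hc hs2 hs1 with h4 | h4 | h4
        · rw [h4]
        · rw [h4, isConj_iff]; exact ⟨n1, h1⟩
        · rw [h4, isConj_iff]; exact ⟨n2, h2⟩
      refine h3.trans ?_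
      rw [isConj_iff]
      exact ⟨c⁻¹, by group⟩
    intro s t hs ht
    exact (key s hs).symm.trans (key t ht)

end Cfsg.Agent.H11
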