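import Cfsg.Agent.H3.DetExt
import Cfsg.Agent.H3.TI
import Cfsg.Agent.H3.Core4
import Mathlib.GroupTheory.FiniteAbelian.Duality
import Mathlib.RingTheory.RootsOfUnity.AlgebraicallyClosed
import Cfsg.Prelude.Def_OddOrderChar
import Cfsg.Prelude.Def_OddOrderLocal

/-!
PF section 3: cyclic TI-subsets: duality, the functions `α_{φψ}`.
-/
set_option autoImplicit false

namespace Cfsg.Agent.H11.PF

open Cfsg Cfsg.Agent.H3 ComplexConjugate

universe u v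

section dual

variable {W : Type u} [Group W]

theorem inner_hf [Fintype W] (μ ν : W →* ℂˣ) : classInner (hf μ) (hf ν) = if μ = ν then 1 else 0 := by
  rw [classInner_irr (isIrr_hf μ) (isIrr_hf ν)]
  by_cases h : μ = ν
  · rw [if_pos h, h, if_pos rfl]
  · rw [if_neg h, if_neg (fun h' => h (hf_injective h'))]

theorem conj_hf [Finite W] (μ : W →* ℂˣ) (w : W) : conj (μ w : ℂ) = (μ w⁻¹ : ℂ) :=
  (char_inv (irr_isChar (isIrr_hf μ)) w).symm

/-- annihilator -/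
def IsAnn (U : Subgroup W) (φ : W →* ℂˣ) : Prop := ∀ u ∈ U, φ u = 1

theorem IsAnn.one (U : Subgroup W) : IsAnn U (1 : W →* ℂˣ) := fun _ _ => rfl
theorem IsAnn.mul {U : Subgroup W} {φ ψ : W →* ℂˣ} (h1 : IsAnn U φ) (h2 : IsAnn U ψ) :
    IsAnn U (φ * ψ) := fun u hu => by rw [MonoidHom.mul_apply, h1 u hu, h2 u hu, one_mul]
theorem IsAnn.inv {U : Subgroup W} {φ : W →* ℂˣ} (h1 : IsAnn U φ) : IsAnn U φ⁻¹ :=
  fun u hu => by rw [MonoidHom.inv_apply, h1 u hu, inv_one]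
theorem IsAnn.pow {U : Subgroup W} {φ : W →* ℂˣ} (h1 : IsAnn U φ) (n : ℕ) : IsAnn U (φ ^ n) :=
  fun u hu => by rw [MonoidHom.pow_apply, h1 u hu, one_pow]

theorem ann_both {U₁ U₂ : Subgroup W} (htop : U₁ ⊔ U₂ = ⊤) {φ : W →* ℂˣ} (h1 : IsAnn U₁ φ)
    (h2 : IsAnn U₂ φ) : φ = 1 := by
  have h3 : U₁ ⊔ U₂ ≤ φ.ker := sup_le (fun u hu => h1 u hu) (fun u hu => h2 u hu)
  rw [htop] at h3
  ext w
  have : w ∈ φ.ker := h3 (Subgroup.mem_top w)
  rw [MonoidHom.mem_ker] at this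
  rw [this]; rfl

variable [Finite W] (hc : ∀ a b : W, a * b = b * a)
include hc

theorem exists_ann (U : Subgroup W) {w : W} (hw : w ∉ U) : ∃ φ : W →* ℂˣ, IsAnn U φ ∧ φ w ≠ 1 := by
  letI : CommGroup W := { (inferInstance : Group W) with mul_comm := hc }
  haveI : NeZero (Monoid.exponent W) := ⟨Monoid.exponent_ne_zero_of_finite⟩
  by_contra h
  push Not at h
  exact hw ((CommGroup.forall_monoidHom_apply_eq_one_iff ℂ U w).mp fun φ hφ => h φ hφ)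

theorem card_ann (U : Subgroup W) : Nat.card {φ : W →* ℂˣ // IsAnn U φ} = U.index := by
  letI : CommGroup W := { (inferInstance : Group W) with mul_comm := hc }
  haveI : NeZero (Monoid.exponent W) := ⟨Monoid.exponent_ne_zero_of_finite⟩
  have h1 := CommGroup.card_domRestrictHom_ker ℂ U
  rw [Subgroup.index, ← h1]
  refine Nat.card_congr (Equiv.subtypeEquivRight fun φ => ?_)
  rw [MonoidHom.mem_ker]
  constructor
  · intro h
    ext u
    have := h u u.2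
    show ((φ u : ℂˣ) : ℂ) = 1
    rw [this]; rfl
  · intro h u hu
    have := congrArg (fun f : U →* ℂˣ => f ⟨u, hu⟩) h
    exact this

theorem card_dual : Nat.card (W →* ℂˣ) = Nat.card W := by
  letI : CommGroup W := { (inferInstance : Group W) with mul_comm := hc }
  haveI : NeZero (Monoid.exponent W) := ⟨Monoid.exponent_ne_zero_of_finite⟩
  exact CommGroup.card_monoidHom_of_hasEnoughRootsOfUnity W ℂ

theorem finite_dual : Finite (W →* ℂˣ) := by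
  refine Nat.finite_of_card_ne_zero ?_
  rw [card_dual hc]
  exact Nat.card_pos.ne'

open Classical in
theorem ann_sum [Fintype (W →* ℂˣ)] (U : Subgroup W) (w : W) :
    ∑ φ : W →* ℂˣ, (if IsAnn U φ then (φ w : ℂ) else 0) = if w ∈ U then (U.index : ℂ) else 0 := by
  split_ifs with hw
  · rw [Finset.sum_congr rfl (g := fun φ : W →* ℂˣ => if IsAnn U φ then (1 : ℂ) else 0)
      (fun φ _ => by
        by_cases h : IsAnn U φ
        · rw [if_pos h, if_pos h, h w hw]; rfl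
        · rw [if_neg h, if_neg h])]
    rw [← Finset.sum_filter, Finset.sum_const, nsmul_eq_mul, mul_one, ← card_ann hc U,
      Nat.card_eq_fintype_card, Fintype.card_subtype]
  · obtain ⟨φ₀, h1, h2⟩ := exists_ann hc U hw
    have h3 : ∑ φ : W →* ℂˣ, (if IsAnn U φ then (φ w : ℂ) else 0) =
        (φ₀ w : ℂ) * ∑ φ : W →* ℂˣ, (if IsAnn U φ then (φ w : ℂ) else 0) := by
      conv_lhs => rw [← Equiv.sum_comp (Equiv.mulLeft φ₀)]
      rw [Finset.mul_sum]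
      refine Finset.sum_congr rfl fun φ _ => ?_
      have h5 : IsAnn U (φ₀ * φ) ↔ IsAnn U φ := by
        constructor
        · intro h'
          have := h1.inv.mul h'
          have e : φ₀⁻¹ * (φ₀ * φ) = φ := by
            ext x; simp
          rwa [e] at this
        · exact fun h => h1.mul h
      show (if IsAnn U (φ₀ * φ) then ((φ₀ * φ) w : ℂ) else 0) = _
      simp only [h5]
      split_ifs
      · simp
      · simp
    have h4 : (1 - (φ₀ w : ℂ)) * ∑ φ : W →* ℂˣ, (if IsAnn U φ then (φ w : ℂ) else 0) = 0 := by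
      linear_combination h3
    refine (mul_eq_zero.mp h4).resolve_left ?_
    intro h5
    apply h2
    have : (φ₀ w : ℂ) = 1 := by linear_combination -h5
    exact Units.ext this

open Classical in
/-- inversion formula: the functions `(1-φ)(1-ψ)` span the functions supported off `U₁ ∪ U₂`. -/
theorem inversion [Fintype W] [Fintype (W →* ℂˣ)] {U₁ U₂ : Subgroup W} (hinf : U₁ ⊓ U₂ = ⊥)
    (f : W → ℂ) {w₀ : W} (h1 : w₀ ∉ U₁) (h2 : w₀ ∉ U₂) :
    ∑ φ : W →* ℂˣ, ∑ ψ : W →* ℂˣ, (if IsAnn U₂ φ ∧ IsAnn U₁ ψ then (φ w₀ : ℂ) * (ψ w₀ : ℂ) *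
      ∑ w : W, f w * ((1 - (φ w⁻¹ : ℂ)) * (1 - (ψ w⁻¹ : ℂ))) else 0) =
      (U₂.index : ℂ) * U₁.index * f w₀ := by
  have h3 : ∀ (U : Subgroup W), w₀ ∉ U → ∀ w : W, ∑ φ : W →* ℂˣ, (if IsAnn U φ then
      (φ w₀ : ℂ) * (1 - (φ w⁻¹ : ℂ)) else 0) = - if w₀ * w⁻¹ ∈ U then (U.index : ℂ) else 0 := by
    intro U hU w
    have e1 := ann_sum hc U w₀
    have e2 := ann_sum hc U (w₀ * w⁻¹)
    rw [if_neg hU] at e1
    rw [← e2]
    have e3 : ∑ φ : W →* ℂˣ, (if IsAnn U φ then (φ w₀ : ℂ) * (1 - (φ w⁻¹ : ℂ)) else 0) =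
        ∑ φ : W →* ℂˣ, (if IsAnn U φ then (φ w₀ : ℂ) else 0) -
        ∑ φ : W →* ℂˣ, (if IsAnn U φ then (φ (w₀ * w⁻¹) : ℂ) else 0) := by
      rw [← Finset.sum_sub_distrib]
      refine Finset.sum_congr rfl fun φ _ => ?_
      split_ifs
      · rw [map_mul, Units.val_mul]; ring
      · ring
    rw [e3, e1, zero_sub]
  have h4 : ∑ φ : W →* ℂˣ, ∑ ψ : W →* ℂˣ, (if IsAnn U₂ φ ∧ IsAnn U₁ ψ then
      (φ w₀ : ℂ) * (ψ w₀ : ℂ) * ∑ w : W, f w * ((1 - (φ w⁻¹ : ℂ)) * (1 - (ψ w⁻¹ : ℂ))) else 0) =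
      ∑ w : W, f w * ((∑ φ : W →* ℂˣ, (if IsAnn U₂ φ then (φ w₀ : ℂ) * (1 - (φ w⁻¹ : ℂ)) else 0)) *
        (∑ ψ : W →* ℂˣ, (if IsAnn U₁ ψ then (ψ w₀ : ℂ) * (1 - (ψ w⁻¹ : ℂ)) else 0))) := by
    have e1 : ∀ w : W, f w * ((∑ φ : W →* ℂˣ, (if IsAnn U₂ φ then (φ w₀ : ℂ) * (1 - (φ w⁻¹ : ℂ)) else 0)) *
        (∑ ψ : W →* ℂˣ, (if IsAnn U₁ ψ then (ψ w₀ : ℂ) * (1 - (ψ w⁻¹ : ℂ)) else 0))) =
        ∑ φ : W →* ℂˣ, ∑ ψ : W →* ℂˣ, (if IsAnn U₂ φ ∧ IsAnn U₁ ψ then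
      (φ w₀ : ℂ) * (ψ w₀ : ℂ) * (f w * ((1 - (φ w⁻¹ : ℂ)) * (1 - (ψ w⁻¹ : ℂ)))) else 0) := by
      intro w
      rw [Finset.sum_mul_sum, Finset.mul_sum]
      refine Finset.sum_congr rfl fun φ _ => ?_
      rw [Finset.mul_sum]
      refine Finset.sum_congr rfl fun ψ _ => ?_
      by_cases ha : IsAnn U₂ φ <;> by_cases hb : IsAnn U₁ ψ <;> simp [ha, hb]
      ring
    rw [Finset.sum_congr rfl (fun w _ => e1 w)]
    symm
    rw [Finset.sum_comm]
    refine Finset.sum_congr rfl fun φ _ => ?_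
    rw [Finset.sum_comm]
    refine Finset.sum_congr rfl fun ψ _ => ?_
    split_ifs
    · rw [Finset.mul_sum]
    · simp
  rw [h4]
  clear h4
  rw [Finset.sum_eq_single w₀]
  · rw [h3 U₂ h2, h3 U₁ h1, mul_inv_cancel, if_pos U₂.one_mem, if_pos U₁.one_mem]
    ring
  · intro w _ hw
    rw [h3 U₂ h2, h3 U₁ h1]
    by_cases ha : w₀ * w⁻¹ ∈ U₂
    · by_cases hb : w₀ * w⁻¹ ∈ U₁
      · exfalso
        have : w₀ * w⁻¹ ∈ U₁ ⊓ U₂ := Subgroup.mem_inf.mpr ⟨hb, ha⟩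
        rw [hinf, Subgroup.mem_bot] at this
        exact hw (mul_inv_eq_one.mp this).symm
      · rw [if_neg hb]; ring
    · rw [if_neg ha]; ring
  · intro h; exact absurd (Finset.mem_univ _) h

end dual

end Cfsg.Agent.H11.PF
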