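import Cfsg.Agent.H11.HC1
import Cfsg.Agent.H3.PTI2

/-! Sylow 2-subgroups of type (2^m, 2^m), part 2: combinatorics and the automorphism of order 3
(helper11). -/

set_option autoImplicit false
open Cfsg

namespace Cfsg.Agent.H11

open Cfsg.Agent.H3 Cfsg.Agent.H11.PF ComplexConjugate

universe u v

/-- sunflower lemma for 3-sets -/
theorem sunflower {I : Type u} {L : Type v} [DecidableEq I] [Fintype L] (W : L → Finset I)
    (h3 : ∀ l, (W l).card = 3) (h2 : ∀ l l', W l ≠ W l' → (W l ∩ W l').card = 2)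
    (h5 : 5 ≤ (Finset.univ.image W).card) : ∃ D : Finset I, D.card = 2 ∧ ∀ l, D ⊆ W l := by
  classical
  obtain ⟨x, hx, y, hy, hxy⟩ := Finset.one_lt_card.1 (by omega : 1 < (Finset.univ.image W).card)
  obtain ⟨l₁, -, rfl⟩ := Finset.mem_image.1 hx
  obtain ⟨l₂, -, rfl⟩ := Finset.mem_image.1 hy
  refine ⟨W l₁ ∩ W l₂, h2 _ _ hxy, ?_⟩
  by_contra hcon
  push Not at hcon
  obtain ⟨l₀, hl₀⟩ := hcon
  obtain ⟨D, hD⟩ : ∃ D, D = W l₁ ∩ W l₂ := ⟨_, rfl⟩
  obtain ⟨U, hU⟩ : ∃ U, U = W l₁ ∪ W l₂ := ⟨_, rfl⟩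
  have hDc : D.card = 2 := hD ▸ h2 _ _ hxy
  have hUc : U.card = 4 := by
    have := Finset.card_union_add_card_inter (W l₁) (W l₂)
    rw [← hU, ← hD, h3, h3, hDc] at this
    omega
  rw [← hD] at hl₀
  -- bad sets
  have bad : ∀ l, ¬ D ⊆ W l → W l ⊆ U ∧ (W l ∩ D).card ≤ 1 := by
    intro l hl
    have n1 : W l ≠ W l₁ := by
      intro h; apply hl; rw [h, hD]; exact Finset.inter_subset_left
    have n2 : W l ≠ W l₂ := by
      intro h; apply hl; rw [h, hD]; exact Finset.inter_subset_right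
    have c1 := h2 _ _ n1
    have c2 := h2 _ _ n2
    have c3 : (W l ∩ D).card ≤ 1 := by
      by_contra hc
      push Not at hc
      apply hl
      have h6 : W l ∩ D = D := Finset.eq_of_subset_of_card_le Finset.inter_subset_right
        (by rw [hDc]; exact hc)
      rw [← h6]; exact Finset.inter_subset_left
    refine ⟨?_, c3⟩
    have h6 : W l ∩ U = (W l ∩ W l₁) ∪ (W l ∩ W l₂) := by
      rw [hU, Finset.inter_union_distrib_left]
    have h7 : (W l ∩ W l₁) ∩ (W l ∩ W l₂) = W l ∩ D := by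
      rw [hD]; ext x; simp only [Finset.mem_inter]; tauto
    have h8 := Finset.card_union_add_card_inter (W l ∩ W l₁) (W l ∩ W l₂)
    rw [← h6, h7, c1, c2] at h8
    have h9 : W l ∩ U = W l := Finset.eq_of_subset_of_card_le Finset.inter_subset_left
      (by rw [h3]; omega)
    rw [← h9]; exact Finset.inter_subset_right
  obtain ⟨b1, b2⟩ := bad l₀ hl₀
  have all : ∀ l, W l ⊆ U := by
    intro l
    by_cases hl : D ⊆ W l
    · have n0 : W l ≠ W l₀ := fun h => hl₀ (h ▸ hl)
      have c0 := h2 _ _ n0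
      have c1 : (W l ∩ D).card = 2 := by
        rw [Finset.inter_eq_right.2 hl, hDc]
      have h6 : W l ∩ (W l₀ ∪ D) = (W l ∩ W l₀) ∪ (W l ∩ D) := by
        rw [Finset.inter_union_distrib_left]
      have h8 := Finset.card_union_add_card_inter (W l ∩ W l₀) (W l ∩ D)
      have h7 : ((W l ∩ W l₀) ∩ (W l ∩ D)).card ≤ 1 := by
        refine (Finset.card_le_card ?_).trans b2
        intro x hx
        simp only [Finset.mem_inter] at hx ⊢
        tauto
      rw [← h6, c0, c1] at h8
      have h9 : W l ∩ (W l₀ ∪ D) = W l := Finset.eq_of_subset_of_card_le Finset.inter_subset_left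
        (by rw [h3]; omega)
      rw [← h9]
      refine Finset.inter_subset_right.trans (Finset.union_subset b1 ?_)
      rw [hD, hU]
      exact Finset.inter_subset_left.trans Finset.subset_union_left
    · exact (bad l hl).1
  have hsub : Finset.univ.image W ⊆ Finset.powersetCard 3 U := by
    intro x hx
    obtain ⟨l, -, rfl⟩ := Finset.mem_image.1 hx
    rw [Finset.mem_powersetCard]
    exact ⟨all l, h3 l⟩
  have h6 := Finset.card_le_card hsub
  rw [Finset.card_powersetCard, hUc] at h6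
  have : Nat.choose 4 3 = 4 := rfl
  omega

/-- arithmetic: `(1 + 1/A + 1/B)(1 + A + B) = 9` with `A, B ≡ 1 mod 16`. -/
theorem nine_eq {A B : ℤ} (hA : (16 : ℤ) ∣ A - 1) (hB : (16 : ℤ) ∣ B - 1)
    (h : (A * B + A + B) * (1 + A + B) = 9 * (A * B)) : A = 1 ∧ B = 1 := by
  obtain ⟨k, hk⟩ := hA
  obtain ⟨l, hl⟩ := hB
  obtain ⟨j, hj⟩ : ∃ j, j = k + l := ⟨_, rfl⟩
  have hS : A + B = 2 + 16 * j := by rw [hj]; linarith
  obtain ⟨Q, hQ⟩ : ∃ Q, Q = A * B := ⟨_, rfl⟩
  have e1 : (Q + (2 + 16 * j)) * (3 + 16 * j) = 9 * Q := by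
    have : (A * B + A + B) * (1 + A + B) = (A * B + (A + B)) * (1 + (A + B)) := by ring
    rw [this, hS, ← hQ] at h
    linarith
  have e2 : (8 * j - 3) * (-Q - 16 * j - 11) = 36 := by nlinarith
  have hd : (8 * j - 3) ∣ 36 := ⟨_, e2.symm⟩
  have hle : |8 * j - 3| ≤ 36 := by
    have := Int.le_of_dvd (by norm_num) ((abs_dvd _ _).2 hd)
    exact this
  rw [abs_le] at hle
  have hj1 : -4 ≤ j := by omega
  have hj2 : j ≤ 4 := by omega
  have hj0 : j = 0 := by
    interval_cases j <;> first | rfl | (exfalso; omega)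
  rw [hj0] at hS e1
  have hQ1 : Q = 1 := by linarith
  have hB2 : B = 2 - A := by linarith
  have : (A - 1) ^ 2 = 0 := by
    rw [hQ1, hB2] at hQ
    linarith
  have hA1 : A - 1 = 0 := by
    exact pow_eq_zero_iff (two_ne_zero) |>.1 this
  constructor
  · linarith
  · linarith

variable {G : Type u} [Group G] [Finite G]

/-- an automorphism of order 3 of the Sylow 2-subgroup controlling fusion -/
structure Tri (P : Sylow 2 G) (τ : (P : Subgroup G) ≃* (P : Subgroup G)) : Prop where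
  cube : ∀ x, τ (τ (τ x)) = x
  free : ∀ x, τ x = x → x = 1
  fus : ∀ x y : (P : Subgroup G), x ≠ 1 →
    (IsConj (x : G) (y : G) ↔ y = x ∨ y = τ x ∨ y = τ (τ x))

theorem exists_tri {P : Sylow 2 G} {a b : G} (hT : ThreeInv (P : Subgroup G) a b)
    (hab : ∀ x ∈ P, ∀ y ∈ P, x * y = y * x)
    (hne : (Subgroup.centralizer ((P : Subgroup G) : Set G)).relIndex
      (Subgroup.normalizer ((P : Subgroup G) : Set G)) ≠ 1) : ∃ τ, Tri P τ := by
  have hfree := (hT.frobSyl hab).free
  obtain ⟨n, hn, hnC⟩ : ∃ n ∈ Subgroup.normalizer ((P : Subgroup G) : Set G),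
      n ∉ Subgroup.centralizer ((P : Subgroup G) : Set G) := by
    by_contra h
    push Not at h
    exact hne (Subgroup.relIndex_eq_one.2 h)
  have hn2C : n * n ∉ Subgroup.centralizer ((P : Subgroup G) : Set G) := by
    intro h2
    obtain ⟨m, hm, hm2⟩ := exists_pow_centralizes hab hn
    apply hnC
    obtain ⟨k, hk⟩ := Nat.not_even_iff_odd.1 (fun h => hm (even_iff_two_dvd.1 h))
    have h3 : n ^ m ∈ Subgroup.centralizer ((P : Subgroup G) : Set G) := by
      rw [Subgroup.mem_centralizer_iff]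
      exact fun y hy => (hm2 y hy).symm
    have h4 : (n * n) ^ k ∈ Subgroup.centralizer ((P : Subgroup G) : Set G) :=
      Subgroup.pow_mem _ h2 k
    have h5 : n = ((n * n) ^ k)⁻¹ * n ^ m := by
      rw [hk, eq_inv_mul_iff_mul_eq, pow_succ, ← pow_two, ← pow_mul]
    rw [h5]
    exact Subgroup.mul_mem _ (Subgroup.inv_mem _ h4) h3
  have hmem : ∀ x : (P : Subgroup G), n * x * n⁻¹ ∈ (P : Subgroup G) := fun x =>
    (Subgroup.mem_normalizer_iff.1 hn x).1 x.2
  have hmem' : ∀ x : (P : Subgroup G), n⁻¹ * x * n ∈ (P : Subgroup G) := fun x => by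
    have := (Subgroup.mem_normalizer_iff.1 (Subgroup.inv_mem _ hn) x).1 x.2
    rwa [inv_inv] at this
  let τ : (P : Subgroup G) ≃* (P : Subgroup G) :=
    { toFun := fun x => ⟨n * x * n⁻¹, hmem x⟩
      invFun := fun x => ⟨n⁻¹ * x * n, hmem' x⟩
      left_inv := fun x => Subtype.ext (by
        show n⁻¹ * (n * x * n⁻¹) * n = x
        group)
      right_inv := fun x => Subtype.ext (by
        show n * (n⁻¹ * x * n) * n⁻¹ = x
        group)
      map_mul' := fun x y => Subtype.ext (by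
        show n * ((x : G) * y) * n⁻¹ = n * x * n⁻¹ * (n * y * n⁻¹)
        group) }
  have hτ : ∀ x : (P : Subgroup G), ((τ x : (P : Subgroup G)) : G) = n * x * n⁻¹ := fun _ => rfl
  have hfr : ∀ x, τ x = x → x = 1 := by
    intro x hx
    by_contra hx1
    apply hnC
    refine hfree x x.2 (fun h => hx1 (Subtype.ext h)) (Subgroup.mem_inf.2 ⟨?_, hn⟩)
    rw [Subgroup.mem_centralizer_singleton_iff]
    have h1 : n * x * n⁻¹ = x := congrArg Subtype.val hx
    have h2 : n * x = x * n := by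
      calc n * x = n * x * n⁻¹ * n := by group
        _ = x * n := by rw [h1]
    first
    | exact h2
    | exact h2.symm
  have hfr2 : ∀ x, τ (τ x) = x → x = 1 := by
    intro x hx
    by_contra hx1
    apply hn2C
    refine hfree x x.2 (fun h => hx1 (Subtype.ext h))
      (Subgroup.mem_inf.2 ⟨?_, Subgroup.mul_mem _ hn hn⟩)
    rw [Subgroup.mem_centralizer_singleton_iff]
    have h1 : n * (n * x * n⁻¹) * n⁻¹ = x := congrArg Subtype.val hx
    have h2 : n * n * x = x * (n * n) := by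
      calc n * n * x = n * (n * x * n⁻¹) * n⁻¹ * (n * n) := by group
        _ = x * (n * n) := by rw [h1]
    first
    | exact h2
    | exact h2.symm
  -- conjugating elements
  have haP : a ∈ P := hT.ha
  obtain ⟨A, hA⟩ : ∃ A : (P : Subgroup G), (A : G) = a := ⟨⟨a, hT.ha⟩, rfl⟩
  have hA1 : A ≠ 1 := fun h => hT.a_ne (by rw [← hA, h]; rfl)
  have key : ∀ m ∈ Subgroup.normalizer ((P : Subgroup G) : Set G),
      m * a * m⁻¹ = a ∨ m * a * m⁻¹ = n * a * n⁻¹ ∨ m * a * m⁻¹ = n * (n * a * n⁻¹) * n⁻¹ := by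
    classical
    intro m hm
    have h1 := hT.mem_norm hm
    have h2 := hT.mem_norm hn
    have h3 := hT.mem_norm (Subgroup.mul_mem _ hn hn)
    have e3 : n * n * a * (n * n)⁻¹ = n * (n * a * n⁻¹) * n⁻¹ := by group
    rw [e3] at h3
    have d1 : n * a * n⁻¹ ≠ a := fun h => hA1 (hfr A (Subtype.ext (by rw [hτ, hA]; exact h)))
    have d2 : n * (n * a * n⁻¹) * n⁻¹ ≠ a :=
      fun h => hA1 (hfr2 A (Subtype.ext (by rw [hτ, hτ, hA]; exact h)))
    have d3 : n * (n * a * n⁻¹) * n⁻¹ ≠ n * a * n⁻¹ := by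
      intro h
      have h5 : τ (τ A) = τ A := Subtype.ext (by rw [hτ, hτ, hA]; exact h)
      have h6 := hfr _ h5
      rw [map_eq_one_iff τ τ.injective] at h6
      exact hA1 h6
    have hsub : ({a, n * a * n⁻¹, n * (n * a * n⁻¹) * n⁻¹} : Finset G) ⊆ {a, b, a * b} := by
      intro x hx
      simp only [Finset.mem_insert, Finset.mem_singleton] at hx ⊢
      rcases hx with rfl | rfl | rfl
      · exact Or.inl rfl
      · exact h2
      · exact h3
    have hcard : ({a, n * a * n⁻¹, n * (n * a * n⁻¹) * n⁻¹} : Finset G).card = 3 := by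
      rw [Finset.card_eq_three]
      exact ⟨_, _, _, d1.symm, d2.symm, d3.symm, rfl⟩
    have heq := Finset.eq_of_subset_of_card_le hsub (by rw [hcard]; exact Finset.card_le_three)
    have h7 : m * a * m⁻¹ ∈ ({a, b, a * b} : Finset G) := by
      simp only [Finset.mem_insert, Finset.mem_singleton]
      exact h1
    rw [← heq] at h7
    simpa only [Finset.mem_insert, Finset.mem_singleton] using h7
  have hcl : ∀ {m k : G}, m ∈ Subgroup.normalizer ((P : Subgroup G) : Set G) →
      k ∈ Subgroup.normalizer ((P : Subgroup G) : Set G) → m * a * m⁻¹ = k * a * k⁻¹ →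
      ∀ x : (P : Subgroup G), m * x * m⁻¹ = k * x * k⁻¹ := by
    intro m k hm hk h x
    have h1 := hT.inj hab hk hm h.symm
    rw [Subgroup.mem_centralizer_iff] at h1
    have h2 := h1 x x.2
    calc m * x * m⁻¹ = k * ((k⁻¹ * m) * x) * m⁻¹ := by group
      _ = k * (x * (k⁻¹ * m)) * m⁻¹ := by rw [h2]
      _ = k * x * k⁻¹ := by group
  have cube : ∀ x, τ (τ (τ x)) = x := by
    intro x
    have hn3 : n * n * n ∈ Subgroup.normalizer ((P : Subgroup G) : Set G) :=
      Subgroup.mul_mem _ (Subgroup.mul_mem _ hn hn) hn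
    have e3 : n * n * n * a * (n * n * n)⁻¹ = n * (n * (n * a * n⁻¹) * n⁻¹) * n⁻¹ := by group
    have h1 : n * n * n * a * (n * n * n)⁻¹ = 1 * a * 1⁻¹ := by
      rcases key _ hn3 with h | h | h
      · rw [h]; group
      · exfalso
        rw [e3] at h
        have h5 : τ (τ (τ A)) = τ A := Subtype.ext (by rw [hτ, hτ, hτ, hA]; exact h)
        have h6 : τ (τ A) = A := τ.injective h5
        exact hA1 (hfr2 _ h6)
      · exfalso
        rw [e3] at h
        have h5 : τ (τ (τ A)) = τ (τ A) := Subtype.ext (by rw [hτ, hτ, hτ, hA]; exact h)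
        exact hA1 (hfr _ (τ.injective (τ.injective h5)))
    have h2 := hcl hn3 (one_mem _) h1 x
    apply Subtype.ext
    rw [hτ, hτ, hτ]
    calc n * (n * (n * (x : G) * n⁻¹) * n⁻¹) * n⁻¹ = n * n * n * x * (n * n * n)⁻¹ := by group
      _ = 1 * x * 1⁻¹ := h2
      _ = x := by group
  refine ⟨τ, cube, hfr, ?_⟩
  intro x y hx
  constructor
  · intro hc
    obtain ⟨g, hg⟩ := isConj_iff.1 hc
    have hcx : (x : G) ∈ Subgroup.centralizer ((P : Subgroup G) : Set G) := by
      rw [Subgroup.mem_centralizer_iff]; exact fun z hz => hab z hz x x.2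
    have hcy : g⁻¹⁻¹ * (x : G) * g⁻¹ ∈ Subgroup.centralizer ((P : Subgroup G) : Set G) := by
      rw [inv_inv, hg, Subgroup.mem_centralizer_iff]; exact fun z hz => hab z hz y y.2
    obtain ⟨m, hm, hm2⟩ := P.conj_eq_normalizer_conj_of_mem_centralizer x g⁻¹ hcx hcy
    rw [inv_inv, hg] at hm2
    have hm' := Subgroup.inv_mem _ hm
    have hy : (y : G) = m⁻¹ * x * m⁻¹⁻¹ := by rw [hm2, inv_inv]
    rcases key _ hm' with h | h | h
    · left
      have := hcl hm' (one_mem _) (h.trans (by group)) x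
      apply Subtype.ext
      rw [hy, this]; group
    · right; left
      have := hcl hm' hn h x
      apply Subtype.ext
      rw [hy, this, hτ]
    · right; right
      have := hcl hm' (Subgroup.mul_mem _ hn hn) (h.trans (by group)) x
      apply Subtype.ext
      rw [hy, this, hτ, hτ]; group
  · rintro (rfl | rfl | rfl)
    · exact IsConj.refl _
    · rw [isConj_iff]; exact ⟨n, rfl⟩
    · rw [isConj_iff]; exact ⟨n * n, by rw [hτ, hτ]; group⟩

end Cfsg.Agent.H11
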