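import Cfsg.Agent.H11.HC2
import Cfsg.Agent.S0925
import Cfsg.Agent.H27.ClassAlg

/-! Sylow 2-subgroups of type (2^m, 2^m), part 3: the principal block (helper11). -/

set_option autoImplicit false

namespace Cfsg.Agent.H11

open Cfsg Cfsg.Agent.H3 Cfsg.Agent.H11.PF Cfsg.Agent.H27 ComplexConjugate

universe u

section

variable {G : Type u} [Group G] [Fintype G] {P : Sylow 2 G}
  {τ : (P : Subgroup G) ≃* (P : Subgroup G)}

/-- twist of a linear character -/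
def tw (τ : (P : Subgroup G) ≃* (P : Subgroup G)) (Λ : (P : Subgroup G) →* ℂˣ) :
    (P : Subgroup G) →* ℂˣ := Λ.comp τ.toMonoidHom

theorem tw_apply (Λ : (P : Subgroup G) →* ℂˣ) (x : (P : Subgroup G)) : tw τ Λ x = Λ (τ x) := rfl

theorem Tri.free2 (T : Tri P τ) {x : (P : Subgroup G)} (hx : τ (τ x) = x) : x = 1 := by
  have h1 := T.cube x
  rw [hx] at h1
  exact T.free x h1

theorem Tri.tw_cube (T : Tri P τ) (Λ : (P : Subgroup G) →* ℂˣ) : tw τ (tw τ (tw τ Λ)) = Λ := by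
  ext x
  rw [tw_apply, tw_apply, tw_apply, T.cube]

theorem Tri.tw_free (T : Tri P τ) (hab : ∀ x ∈ P, ∀ y ∈ P, x * y = y * x)
    {Λ : (P : Subgroup G) →* ℂˣ} (h : tw τ Λ = Λ) : Λ = 1 := by
  have hc : ∀ x y : (P : Subgroup G), x * y = y * x := fun x y =>
    Subtype.ext (hab x x.2 y y.2)
  have hinj : Function.Injective (fun x : (P : Subgroup G) => x⁻¹ * τ x) := by
    intro x y hxy
    have h1 : x⁻¹ * τ x = y⁻¹ * τ y := hxy
    have h2 : τ (y * x⁻¹) = y * x⁻¹ := by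
      rw [map_mul, map_inv]
      have h3 : τ y = y * (x⁻¹ * τ x) := by rw [h1]; group
      rw [h3, ← mul_assoc, mul_assoc (y * x⁻¹), mul_inv_cancel, mul_one]
    have h3 := T.free _ h2
    exact (mul_inv_eq_one.1 h3).symm
  have hsurj := Finite.surjective_of_injective hinj
  ext w
  obtain ⟨x, rfl⟩ := hsurj w
  have h1 : Λ (τ x) = Λ x := by
    rw [← tw_apply, h]
  show ((Λ (x⁻¹ * τ x) : ℂˣ) : ℂ) = 1
  rw [map_mul, map_inv, h1, inv_mul_cancel]; rfl

theorem Tri.tw_ne (T : Tri P τ) (hab : ∀ x ∈ P, ∀ y ∈ P, x * y = y * x)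
    {Λ : (P : Subgroup G) →* ℂˣ} (h : Λ ≠ 1) :
    tw τ Λ ≠ Λ ∧ tw τ (tw τ Λ) ≠ Λ ∧ tw τ (tw τ Λ) ≠ tw τ Λ := by
  have h1 : tw τ Λ ≠ Λ := fun h' => h (T.tw_free hab h')
  have h2 : tw τ (tw τ Λ) ≠ Λ := by
    intro h'
    have h3 := congrArg (tw τ) h'
    rw [T.tw_cube] at h3
    exact h1 h3.symm
  refine ⟨h1, h2, fun h' => ?_⟩
  have h3 := congrArg (tw τ) h'
  rw [T.tw_cube] at h3
  exact h2 h3.symm

/-- sum over the conjugates -/
theorem Tri.sum_orbit (T : Tri P τ) [Fintype (P : Subgroup G)] {x : (P : Subgroup G)}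
    (hx : x ≠ 1) (F : ↥(P : Subgroup G) → ℂ) [∀ y : (P : Subgroup G), Decidable (IsConj (x : G) (y : G))] :
    ∑ y : (P : Subgroup G), (if IsConj (x : G) (y : G) then F y else 0) =
      F x + F (τ x) + F (τ (τ x)) := by
  classical
  have h1 : ∀ y : (P : Subgroup G), (if IsConj (x : G) (y : G) then F y else 0) =
      if y ∈ ({x, τ x, τ (τ x)} : Finset (P : Subgroup G)) then F y else 0 := by
    intro y
    simp only [Finset.mem_insert, Finset.mem_singleton, T.fus x y hx]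
  have n1 : x ≠ τ x := fun h => hx (T.free x h.symm)
  have n2 : x ≠ τ (τ x) := fun h => hx (T.free2 h.symm)
  have n3 : τ x ≠ τ (τ x) := fun h => n1 (τ.injective h)
  rw [Finset.sum_congr rfl fun y _ => h1 y, Finset.sum_ite_mem, Finset.univ_inter,
    Finset.sum_insert (by simp only [Finset.mem_insert, Finset.mem_singleton, not_or]; exact ⟨n1, n2⟩),
    Finset.sum_pair n3, add_assoc]

variable [Fintype (P : Subgroup G)]

/-- the coefficient -/
noncomputable def cf (P : Sylow 2 G) [Fintype (P : Subgroup G)] (χ : G → ℂ)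
    (Λ : (P : Subgroup G) →* ℂˣ) : ℂ :=
  classInner (fun x : (P : Subgroup G) => χ x) (hf Λ) -
    classInner (fun x : (P : Subgroup G) => χ x) (hf 1)

theorem cf_eq (χ : G → ℂ) (Λ : (P : Subgroup G) →* ℂˣ) : cf P χ Λ =
    (Nat.card (P : Subgroup G) : ℂ)⁻¹ * ∑ x : (P : Subgroup G), χ x * conj ((Λ x : ℂ) - 1) := by
  rw [cf, classInner, classInner, ← mul_sub, ← Finset.sum_sub_distrib]
  congr 1
  refine Finset.sum_congr rfl fun x _ => ?_
  rw [hf_apply, hf_apply, MonoidHom.one_apply, Units.val_one, map_sub, map_one]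
  ring

theorem cf_int {χ : G → ℂ} (hχ : IsIrrCharacter G χ) (Λ : (P : Subgroup G) →* ℂˣ) :
    ∃ n : ℤ, cf P χ Λ = n := by
  have h1 := isGen_restrict (P : Subgroup G) (isGen_of_irr hχ)
  obtain ⟨a, ha⟩ := classInner_gen_int h1 (isGen_of_irr (isIrr_hf Λ))
  obtain ⟨b, hb⟩ := classInner_gen_int h1 (isGen_of_irr (isIrr_hf (1 : (P : Subgroup G) →* ℂˣ)))
  exact ⟨a - b, by rw [cf, ha, hb]; push_cast; rfl⟩

theorem sum_lin_zero (hab : ∀ x ∈ P, ∀ y ∈ P, x * y = y * x)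
    [Fintype ((P : Subgroup G) →* ℂˣ)] {x : (P : Subgroup G)} (hx : x ≠ 1) :
    ∑ Λ : (P : Subgroup G) →* ℂˣ, (Λ x : ℂ) = 0 := by
  classical
  have hc : ∀ x y : (P : Subgroup G), x * y = y * x := fun x y =>
    Subtype.ext (hab x x.2 y y.2)
  have h3 := ann_sum hc (⊥ : Subgroup (P : Subgroup G)) x
  have h4 : ∀ φ : (P : Subgroup G) →* ℂˣ, IsAnn (⊥ : Subgroup (P : Subgroup G)) φ := by
    intro φ u hu
    rw [Subgroup.mem_bot.1 hu, map_one]
  simp only [h4, if_true] at h3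
  rw [h3, if_neg]
  rw [Subgroup.mem_bot]; exact hx

theorem cf_val (hab : ∀ x ∈ P, ∀ y ∈ P, x * y = y * x)
    [Fintype ((P : Subgroup G) →* ℂˣ)] (χ : G → ℂ) {x : (P : Subgroup G)} (hx : x ≠ 1) :
    χ x = ∑ Λ : (P : Subgroup G) →* ℂˣ, cf P χ Λ * (Λ x : ℂ) := by
  have hc : ∀ x y : (P : Subgroup G), x * y = y * x := fun x y =>
    Subtype.ext (hab x x.2 y y.2)
  have h1 := expand_hf hc (fun x : (P : Subgroup G) => χ x) x
  simp only [cf, sub_mul]
  rw [Finset.sum_sub_distrib, ← Finset.mul_sum, sum_lin_zero hab hx, mul_zero, sub_zero]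
  exact h1

variable {M : Ideal AlgInt}

open Classical in
/-- the orthogonality relation -/
theorem gram (hM : IsPModular 2 M) (h : FrobSyl 2 P) (T : Tri P τ) [Fintype (IrrCharacter G)]
    {Λ Λ' : (P : Subgroup G) →* ℂˣ} (hΛ : Λ ≠ 1) (hΛ' : Λ' ≠ 1) :
    ∑ χ : IrrCharacter G with χ ∈ principalBlock M G, cf P (χ : G → ℂ) Λ *
      conj (cf P (χ : G → ℂ) Λ') =
      (if Λ ∈ ({Λ', tw τ Λ', tw τ (tw τ Λ')} : Finset ((P : Subgroup G) →* ℂˣ)) then 4 else 3) := by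
  classical
  obtain ⟨N, hN⟩ : ∃ N : ℂ, N = (Nat.card (P : Subgroup G) : ℂ) := ⟨_, rfl⟩
  have hN0 : N ≠ 0 := by
    rw [hN]
    exact_mod_cast Nat.card_pos.ne'
  -- the double sum
  have e1 : ∀ χ : IrrCharacter G, cf P (χ : G → ℂ) Λ * conj (cf P (χ : G → ℂ) Λ') =
      N⁻¹ * N⁻¹ * ∑ x : (P : Subgroup G), ∑ y : (P : Subgroup G),
        (conj ((Λ x : ℂ) - 1) * ((Λ' y : ℂ) - 1)) * ((χ : G → ℂ) x * conj ((χ : G → ℂ) y)) := by
    intro χ
    rw [cf_eq, cf_eq, map_mul, map_inv₀, Complex.conj_natCast, map_sum, ← hN]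
    rw [show N⁻¹ * (∑ x : (P : Subgroup G), (χ : G → ℂ) x * conj ((Λ x : ℂ) - 1)) *
      (N⁻¹ * ∑ x : (P : Subgroup G), conj ((χ : G → ℂ) x * conj ((Λ' x : ℂ) - 1))) =
      N⁻¹ * N⁻¹ * ((∑ x : (P : Subgroup G), (χ : G → ℂ) x * conj ((Λ x : ℂ) - 1)) *
      ∑ x : (P : Subgroup G), conj ((χ : G → ℂ) x * conj ((Λ' x : ℂ) - 1))) by ring]
    rw [Finset.sum_mul_sum]
    congr 1
    refine Finset.sum_congr rfl fun x _ => Finset.sum_congr rfl fun y _ => ?_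
    rw [map_mul, Complex.conj_conj]
    ring
  rw [Finset.sum_congr rfl fun χ _ => e1 χ, ← Finset.mul_sum, Finset.sum_comm]
  have e2 : ∀ x : (P : Subgroup G), ∑ χ : IrrCharacter G with χ ∈ principalBlock M G,
      ∑ y : (P : Subgroup G), (conj ((Λ x : ℂ) - 1) * ((Λ' y : ℂ) - 1)) *
        ((χ : G → ℂ) x * conj ((χ : G → ℂ) y)) =
      N * (conj ((Λ x : ℂ) - 1) * ((Λ' x : ℂ) + (Λ' (τ x) : ℂ) + (Λ' (τ (τ x)) : ℂ) - 3)) := by
    intro x
    rw [Finset.sum_comm]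
    by_cases hx : x = 1
    · rw [hx]; simp
    · have hx' : (x : G) ≠ 1 := fun h => hx (Subtype.ext h)
      have e3 : ∀ y : (P : Subgroup G), ∑ χ : IrrCharacter G with χ ∈ principalBlock M G,
          (conj ((Λ x : ℂ) - 1) * ((Λ' y : ℂ) - 1)) * ((χ : G → ℂ) x * conj ((χ : G → ℂ) y)) =
          if IsConj (x : G) (y : G) then N * (conj ((Λ x : ℂ) - 1) * ((Λ' y : ℂ) - 1)) else 0 := by
        intro y
        rw [← Finset.mul_sum]
        by_cases hy : y = 1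
        · rw [hy]; simp
        · have hy' : (y : G) ≠ 1 := fun h => hy (Subtype.ext h)
          rw [h.ortho hM x.2 hx' y.2 hy', ← hN]
          split_ifs <;> ring
      rw [Finset.sum_congr rfl fun y _ => e3 y, T.sum_orbit hx]
      ring
  rw [Finset.sum_congr rfl fun x _ => e2 x, ← Finset.mul_sum]
  -- the inner product
  have e4 : N⁻¹ * N⁻¹ * (N * ∑ x : (P : Subgroup G), conj ((Λ x : ℂ) - 1) *
      ((Λ' x : ℂ) + (Λ' (τ x) : ℂ) + (Λ' (τ (τ x)) : ℂ) - 3)) =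
      classInner (hf Λ' + hf (tw τ Λ') + hf (tw τ (tw τ Λ')) - (3 : ℂ) • hf 1)
        (hf Λ - hf (1 : (P : Subgroup G) →* ℂˣ)) := by
    rw [classInner, ← hN, show N⁻¹ * N⁻¹ * (N * ∑ x : (P : Subgroup G), conj ((Λ x : ℂ) - 1) *
      ((Λ' x : ℂ) + (Λ' (τ x) : ℂ) + (Λ' (τ (τ x)) : ℂ) - 3)) = N⁻¹ * (N⁻¹ * N) *
      ∑ x : (P : Subgroup G), conj ((Λ x : ℂ) - 1) *
      ((Λ' x : ℂ) + (Λ' (τ x) : ℂ) + (Λ' (τ (τ x)) : ℂ) - 3) by ring, inv_mul_cancel₀ hN0, mul_one]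
    congr 1
    refine Finset.sum_congr rfl fun x _ => ?_
    simp only [Pi.sub_apply, Pi.add_apply, Pi.smul_apply, hf_apply, tw_apply,
      MonoidHom.one_apply, Units.val_one, smul_eq_mul, mul_one]
    ring
  rw [e4]
  obtain ⟨n1, n2, n3⟩ := T.tw_ne h.comm hΛ'
  simp only [classInner_sub_left, classInner_sub_right, classInner_add_left, classInner_smul_left,
    inner_hf]
  rw [if_neg hΛ', if_neg (Ne.symm hΛ), if_true]
  have m1 : tw τ Λ' ≠ 1 := fun h' => by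
    apply hΛ'
    have h3 := congrArg (fun f => tw τ (tw τ f)) h'
    simp only [T.tw_cube] at h3
    rw [h3]; ext x; rfl
  have m2 : tw τ (tw τ Λ') ≠ 1 := fun h' => by
    apply hΛ'
    have h3 := congrArg (tw τ) h'
    rw [T.tw_cube] at h3
    rw [h3]; ext x; rfl
  rw [if_neg m1, if_neg m2]
  by_cases k1 : Λ = Λ'
  · subst k1
    rw [if_pos rfl, if_neg n1, if_neg n2, if_pos (by simp)]
    norm_num
  · rw [if_neg (Ne.symm k1)]
    by_cases k2 : Λ = tw τ Λ'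
    · rw [if_pos k2.symm, if_neg (by rw [k2]; exact n3), if_pos (by simp [k2])]
      norm_num
    · rw [if_neg (Ne.symm k2)]
      by_cases k3 : Λ = tw τ (tw τ Λ')
      · rw [if_pos k3.symm, if_pos (by simp [k3])]
        norm_num
      · rw [if_neg (Ne.symm k3), if_neg (by
          simp only [Finset.mem_insert, Finset.mem_singleton, not_or]; exact ⟨k1, k2, k3⟩)]
        norm_num

end

end Cfsg.Agent.H11
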