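import Cfsg.Agent.H11.HC3

/-! Sylow 2-subgroups of type (2^m, 2^m), part 4: structure of the principal block (helper11). -/

set_option autoImplicit false

namespace Cfsg.Agent.H11

open Cfsg Cfsg.Agent.H3 Cfsg.Agent.H11.PF Cfsg.Agent.H27 ComplexConjugate

universe u

variable {G : Type u} [Group G] [Fintype G] {P : Sylow 2 G}
  {τ : (P : Subgroup G) ≃* (P : Subgroup G)} {M : Ideal AlgInt}

structure HData (M : Ideal AlgInt) (P : Sylow 2 G) (i₀ a b : IrrCharacter G) (εa εb : ℤ) :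
    Prop where
  i0 : (i₀ : G → ℂ) = fun _ => 1
  mem_i : i₀ ∈ principalBlock M G
  mem_a : a ∈ principalBlock M G
  mem_b : b ∈ principalBlock M G
  ai : a ≠ i₀
  bi : b ≠ i₀
  ab : a ≠ b
  sa : εa = 1 ∨ εa = -1
  sb : εb = 1 ∨ εb = -1
  va : ∀ x ∈ P, x ≠ 1 → (a : G → ℂ) x = εa
  vb : ∀ x ∈ P, x ≠ 1 → (b : G → ℂ) x = εb
  other : ∀ χ ∈ principalBlock M G, χ ≠ i₀ → χ ≠ a → χ ≠ b → ∃ e : ℤ, (e = 1 ∨ e = -1) ∧
    (e : ℂ) * (χ : G → ℂ) 1 = 1 + εa * (a : G → ℂ) 1 + εb * (b : G → ℂ) 1 ∧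
    ∀ z ∈ P, z ≠ 1 → z ^ 2 = 1 → (χ : G → ℂ) z ^ 2 = 2 * e * (χ : G → ℂ) z + 3
  ex : ∃ χ ∈ principalBlock M G, χ ≠ i₀ ∧ χ ≠ a ∧ χ ≠ b

theorem sq_three {p q r : ℂ} (hp : p * p = 1) (hq : q * q = 1) (hr : r * r = 1)
    (hpqr : p * q * r = 1) : (p + q + r) ^ 2 = 2 * (p + q + r) + 3 := by
  have e1 : p * q = r := by
    calc p * q = p * q * (r * r) := by rw [hr, mul_one]
      _ = (p * q * r) * r := by ring
      _ = r := by rw [hpqr, one_mul]
  have e2 : q * r = p := by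
    calc q * r = q * r * (p * p) := by rw [hp, mul_one]
      _ = (p * q * r) * p := by ring
      _ = p := by rw [hpqr, one_mul]
  have e3 : p * r = q := by
    calc p * r = p * r * (q * q) := by rw [hq, mul_one]
      _ = (p * q * r) * q := by ring
      _ = q := by rw [hpqr, one_mul]
  linear_combination hp + hq + hr + 2 * e1 + 2 * e2 + 2 * e3

theorem two_agree {I : Type*} [DecidableEq I] (S : Finset I) (n n' : I → ℤ)
    (hn : ∀ i ∈ S, n i = 1 ∨ n i = -1) (hn' : ∀ i ∈ S, n' i = 1 ∨ n' i = -1)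
    (hle : S.card ≤ 3) (hsum : ∑ i ∈ S, n i * n' i = 2) :
    S.card = 2 ∧ ∀ i ∈ S, n i = n' i := by
  have h1 : ∑ i ∈ S, (1 - n i * n' i) = (S.card : ℤ) - 2 := by
    rw [Finset.sum_sub_distrib, hsum]; simp
  have hd : ∀ i ∈ S, (2 : ℤ) ∣ 1 - n i * n' i := by
    intro i hi
    rcases hn i hi with h | h <;> rcases hn' i hi with h' | h' <;> rw [h, h'] <;> norm_num
  have h0 : ∀ i ∈ S, 0 ≤ 1 - n i * n' i := by
    intro i hi
    rcases hn i hi with h | h <;> rcases hn' i hi with h' | h' <;> rw [h, h'] <;> norm_num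
  have h2 : (2 : ℤ) ∣ (S.card : ℤ) - 2 := h1 ▸ Finset.dvd_sum hd
  have h3 : 0 ≤ (S.card : ℤ) - 2 := h1 ▸ Finset.sum_nonneg h0
  have h4 : S.card = 2 := by omega
  refine ⟨h4, fun i hi => ?_⟩
  rw [h4] at h1
  have h5 := (Finset.sum_eq_zero_iff_of_nonneg h0).1 (by rw [h1]; norm_num) i hi
  rcases hn i hi with h | h <;> rcases hn' i hi with h' | h' <;> rw [h, h'] at h5 ⊢ <;>
    norm_num at h5

theorem hc_data (hM : IsPModular 2 M) (h : FrobSyl 2 P) (T : Tri P τ)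
    (hcard : 16 ≤ Nat.card (P : Subgroup G)) :
    ∃ i₀ a b : IrrCharacter G, ∃ εa εb : ℤ, HData M P i₀ a b εa εb := by
  classical
  have hMp : M.IsPrime := pmod_isPrime hM
  have := Fintype.ofFinite (IrrCharacter G)
  have hFP := Fintype.ofFinite (P : Subgroup G)
  have hc : ∀ x y : (P : Subgroup G), x * y = y * x := fun x y =>
    Subtype.ext (h.comm x x.2 y y.2)
  have hfin : Finite ((P : Subgroup G) →* ℂˣ) := finite_dual hc
  have hFL := Fintype.ofFinite ((P : Subgroup G) →* ℂˣ)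
  have h2G : 2 ∣ Nat.card G := by
    have h1 : Nat.card (P : Subgroup G) ∣ Nat.card G := Subgroup.card_subgroup_dvd_card _
    obtain ⟨k, hk⟩ := P.2.exists_card_eq
    rw [hk] at h1 hcard
    refine dvd_trans (dvd_pow_self 2 ?_) h1
    rintro rfl
    norm_num at hcard
  choose n hn using fun χ : IrrCharacter G => cf_int (P := P) χ.2
  obtain ⟨B, hB⟩ : ∃ B : Finset (IrrCharacter G), B = Finset.univ.filter
    (fun χ : IrrCharacter G => χ ∈ principalBlock M G) := ⟨_, rfl⟩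
  have hmemB : ∀ χ, χ ∈ B ↔ χ ∈ principalBlock M G := by intro χ; rw [hB]; simp
  obtain ⟨i₀, hi₀⟩ : ∃ i₀ : IrrCharacter G, i₀ = ⟨fun _ => 1, isIrr_one⟩ := ⟨_, rfl⟩
  have hiB : i₀ ∈ B := by
    rw [hmemB, hi₀]; exact mem_blockOf_self (⟨fun _ => 1, isIrr_one⟩ : IrrCharacter G)
  have hi1 : (i₀ : G → ℂ) = fun _ => 1 := by rw [hi₀]
  have n1 : ∀ χ : IrrCharacter G, n χ 1 = 0 := by
    intro χ
    have := hn χ 1
    rw [cf, sub_self] at this
    exact_mod_cast this.symm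
  have ni : ∀ Λ : (P : Subgroup G) →* ℂˣ, Λ ≠ 1 → n i₀ Λ = -1 := by
    intro Λ hΛ
    have h1 := hn i₀ Λ
    have e1 : (fun x : (P : Subgroup G) => (i₀ : G → ℂ) x) =
        hf (1 : (P : Subgroup G) →* ℂˣ) := by
      rw [hi1]; ext x; rw [hf_apply]; simp
    rw [cf, e1, inner_hf, inner_hf, if_neg (Ne.symm hΛ), if_pos rfl] at h1
    have : ((-1 : ℤ) : ℂ) = (n i₀ Λ : ℂ) := by rw [← h1]; norm_num
    exact_mod_cast this.symm
  -- Gram matrix
  have hgram : ∀ Λ Λ' : (P : Subgroup G) →* ℂˣ, Λ ≠ 1 → Λ' ≠ 1 →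
      ∑ χ ∈ B, n χ Λ * n χ Λ' =
        if Λ ∈ ({Λ', tw τ Λ', tw τ (tw τ Λ')} : Finset ((P : Subgroup G) →* ℂˣ)) then 4 else 3 := by
    intro Λ Λ' hΛ hΛ'
    have h1 := gram hM h T hΛ hΛ'
    rw [← hB, Finset.sum_congr rfl (g := fun χ : IrrCharacter G => ((n χ Λ * n χ Λ' : ℤ) : ℂ))
      (fun χ _ => by rw [hn, hn, map_intCast]; push_cast; rfl), ← Int.cast_sum] at h1
    have h2 : (if Λ ∈ ({Λ', tw τ Λ', tw τ (tw τ Λ')} : Finset ((P : Subgroup G) →* ℂˣ))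
        then (4 : ℂ) else 3) = ((if Λ ∈ ({Λ', tw τ Λ', tw τ (tw τ Λ')} :
          Finset ((P : Subgroup G) →* ℂˣ)) then 4 else 3 : ℤ) : ℂ) := by
      split_ifs <;> norm_num
    rw [h2] at h1
    exact_mod_cast h1
  obtain ⟨B', hB'⟩ : ∃ B', B' = B.erase i₀ := ⟨_, rfl⟩
  have hgram' : ∀ Λ Λ' : (P : Subgroup G) →* ℂˣ, Λ ≠ 1 → Λ' ≠ 1 →
      ∑ χ ∈ B', n χ Λ * n χ Λ' =
        if Λ ∈ ({Λ', tw τ Λ', tw τ (tw τ Λ')} : Finset ((P : Subgroup G) →* ℂˣ)) then 3 else 2 := by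
    intro Λ Λ' hΛ hΛ'
    have h1 := hgram Λ Λ' hΛ hΛ'
    rw [← Finset.add_sum_erase _ _ hiB, ni Λ hΛ, ni Λ' hΛ', ← hB'] at h1
    split_ifs at h1 ⊢ <;> linarith
  -- equivalent characters have the same coefficients
  have heq : ∀ Λ Λ' : (P : Subgroup G) →* ℂˣ, Λ ≠ 1 → Λ' ≠ 1 →
      Λ ∈ ({Λ', tw τ Λ', tw τ (tw τ Λ')} : Finset ((P : Subgroup G) →* ℂˣ)) →
      ∀ χ ∈ B, n χ Λ = n χ Λ' := by
    intro Λ Λ' hΛ hΛ' hmem
    have e1 := hgram Λ Λ' hΛ hΛ'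
    have e2 := hgram Λ Λ hΛ hΛ
    have e3 := hgram Λ' Λ' hΛ' hΛ'
    rw [if_pos hmem] at e1
    rw [if_pos (by simp)] at e2 e3
    have e4 : ∑ χ ∈ B, (n χ Λ - n χ Λ') ^ 2 = 0 := by
      have : ∀ χ ∈ B, (n χ Λ - n χ Λ') ^ 2 = n χ Λ * n χ Λ - 2 * (n χ Λ * n χ Λ') +
        n χ Λ' * n χ Λ' := fun χ _ => by ring
      rw [Finset.sum_congr rfl this, Finset.sum_add_distrib, Finset.sum_sub_distrib,
        ← Finset.mul_sum, e1, e2, e3]
      norm_num
    intro χ hχ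
    have e5 := (Finset.sum_eq_zero_iff_of_nonneg (fun χ _ => sq_nonneg _)).1 e4 χ hχ
    have e6 := pow_eq_zero_iff (two_ne_zero) |>.1 e5
    linarith
  -- supports
  let W : {Λ : (P : Subgroup G) →* ℂˣ // Λ ≠ 1} → Finset (IrrCharacter G) :=
    fun l => B'.filter fun χ => n χ l.1 ≠ 0
  have hWmem : ∀ l χ, χ ∈ W l ↔ χ ∈ B' ∧ n χ l.1 ≠ 0 := fun l χ => Finset.mem_filter
  have hWB : ∀ l, W l ⊆ B := fun l χ hχ => Finset.mem_of_mem_erase (hB' ▸ ((hWmem l χ).1 hχ).1)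
  have hW3 : ∀ l, (W l).card = 3 ∧ ∀ χ ∈ W l, n χ l.1 = 1 ∨ n χ l.1 = -1 := by
    intro l
    refine sum_sq_three (W l) (fun χ => n χ l.1) (fun χ hχ => ((hWmem l χ).1 hχ).2) ?_
    have h1 := hgram' l.1 l.1 l.2 l.2
    rw [if_pos (by simp)] at h1
    rw [← h1]
    refine Finset.sum_subset (Finset.filter_subset _ _) fun χ hχ hχ' => ?_
    have : n χ l.1 = 0 := by
      by_contra h0
      exact hχ' (Finset.mem_filter.2 ⟨hχ, h0⟩)
    rw [this]; ring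
  have hagree : ∀ l l' : {Λ : (P : Subgroup G) →* ℂˣ // Λ ≠ 1},
      l.1 ∉ ({l'.1, tw τ l'.1, tw τ (tw τ l'.1)} : Finset ((P : Subgroup G) →* ℂˣ)) →
      (W l ∩ W l').card = 2 ∧ ∀ χ ∈ W l ∩ W l', n χ l.1 = n χ l'.1 := by
    intro l l' hll
    refine two_agree (W l ∩ W l') (fun χ => n χ l.1) (fun χ => n χ l'.1)
      (fun χ hχ => (hW3 l).2 χ (Finset.mem_inter.1 hχ).1)
      (fun χ hχ => (hW3 l').2 χ (Finset.mem_inter.1 hχ).2) ?_ ?_
    · rw [← (hW3 l).1]; exact Finset.card_le_card Finset.inter_subset_left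
    · have h1 := hgram' l.1 l'.1 l.2 l'.2
      rw [if_neg hll] at h1
      rw [← h1]
      refine Finset.sum_subset (Finset.inter_subset_left.trans (Finset.filter_subset _ _))
        fun χ hχ hχ' => ?_
      by_cases h0 : n χ l.1 = 0
      · rw [h0]; ring
      · by_cases h0' : n χ l'.1 = 0
        · rw [h0']; ring
        · exact absurd (Finset.mem_inter.2 ⟨Finset.mem_filter.2 ⟨hχ, h0⟩,
            Finset.mem_filter.2 ⟨hχ, h0'⟩⟩) hχ'
  have hWeq : ∀ l l' : {Λ : (P : Subgroup G) →* ℂˣ // Λ ≠ 1},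
      l.1 ∈ ({l'.1, tw τ l'.1, tw τ (tw τ l'.1)} : Finset ((P : Subgroup G) →* ℂˣ)) →
      W l = W l' := by
    intro l l' hll
    ext χ
    rw [hWmem, hWmem]
    constructor
    · rintro ⟨h1, h2⟩
      exact ⟨h1, by rwa [← heq l.1 l'.1 l.2 l'.2 hll χ (Finset.mem_of_mem_erase (hB' ▸ h1))]⟩
    · rintro ⟨h1, h2⟩
      exact ⟨h1, by rwa [heq l.1 l'.1 l.2 l'.2 hll χ (Finset.mem_of_mem_erase (hB' ▸ h1))]⟩
  have hW2 : ∀ l l', W l ≠ W l' → (W l ∩ W l').card = 2 := fun l l' hne =>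
    (hagree l l' fun hmem => hne (hWeq l l' hmem)).1
  have hcardL : 15 ≤ Fintype.card {Λ : (P : Subgroup G) →* ℂˣ // Λ ≠ 1} := by
    have h1 : Fintype.card ((P : Subgroup G) →* ℂˣ) = Nat.card (P : Subgroup G) := by
      rw [← card_dual hc, Nat.card_eq_fintype_card]
    have h2 : Fintype.card {Λ : (P : Subgroup G) →* ℂˣ // Λ ≠ 1} =
        Fintype.card ((P : Subgroup G) →* ℂˣ) - 1 := by
      rw [Fintype.card_subtype_compl, Fintype.card_subtype_eq]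
    omega
  have hW5 : 5 ≤ (Finset.univ.image W).card := by
    have h1 := Finset.card_le_mul_card_image (f := W)
      (Finset.univ : Finset {Λ : (P : Subgroup G) →* ℂˣ // Λ ≠ 1}) 3 ?_
    · rw [Finset.card_univ] at h1
      omega
    · intro X hX
      obtain ⟨l', -, rfl⟩ := Finset.mem_image.1 hX
      have h2 : (Finset.univ.filter fun l => W l = W l') ⊆
          (Finset.univ.filter fun l : {Λ : (P : Subgroup G) →* ℂˣ // Λ ≠ 1} =>
            l.1 ∈ ({l'.1, tw τ l'.1, tw τ (tw τ l'.1)} : Finset ((P : Subgroup G) →* ℂˣ))) := by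
        intro l hl
        rw [Finset.mem_filter] at hl ⊢
        refine ⟨hl.1, ?_⟩
        by_contra hcon
        have h3 := (hagree l l' hcon).1
        rw [hl.2, Finset.inter_self, (hW3 l').1] at h3
        omega
      refine (Finset.card_le_card h2).trans ?_
      rw [← Finset.card_image_of_injective _ Subtype.val_injective]
      refine (Finset.card_le_card (t := ({l'.1, tw τ l'.1, tw τ (tw τ l'.1)} :
        Finset ((P : Subgroup G) →* ℂˣ))) ?_).trans Finset.card_le_three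
      intro x hx
      obtain ⟨l, hl, rfl⟩ := Finset.mem_image.1 hx
      exact (Finset.mem_filter.1 hl).2
  obtain ⟨D, hD2, hD⟩ := sunflower W (fun l => (hW3 l).1) hW2 hW5
  obtain ⟨a, b, hab, rfl⟩ := Finset.card_eq_two.1 hD2
  obtain ⟨l₀⟩ : Nonempty {Λ : (P : Subgroup G) →* ℂˣ // Λ ≠ 1} := by
    rw [← Fintype.card_pos_iff]; omega
  have haW : ∀ l, a ∈ W l := fun l => hD l (by simp)
  have hbW : ∀ l, b ∈ W l := fun l => hD l (by simp)
  have hconst : ∀ χ, (∀ l, χ ∈ W l) → ∀ l : {Λ : (P : Subgroup G) →* ℂˣ // Λ ≠ 1},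
      n χ l.1 = n χ l₀.1 := by
    intro χ hχ l
    by_cases hll : l.1 ∈ ({l₀.1, tw τ l₀.1, tw τ (tw τ l₀.1)} : Finset ((P : Subgroup G) →* ℂˣ))
    · exact heq l.1 l₀.1 l.2 l₀.2 hll χ (hWB l (hχ l))
    · exact (hagree l l₀ hll).2 χ (Finset.mem_inter.2 ⟨hχ l, hχ l₀⟩)
  have hval : ∀ χ, (∀ l, χ ∈ W l) → ∀ x ∈ P, x ≠ 1 → (χ : G → ℂ) x = ((-n χ l₀.1 : ℤ) : ℂ) := by
    intro χ hχ x hx hx1
    have hx1' : (⟨x, hx⟩ : (P : Subgroup G)) ≠ 1 := fun h => hx1 (congrArg Subtype.val h)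
    have h1 := cf_val h.comm (χ : G → ℂ) hx1'
    have h0 := sum_lin_zero h.comm hx1'
    have h2 : ∀ Λ : (P : Subgroup G) →* ℂˣ, cf P (χ : G → ℂ) Λ * (Λ ⟨x, hx⟩ : ℂ) =
        (n χ l₀.1 : ℂ) * (Λ ⟨x, hx⟩ : ℂ) - if Λ = 1 then (n χ l₀.1 : ℂ) else 0 := by
      intro Λ
      rw [hn]
      by_cases hΛ : Λ = 1
      · rw [if_pos hΛ, hΛ, n1]; simp
      · rw [if_neg hΛ, sub_zero, hconst χ hχ ⟨Λ, hΛ⟩]
    rw [Finset.sum_congr rfl fun Λ _ => h2 Λ, Finset.sum_sub_distrib, ← Finset.mul_sum, h0,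
      Finset.sum_ite_eq' Finset.univ (1 : (P : Subgroup G) →* ℂˣ) fun _ => (n χ l₀.1 : ℂ),
      if_pos (Finset.mem_univ _)] at h1
    have h3 : (χ : G → ℂ) x = (n χ l₀.1 : ℂ) * 0 - (n χ l₀.1 : ℂ) := h1
    rw [h3]; push_cast; ring
  have hneg : ∀ (l : {Λ : (P : Subgroup G) →* ℂˣ // Λ ≠ 1}) (χ : IrrCharacter G), χ ∈ W l →
      (-n χ l.1 = 1 ∨ -n χ l.1 = -1) := by
    intro l χ hχ
    rcases (hW3 l).2 χ hχ with h1 | h1 <;> rw [h1] <;> norm_num
  have hB'i : ∀ χ ∈ B', χ ≠ i₀ := fun χ hχ => Finset.ne_of_mem_erase (hB' ▸ hχ)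
  have hdeg : ∀ Λ : (P : Subgroup G) →* ℂˣ, ∑ χ ∈ B, (χ : G → ℂ) 1 * (n χ Λ : ℂ) = 0 := by
    intro Λ
    have h1 : ∀ χ ∈ B, (χ : G → ℂ) 1 * (n χ Λ : ℂ) = (Nat.card (P : Subgroup G) : ℂ)⁻¹ *
        ∑ x : (P : Subgroup G), conj ((Λ x : ℂ) - 1) * ((χ : G → ℂ) 1 * (χ : G → ℂ) x) := by
      intro χ _
      rw [← hn, cf_eq, mul_left_comm, Finset.mul_sum]
      congr 1
      refine Finset.sum_congr rfl fun x _ => ?_
      ring
    rw [Finset.sum_congr rfl h1, ← Finset.mul_sum, Finset.sum_comm]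
    rw [Finset.sum_eq_zero, mul_zero]
    intro x _
    rw [← Finset.mul_sum]
    by_cases hx : x = 1
    · rw [hx]; simp
    · have hx' : (x : G) ≠ 1 := fun h => hx (Subtype.ext h)
      have hx2 : 2 ∣ orderOf (x : G)⁻¹ := by
        obtain ⟨k, hk⟩ := mem_sylow_order x.2
        rw [orderOf_inv, hk]
        refine dvd_pow_self 2 ?_
        rintro rfl
        rw [pow_zero, orderOf_eq_one_iff] at hk
        exact hx' hk
      have h2 := weak_block_orthogonality hM (B := principalBlock M G) principalBlock_isPBlock 1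
        (x : G)⁻¹ (by rw [orderOf_one]; norm_num) hx2
      rw [finsum_mem_irr, ← hB] at h2
      have h3 : ∑ χ ∈ B, (χ : G → ℂ) 1 * (χ : G → ℂ) x = 0 := by
        rw [← h2]
        refine Finset.sum_congr rfl fun χ _ => ?_
        rw [char_inv (irr_isChar χ.2), Complex.conj_conj]
      rw [h3, mul_zero]
  refine ⟨i₀, a, b, -n a l₀.1, -n b l₀.1, ⟨hi1, (hmemB _).1 hiB, (hmemB _).1 (hWB l₀ (haW l₀)),
    (hmemB _).1 (hWB l₀ (hbW l₀)), hB'i a ((hWmem _ _).1 (haW l₀)).1,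
    hB'i b ((hWmem _ _).1 (hbW l₀)).1, hab, hneg l₀ a (haW l₀), hneg l₀ b (hbW l₀),
    hval a haW, hval b hbW, ?_, ?_⟩⟩
  · intro χ hχ hχi hχa hχb
    have hχB := (hmemB χ).2 hχ
    have hχB' : χ ∈ B' := by rw [hB']; exact Finset.mem_erase.2 ⟨hχi, hχB⟩
    obtain ⟨l₁, hl₁⟩ : ∃ l : {Λ : (P : Subgroup G) →* ℂˣ // Λ ≠ 1}, n χ l.1 ≠ 0 := by
      by_contra hcon
      push Not at hcon
      obtain ⟨z, hz, hz1, hne⟩ := h.exists_ne hM h2G hχ
      apply hne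
      have h1 := cf_val h.comm (χ : G → ℂ) (x := ⟨z, hz⟩) fun h => hz1 (congrArg Subtype.val h)
      have h2 : ∀ Λ : (P : Subgroup G) →* ℂˣ, cf P (χ : G → ℂ) Λ * (Λ ⟨z, hz⟩ : ℂ) = 0 := by
        intro Λ
        rw [hn]
        by_cases hΛ : Λ = 1
        · rw [hΛ, n1]; simp
        · rw [hcon ⟨Λ, hΛ⟩]; simp
      rw [Finset.sum_congr rfl fun Λ _ => h2 Λ, Finset.sum_const_zero] at h1
      exact h1
    have hχW : χ ∈ W l₁ := (hWmem _ _).2 ⟨hχB', hl₁⟩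
    have hins : insert χ ({a, b} : Finset (IrrCharacter G)) = W l₁ := by
      apply Finset.eq_of_subset_of_card_le
      · exact Finset.insert_subset hχW (hD l₁)
      · rw [Finset.card_insert_of_notMem (by simp [hχa, hχb]), hD2, (hW3 l₁).1]
    have hcoef : ∀ l : {Λ : (P : Subgroup G) →* ℂˣ // Λ ≠ 1}, n χ l.1 =
        if l.1 ∈ ({l₁.1, tw τ l₁.1, tw τ (tw τ l₁.1)} : Finset ((P : Subgroup G) →* ℂˣ))
          then n χ l₁.1 else 0 := by
      intro l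
      split_ifs with hll
      · exact heq l.1 l₁.1 l.2 l₁.2 hll χ hχB
      · by_contra h0
        have h1 := (hagree l l₁ hll).1
        have h2 : insert χ ({a, b} : Finset (IrrCharacter G)) ⊆ W l ∩ W l₁ :=
          Finset.subset_inter (Finset.insert_subset ((hWmem _ _).2 ⟨hχB', h0⟩) (hD l))
            (by rw [hins])
        have h3 := Finset.card_le_card h2
        rw [h1, Finset.card_insert_of_notMem (by simp [hχa, hχb]), hD2] at h3
        omega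
    refine ⟨n χ l₁.1, (hW3 l₁).2 χ hχW, ?_, ?_⟩
    · -- degrees
      have h1 := hdeg l₁.1
      have h2 : ∑ χ' ∈ B, (χ' : G → ℂ) 1 * (n χ' l₁.1 : ℂ) =
          ∑ χ' ∈ insert i₀ (W l₁), (χ' : G → ℂ) 1 * (n χ' l₁.1 : ℂ) := by
        symm
        refine Finset.sum_subset (Finset.insert_subset hiB (hWB l₁)) fun χ' hχ' hχ'' => ?_
        rw [Finset.mem_insert, not_or] at hχ''
        have : n χ' l₁.1 = 0 := by
          by_contra h0
          exact hχ''.2 ((hWmem _ _).2 ⟨by rw [hB']; exact Finset.mem_erase.2 ⟨hχ''.1, hχ'⟩, h0⟩)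
        rw [this]; simp
      rw [h2, Finset.sum_insert (fun hmem => hB'i i₀ ((hWmem _ _).1 hmem).1 rfl), ← hins,
        Finset.sum_insert (by simp [hχa, hχb]), Finset.sum_pair hab, ni _ l₁.2, hi1,
        hconst a haW l₁, hconst b hbW l₁] at h1
      push_cast at h1 ⊢
      linear_combination h1
    · intro z hz hz1 hz2
      obtain ⟨Z, hZ⟩ : ∃ Z : (P : Subgroup G), Z = ⟨z, hz⟩ := ⟨_, rfl⟩
      have hZ1 : Z ≠ 1 := by rw [hZ]; exact fun h => hz1 (congrArg Subtype.val h)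
      have hZ2 : Z * Z = 1 := by rw [hZ]; exact Subtype.ext ((pow_two z).symm.trans hz2)
      obtain ⟨m1, m2, m3⟩ := T.tw_ne h.comm l₁.2
      have hv : (χ : G → ℂ) z = (n χ l₁.1 : ℂ) * ((l₁.1 Z : ℂ) + (l₁.1 (τ Z) : ℂ) +
          (l₁.1 (τ (τ Z)) : ℂ)) := by
        have h1 := cf_val h.comm (χ : G → ℂ) hZ1
        have h2 : ∀ Λ : (P : Subgroup G) →* ℂˣ, cf P (χ : G → ℂ) Λ * (Λ Z : ℂ) =
            if Λ ∈ ({l₁.1, tw τ l₁.1, tw τ (tw τ l₁.1)} : Finset ((P : Subgroup G) →* ℂˣ))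
              then (n χ l₁.1 : ℂ) * (Λ Z : ℂ) else 0 := by
          intro Λ
          rw [hn]
          by_cases hΛ : Λ = 1
          · rw [hΛ, n1, if_neg]
            · simp
            · simp only [Finset.mem_insert, Finset.mem_singleton, not_or]
              refine ⟨Ne.symm l₁.2, fun h' => l₁.2 ?_, fun h' => l₁.2 ?_⟩
              · have h3 := congrArg (fun f => tw τ (tw τ f)) h'
                simp only [T.tw_cube] at h3
                rw [← h3]; ext x; rfl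
              · have h3 := congrArg (tw τ) h'
                rw [T.tw_cube] at h3
                rw [← h3]; ext x; rfl
          · rw [hcoef ⟨Λ, hΛ⟩]
            split_ifs
            · rfl
            · simp
        rw [Finset.sum_congr rfl fun Λ _ => h2 Λ, Finset.sum_ite_mem, Finset.univ_inter,
          Finset.sum_insert (by
            simp only [Finset.mem_insert, Finset.mem_singleton, not_or]
            exact ⟨m1.symm, m2.symm⟩), Finset.sum_pair m3.symm] at h1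
        rw [hZ] at h1 ⊢
        rw [show (χ : G → ℂ) z = (χ : G → ℂ) ((⟨z, hz⟩ : (P : Subgroup G)) : G) from rfl, h1,
          tw_apply, tw_apply, tw_apply]
        ring
      have hp : ((l₁.1 Z : ℂˣ) : ℂ) * (l₁.1 Z : ℂ) = 1 := by
        rw [← Units.val_mul, ← map_mul, hZ2, map_one]; rfl
      have hq : ((l₁.1 (τ Z) : ℂˣ) : ℂ) * (l₁.1 (τ Z) : ℂ) = 1 := by
        rw [← Units.val_mul, ← map_mul, ← map_mul, hZ2, map_one, map_one]; rfl
      have hr : ((l₁.1 (τ (τ Z)) : ℂˣ) : ℂ) * (l₁.1 (τ (τ Z)) : ℂ) = 1 := by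
        rw [← Units.val_mul, ← map_mul, ← map_mul, ← map_mul, hZ2, map_one, map_one, map_one]; rfl
      have hpr : Z * τ Z * τ (τ Z) = 1 := by
        apply T.free
        rw [map_mul, map_mul, T.cube]
        rw [hc (τ Z * τ (τ Z)) Z, mul_assoc]
      have hpqr : ((l₁.1 Z : ℂˣ) : ℂ) * (l₁.1 (τ Z) : ℂ) * (l₁.1 (τ (τ Z)) : ℂ) = 1 := by
        rw [← Units.val_mul, ← map_mul, ← Units.val_mul, ← map_mul, hpr, map_one]; rfl
      rw [hv]
      have he : ((n χ l₁.1 : ℤ) : ℂ) * (n χ l₁.1 : ℂ) = 1 := by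
        rcases (hW3 l₁).2 χ hχW with h1 | h1 <;> rw [h1] <;> norm_num
      have e4 := sq_three hp hq hr hpqr
      rw [mul_pow, e4, pow_two, he]
      linear_combination (-2 * ((l₁.1 Z : ℂ) + (l₁.1 (τ Z) : ℂ) + (l₁.1 (τ (τ Z)) : ℂ))) * he
  · -- existence
    have h1 : ∃ χ ∈ W l₀, χ ∉ ({a, b} : Finset (IrrCharacter G)) := by
      by_contra hcon
      push Not at hcon
      have h2 : W l₀ ⊆ {a, b} := hcon
      have h3 := Finset.card_le_card h2
      rw [(hW3 l₀).1, hD2] at h3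
      omega
    obtain ⟨χ, hχ, hχ'⟩ := h1
    simp only [Finset.mem_insert, Finset.mem_singleton, not_or] at hχ'
    exact ⟨χ, (hmemB χ).1 (hWB l₀ hχ), hB'i χ ((hWmem _ _).1 hχ).1, hχ'.1, hχ'.2⟩

end Cfsg.Agent.H11
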