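import Cfsg.Agent.H11.HC4
import Cfsg.Agent.H27.PMod
import Cfsg.Agent.H11.Misc1

/-! Sylow 2-subgroups of type (2^m, 2^m), part 5: Brauer's theorem (helper11). -/

set_option autoImplicit false

namespace Cfsg.Agent.H11

open Cfsg Cfsg.Agent.H3 Cfsg.Agent.H11.PF Cfsg.Agent.H27 ComplexConjugate

universe u

section const

variable {G : Type u} [Group G] [Fintype G] {P : Sylow 2 G}
  {τ : (P : Subgroup G) ≃* (P : Subgroup G)} {M : Ideal AlgInt}

theorem Tri.not_inv (T : Tri P τ) {w : G} (hw : w ∈ P) (hw2 : w * w ≠ 1) : ¬ IsConj w w⁻¹ := by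
  intro hc
  obtain ⟨W, hW⟩ : ∃ W : (P : Subgroup G), W = ⟨w, hw⟩ := ⟨_, rfl⟩
  have hW2 : W * W ≠ 1 := by
    rw [hW]; exact fun h => hw2 (congrArg Subtype.val h)
  have hW1 : W ≠ 1 := by
    rintro h; apply hW2; rw [h, one_mul]
  have hc' : IsConj (W : G) ((W⁻¹ : (P : Subgroup G)) : G) := by rw [hW]; exact hc
  have key : τ W ≠ W⁻¹ := by
    intro h1
    have h2 : τ (τ W) = W := by rw [h1, map_inv, h1, inv_inv]
    exact hW1 (T.free2 h2)
  rcases (T.fus W W⁻¹ hW1).1 hc' with h | h | h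
  · apply hW2
    calc W * W = W * W⁻¹ := by rw [h]
      _ = 1 := mul_inv_cancel W
  · exact key h.symm
  · have h1 : τ W⁻¹ = W := by rw [h, T.cube]
    rw [map_inv] at h1
    exact key (inv_eq_iff_eq_inv.1 h1)

theorem const_sum (hM : IsPModular 2 M) (T : Tri P τ) [Fintype (IrrCharacter G)]
    {z w : G} (hz2 : z * z = 1) (hw : w ∈ P) (hw2 : w * w ≠ 1)
    [DecidablePred fun χ : IrrCharacter G => χ ∈ principalBlock M G] :
    ∑ χ : IrrCharacter G with χ ∈ principalBlock M G,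
      (χ : G → ℂ) z ^ 2 / (χ : G → ℂ) 1 * (χ : G → ℂ) w = 0 := by
  classical
  have hz1 : z⁻¹ = z := inv_eq_of_mul_eq_one_left hz2
  obtain ⟨K, hK⟩ : ∃ K : Set G, K = {x | IsConj z x} := ⟨_, rfl⟩
  have hKc : IsClassFunction G (ind K) := by
    rw [hK]; exact ind_classFun (isConj_class_closed z)
  obtain ⟨f, hf⟩ : ∃ f, f = conv (ind K) (ind K) := ⟨_, rfl⟩
  have hfc : IsClassFunction G f := by rw [hf]; exact conv_classFun hKc hKc
  have hsq : ∀ x : G, IsConj z x → x * x = 1 := by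
    intro x hx
    obtain ⟨c, hc⟩ := isConj_iff.1 hx
    rw [← hc]
    calc c * z * c⁻¹ * (c * z * c⁻¹) = c * (z * z) * c⁻¹ := by group
      _ = 1 := by rw [hz2]; group
  have h0 : ∀ u y : G, IsPPart 2 u y → IsConj w y → f u = 0 := by
    intro u y hu hy
    rw [hf, conv_ind]
    have : IsEmpty {p : G × G // p.1 ∈ K ∧ p.2 ∈ K ∧ p.1 * p.2 = u} := by
      refine ⟨fun ⟨p, h1, h2, h3⟩ => ?_⟩
      rw [hK] at h1 h2
      have e1 := hsq p.1 h1
      have e2 := hsq p.2 h2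
      have i1 : p.1⁻¹ = p.1 := inv_eq_of_mul_eq_one_left e1
      have i2 : p.2⁻¹ = p.2 := inv_eq_of_mul_eq_one_left e2
      have e3 : p.1 * u * p.1⁻¹ = u⁻¹ := by
        rw [← h3, mul_inv_rev, i1, i2, ← mul_assoc, e1, one_mul]
      -- `y` is inverted by `p.1`
      obtain ⟨k, hk⟩ := isPPart_mem_zpowers Nat.prime_two hu
      have e4 : p.1 * y * p.1⁻¹ = y⁻¹ := by
        rw [hk, ← conj_pow, e3, inv_pow]
      have hyy : IsConj y y⁻¹ := isConj_iff.2 ⟨p.1, e4⟩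
      obtain ⟨c, hc⟩ := isConj_iff.1 hy
      refine T.not_inv hw hw2 ((hy.trans hyy).trans (isConj_iff.2 ⟨c⁻¹, ?_⟩))
      rw [← hc]; group
    rw [Nat.card_of_isEmpty]; simp
  have hwk : ∃ k : ℕ, orderOf w = 2 ^ k := mem_sylow_order hw
  have h1 := blockPart_section hM hfc (x := w) h0 (principalBlock_isPBlock (M := M) (G := G)) w w
    (H11.isPPart_self Nat.prime_two hwk.choose_spec) (IsConj.refl w)
  rw [blockPart_eq_sum] at h1
  -- the inner products
  have hreal : ∀ x, conj (f x) = f x := by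
    intro x
    rw [hf, conv_ind, Complex.conj_natCast]
  obtain ⟨c, hc⟩ : ∃ c : ℂ, c = (Nat.card G : ℂ)⁻¹ *
    ((Subgroup.centralizer ({z} : Set G)).index : ℂ) ^ 2 := ⟨_, rfl⟩
  have hc0 : c ≠ 0 := by
    rw [hc]
    refine mul_ne_zero (inv_ne_zero (by exact_mod_cast Nat.card_pos.ne')) (pow_ne_zero _ ?_)
    exact_mod_cast Subgroup.index_ne_zero_of_finite
  have hin : ∀ χ : IrrCharacter G, classInner f (χ : G → ℂ) = c * ((χ : G → ℂ) z ^ 2 /
      (χ : G → ℂ) 1) := by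
    intro χ
    have hd := isIrr_one_ne_zero χ.2
    have e1 : hat f (χ : G → ℂ) = centralChar (χ : G → ℂ) z ^ 2 := by
      rw [hf, hat_conv χ.2 hKc, hK, hat_ind_class (irr_isChar χ.2), pow_two]
    have e2 : ∑ x : G, f x * (χ : G → ℂ) x = centralChar (χ : G → ℂ) z ^ 2 * (χ : G → ℂ) 1 := by
      rw [← e1, hat, div_mul_cancel₀ _ hd]
    have e3 : classInner f (χ : G → ℂ) = conj ((Nat.card G : ℂ)⁻¹ * ∑ x : G, f x * (χ : G → ℂ) x) := by
      rw [classInner, map_mul, map_inv₀, Complex.conj_natCast, map_sum]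
      congr 1
      refine Finset.sum_congr rfl fun x _ => ?_
      rw [map_mul, hreal]
    have e4 : conj ((χ : G → ℂ) z) = (χ : G → ℂ) z := by
      rw [← char_inv (irr_isChar χ.2), hz1]
    obtain ⟨d, hd1⟩ := char_one_eq_nat (irr_isChar χ.2)
    rw [e3, e2, centralChar, hc]
    simp only [map_mul, map_pow, map_div₀, map_inv₀, Complex.conj_natCast, e4, hd1]
    rw [hd1] at hd
    field_simp
  have h2 : ∑ χ : IrrCharacter G with χ ∈ principalBlock M G, classInner f (χ : G → ℂ) *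
      (χ : G → ℂ) w = c * ∑ χ : IrrCharacter G with χ ∈ principalBlock M G,
      (χ : G → ℂ) z ^ 2 / (χ : G → ℂ) 1 * (χ : G → ℂ) w := by
    rw [Finset.mul_sum]
    refine Finset.sum_congr rfl fun χ _ => ?_
    rw [hin]; ring
  have h3 : c * ∑ χ : IrrCharacter G with χ ∈ principalBlock M G,
      (χ : G → ℂ) z ^ 2 / (χ : G → ℂ) 1 * (χ : G → ℂ) w = 0 := by
    rw [← h2]
    convert h1
  exact (mul_eq_zero.1 h3).resolve_left hc0

/-- the character `a` is linear -/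
theorem HData.linear (hM : IsPModular 2 M) (h : FrobSyl 2 P) (T : Tri P τ)
    {i₀ a b : IrrCharacter G} {εa εb : ℤ} (H : HData M P i₀ a b εa εb)
    (hcard : 16 ∣ Nat.card (P : Subgroup G)) {z w : G} (hz : z ∈ P) (hz1 : z ≠ 1)
    (hz2 : z * z = 1) (hw : w ∈ P) (hw2 : w * w ≠ 1) :
    (a : G → ℂ) 1 = 1 ∧ εa = 1 := by
  classical
  have := Fintype.ofFinite (IrrCharacter G)
  have hFP := Fintype.ofFinite (P : Subgroup G)
  have hw1 : w ≠ 1 := fun h => hw2 (by rw [h, one_mul])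
  have hz1' : z⁻¹ = z := inv_eq_of_mul_eq_one_left hz2
  have hnc : ¬ IsConj w z := by
    intro hc
    obtain ⟨c, hc⟩ := isConj_iff.1 hc
    apply hw2
    calc w * w = c⁻¹ * ((c * w * c⁻¹) * (c * w * c⁻¹)) * c := by group
      _ = 1 := by rw [hc, hz2]; group
  obtain ⟨B, hB⟩ : ∃ B : Finset (IrrCharacter G), B = Finset.univ.filter
    (fun χ : IrrCharacter G => χ ∈ principalBlock M G) := ⟨_, rfl⟩
  have hmemB : ∀ χ, χ ∈ B ↔ χ ∈ principalBlock M G := by intro χ; rw [hB]; simp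
  obtain ⟨C, hC⟩ : ∃ C, C = ((B.erase i₀).erase a).erase b := ⟨_, rfl⟩
  have split : ∀ F : IrrCharacter G → ℂ, ∑ χ ∈ B, F χ = F i₀ + (F a + (F b + ∑ χ ∈ C, F χ)) := by
    intro F
    rw [← Finset.add_sum_erase _ _ ((hmemB i₀).2 H.mem_i),
      ← Finset.add_sum_erase _ _ (Finset.mem_erase.2 ⟨H.ai, (hmemB a).2 H.mem_a⟩),
      ← Finset.add_sum_erase _ _ (Finset.mem_erase.2 ⟨H.ab.symm, Finset.mem_erase.2
        ⟨H.bi, (hmemB b).2 H.mem_b⟩⟩), hC]
  have hCm : ∀ χ ∈ C, χ ∈ principalBlock M G ∧ χ ≠ i₀ ∧ χ ≠ a ∧ χ ≠ b := by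
    intro χ hχ
    rw [hC] at hχ
    have h1 := Finset.mem_erase.1 hχ
    have h2 := Finset.mem_erase.1 h1.2
    have h3 := Finset.mem_erase.1 h2.2
    exact ⟨(hmemB χ).1 h3.2, h3.1, h2.1, h1.1⟩
  obtain ⟨da, hda⟩ := char_one_eq_nat (irr_isChar a.2)
  obtain ⟨db, hdb⟩ := char_one_eq_nat (irr_isChar b.2)
  have hda0 : (a : G → ℂ) 1 ≠ 0 := isIrr_one_ne_zero a.2
  have hdb0 : (b : G → ℂ) 1 ≠ 0 := isIrr_one_ne_zero b.2
  obtain ⟨A, hA⟩ : ∃ A : ℤ, A = εa * da := ⟨_, rfl⟩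
  obtain ⟨A', hA'⟩ : ∃ A' : ℤ, A' = εb * db := ⟨_, rfl⟩
  obtain ⟨c, hc⟩ : ∃ c : ℂ, c = 1 + A + A' := ⟨_, rfl⟩
  have hea : (εa : ℂ) * εa = 1 := by rcases H.sa with h | h <;> rw [h] <;> norm_num
  have heb : (εb : ℂ) * εb = 1 := by rcases H.sb with h | h <;> rw [h] <;> norm_num
  have hAc : (A : ℂ) = εa * (a : G → ℂ) 1 := by rw [hA, hda]; push_cast; ring
  have hAc' : (A' : ℂ) = εb * (b : G → ℂ) 1 := by rw [hA', hdb]; push_cast; ring
  have hea0 : (εa : ℂ) ≠ 0 := fun h => by rw [h] at hea; norm_num at hea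
  have heb0 : (εb : ℂ) ≠ 0 := fun h => by rw [h] at heb; norm_num at heb
  have hA0 : (A : ℂ) ≠ 0 := by rw [hAc]; exact mul_ne_zero hea0 hda0
  have hA0' : (A' : ℂ) ≠ 0 := by rw [hAc']; exact mul_ne_zero heb0 hdb0
  -- the others
  have hoth : ∀ χ ∈ C, ∃ e : ℤ, (e : ℂ) * e = 1 ∧ (χ : G → ℂ) 1 = e * c ∧
      (χ : G → ℂ) z ^ 2 = 2 * e * (χ : G → ℂ) z + 3 := by
    intro χ hχ
    obtain ⟨h1, h2, h3, h4⟩ := hCm χ hχ
    obtain ⟨e, he, he2, he3⟩ := H.other χ h1 h2 h3 h4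
    have hee : (e : ℂ) * e = 1 := by rcases he with h | h <;> rw [h] <;> norm_num
    refine ⟨e, hee, ?_, he3 z hz hz1 (by rw [pow_two]; exact hz2)⟩
    rw [hc, hAc, hAc', ← he2, ← mul_assoc, hee, one_mul]
  have hc0 : c ≠ 0 := by
    obtain ⟨χ, h1, h2, h3, h4⟩ := H.ex
    have hχC : χ ∈ C := by
      rw [hC]
      exact Finset.mem_erase.2 ⟨h4, Finset.mem_erase.2 ⟨h3, Finset.mem_erase.2
        ⟨h2, (hmemB χ).2 h1⟩⟩⟩
    obtain ⟨e, -, he, -⟩ := hoth χ hχC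
    intro h5
    rw [h5, mul_zero] at he
    exact isIrr_one_ne_zero χ.2 he
  -- orthogonality relations
  have ro : ∑ χ ∈ C, (χ : G → ℂ) z * (χ : G → ℂ) w = -3 := by
    have h1 := h.ortho hM hw hw1 hz hz1
    rw [if_neg hnc, ← hB] at h1
    have h2 : ∀ χ ∈ B, (χ : G → ℂ) w * conj ((χ : G → ℂ) z) = (χ : G → ℂ) z * (χ : G → ℂ) w := by
      intro χ _
      rw [← char_inv (irr_isChar χ.2), hz1', mul_comm]
    rw [Finset.sum_congr rfl h2, split, H.i0, H.va z hz hz1, H.va w hw hw1, H.vb z hz hz1,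
      H.vb w hw hw1] at h1
    linear_combination h1 - hea - heb
  have rd : ∑ χ ∈ C, (χ : G → ℂ) 1 * (χ : G → ℂ) w = -c := by
    have hx2 : 2 ∣ orderOf w⁻¹ := by
      obtain ⟨k, hk⟩ := mem_sylow_order hw
      rw [orderOf_inv, hk]
      refine dvd_pow_self 2 ?_
      rintro rfl
      rw [pow_zero, orderOf_eq_one_iff] at hk
      exact hw1 hk
    have h2 := weak_block_orthogonality hM (B := principalBlock M G) principalBlock_isPBlock 1
      w⁻¹ (by rw [orderOf_one]; norm_num) hx2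
    rw [finsum_mem_irr, ← hB] at h2
    have h3 : ∑ χ ∈ B, (χ : G → ℂ) 1 * (χ : G → ℂ) w = 0 := by
      rw [← h2]
      refine Finset.sum_congr rfl fun χ _ => ?_
      rw [char_inv (irr_isChar χ.2), Complex.conj_conj]
    rw [split, H.i0, H.va w hw hw1, H.vb w hw hw1] at h3
    rw [hc, hAc, hAc']
    linear_combination h3
  have rc := const_sum hM T hz2 hw hw2
  rw [← hB, split, H.i0, H.va z hz hz1, H.va w hw hw1, H.vb z hz hz1, H.vb w hw hw1] at rc
  have hCs : ∑ χ ∈ C, (χ : G → ℂ) z ^ 2 / (χ : G → ℂ) 1 * (χ : G → ℂ) w = -9 / c := by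
    have h1 : ∀ χ ∈ C, (χ : G → ℂ) z ^ 2 / (χ : G → ℂ) 1 * (χ : G → ℂ) w =
        2 / c * ((χ : G → ℂ) z * (χ : G → ℂ) w) + 3 / c ^ 2 * ((χ : G → ℂ) 1 * (χ : G → ℂ) w) := by
      intro χ hχ
      obtain ⟨e, he, he2, he3⟩ := hoth χ hχ
      have he0 : (e : ℂ) ≠ 0 := fun h => by rw [h] at he; norm_num at he
      rw [he3, he2]
      field_simp
      linear_combination (-3 * (χ : G → ℂ) w) * he
    rw [Finset.sum_congr rfl h1, Finset.sum_add_distrib, ← Finset.mul_sum, ← Finset.mul_sum, ro, rd]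
    field_simp
    ring
  rw [hCs] at rc
  have hfin : ((A * A' + A + A') * (1 + A + A') : ℤ) = 9 * (A * A') := by
    have e1 : (1 : ℂ) ^ 2 / 1 * 1 + ((εa : ℂ) ^ 2 / (a : G → ℂ) 1 * εa +
        ((εb : ℂ) ^ 2 / (b : G → ℂ) 1 * εb + -9 / c)) = 0 := rc
    have e2 : (εa : ℂ) ^ 2 / (a : G → ℂ) 1 * εa = 1 / A := by
      rw [hAc]; field_simp
      linear_combination (εa * εa + 1 : ℂ) * hea
    have e3 : (εb : ℂ) ^ 2 / (b : G → ℂ) 1 * εb = 1 / A' := by
      rw [hAc']; field_simp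
      linear_combination (εb * εb + 1 : ℂ) * heb
    rw [e2, e3] at e1
    field_simp at e1
    rw [hc] at e1
    have e4 : ((A : ℂ) * A' + A + A') * (1 + A + A') = 9 * (A * A') := by
      linear_combination e1
    exact_mod_cast e4
  -- congruences
  have hcong : ∀ (χ : IrrCharacter G) (ε : ℤ) (d : ℕ), (ε : ℤ) * ε = 1 → (χ : G → ℂ) 1 = d →
      (∀ x ∈ P, x ≠ 1 → (χ : G → ℂ) x = ε) → (16 : ℤ) ∣ ε * d - 1 := by
    intro χ ε d hε hd hv
    obtain ⟨n, hn⟩ := classInner_gen_int (isGen_restrict (P : Subgroup G) (isGen_of_irr χ.2))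
      (isGen_of_irr (isIrr_one (G := (P : Subgroup G))))
    have hN0 : (Nat.card (P : Subgroup G) : ℂ) ≠ 0 := by exact_mod_cast Nat.card_pos.ne'
    have e1 : ∑ x : (P : Subgroup G), (χ : G → ℂ) x = Nat.card (P : Subgroup G) * n := by
      rw [← hn, classInner, ← mul_assoc, mul_inv_cancel₀ hN0, one_mul]
      refine Finset.sum_congr rfl fun x _ => ?_
      simp
    have e2 : ∑ x : (P : Subgroup G), (χ : G → ℂ) x = d + (Nat.card (P : Subgroup G) - 1) * ε := by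
      rw [← Finset.add_sum_erase _ _ (Finset.mem_univ (1 : (P : Subgroup G))),
        Finset.sum_congr rfl (g := fun _ => (ε : ℂ)) (fun (x : (P : Subgroup G)) hx => hv x x.2
          (fun h => Finset.ne_of_mem_erase hx (Subtype.ext h))), Finset.sum_const,
        Finset.card_erase_of_mem (Finset.mem_univ _), Finset.card_univ, nsmul_eq_mul,
        Nat.cast_sub Fintype.card_pos, ← Nat.card_eq_fintype_card]
      rw [show (χ : G → ℂ) ((1 : (P : Subgroup G)) : G) = (χ : G → ℂ) 1 from rfl, hd]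
      push_cast; ring
    rw [e2] at e1
    have e3 : (d : ℤ) + ((Nat.card (P : Subgroup G) : ℤ) - 1) * ε =
        (Nat.card (P : Subgroup G) : ℤ) * n := by exact_mod_cast e1
    obtain ⟨k, hk⟩ := hcard
    rw [hk] at e3
    refine ⟨k * (ε * n - 1), ?_⟩
    push_cast at e3
    linear_combination ε * e3 - (16 * (k : ℤ) - 1) * hε
  have hεa : εa * εa = 1 := by rcases H.sa with h | h <;> rw [h] <;> norm_num
  have hεb : εb * εb = 1 := by rcases H.sb with h | h <;> rw [h] <;> norm_num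
  have h16 := hcong a εa da hεa hda H.va
  have h16' := hcong b εb db hεb hdb H.vb
  rw [← hA] at h16
  rw [← hA'] at h16'
  obtain ⟨hA1, -⟩ := nine_eq h16 h16' hfin
  have hda1 : da = 1 ∧ εa = 1 := by
    rw [hA] at hA1
    rcases H.sa with h | h
    · rw [h, one_mul] at hA1
      exact ⟨by exact_mod_cast hA1, h⟩
    · rw [h] at hA1
      exfalso
      have : (0 : ℤ) ≤ da := by positivity
      linarith
  refine ⟨?_, hda1.2⟩
  rw [hda, hda1.1]; norm_num

end const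

end Cfsg.Agent.H11
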