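import Cfsg.Agent.H11.HC5

/-! Sylow 2-subgroups of type (2^m, 2^m), part 6: Brauer's theorem, conclusion (helper11). -/

set_option autoImplicit false

namespace Cfsg.Agent.H11

open Cfsg Cfsg.Agent.H3 Cfsg.Agent.H11.PF Cfsg.Agent.H27 ComplexConjugate

universe u

section

variable {G : Type u} [Group G] [Finite G]

theorem core_bot (hO : ∀ N : Subgroup G, N.Normal → Odd (Nat.card N) → N = ⊥) (K : Subgroup G)
    [hK : K.Normal] : pPrimeCore 2 K = ⊥ := by
  have h1 : ((pPrimeCore 2 K).map K.subtype).Normal := ConjAct.normal_of_characteristic_of_normal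
  have h2 : Nat.card ((pPrimeCore 2 K).map K.subtype) = Nat.card (pPrimeCore 2 K) :=
    (Nat.card_congr ((pPrimeCore 2 K).equivMapOfInjective _ K.subtype_injective).toEquiv).symm
  have h3 := hO _ h1 (by
    rw [h2]
    exact Nat.coprime_two_right.1 (H1.pPrimeCore_coprime 2 K))
  rw [Subgroup.map_eq_bot_iff_of_injective _ K.subtype_injective] at h3
  exact h3

theorem core_bot' (hO : ∀ N : Subgroup G, N.Normal → Odd (Nat.card N) → N = ⊥) (K : Subgroup G)
    [hK : K.Normal] (N : Subgroup K) (hN : N.Normal) (hodd : Odd (Nat.card N)) : N = ⊥ := by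
  have h1 := H1.le_pPrimeCore hN (Nat.coprime_two_right.2 hodd)
  rw [core_bot hO K] at h1
  exact le_bot_iff.1 h1

theorem complement_top {P : Sylow 2 G}
    (hO : ∀ N : Subgroup G, N.Normal → Odd (Nat.card N) → N = ⊥) {N : Subgroup G} (hN : N.Normal)
    (h : Subgroup.IsComplement' N (P : Subgroup G)) : (P : Subgroup G) = ⊤ := by
  have h1 : Odd (Nat.card N) := by
    rw [← h.index_eq_card]
    rw [← Nat.not_even_iff_odd, even_iff_two_dvd]
    exact P.not_dvd_index
  rw [hO N hN h1] at h
  exact Subgroup.isComplement'_bot_left.1 h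

end

theorem hc_normal : ∀ n : ℕ, ∀ (G : Type u) [Group G] [Finite G], Nat.card G = n →
    ∀ (P : Sylow 2 G) (m : ℕ), 2 ≤ m →
      ((P : Subgroup G) ≃* Multiplicative (ZMod (2 ^ m) × ZMod (2 ^ m))) →
      (∀ N : Subgroup G, N.Normal → Odd (Nat.card N) → N = ⊥) → (P : Subgroup G).Normal := by
  intro n
  induction n using Nat.strong_induction_on with
  | _ n ih =>
    intro G _ _ hn P m hm e hO
    obtain ⟨a₀, b₀, hT⟩ := homocyclic_threeInv (by omega : 1 ≤ m) e
    have hab := homocyclic_comm e
    by_cases hrel : (Subgroup.centralizer ((P : Subgroup G) : Set G)).relIndex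
        (Subgroup.normalizer ((P : Subgroup G) : Set G)) = 1
    · rw [Subgroup.relIndex_eq_one] at hrel
      have h1 := complement_top hO (inferInstance : (MonoidHom.transferSylow P hrel).ker.Normal)
        (MonoidHom.ker_transferSylow_isComplement' P hrel)
      rw [h1]; infer_instance
    · obtain ⟨τ, T⟩ := exists_tri hT hab hrel
      have hF := hT.frobSyl hab
      have := Fintype.ofFinite G
      obtain ⟨M, hM⟩ := exists_isPModular Nat.prime_two
      have hcard : Nat.card (P : Subgroup G) = 2 ^ m * 2 ^ m := by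
        rw [Nat.card_congr e.toEquiv]
        show Nat.card (ZMod (2 ^ m) × ZMod (2 ^ m)) = _
        rw [Nat.card_prod, Nat.card_zmod]
      have h16 : 16 ∣ Nat.card (P : Subgroup G) := by
        rw [hcard, ← pow_add, show 16 = 2 ^ 4 by norm_num]
        exact pow_dvd_pow 2 (by omega)
      have h16' : 16 ≤ Nat.card (P : Subgroup G) := Nat.le_of_dvd Nat.card_pos h16
      obtain ⟨w, hw, hw2⟩ : ∃ w ∈ P, w * w ≠ 1 := by
        obtain ⟨x, hx⟩ := e.surjective (Multiplicative.ofAdd ((1 : ZMod (2 ^ m)), (0 : ZMod (2 ^ m))))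
        refine ⟨x, x.2, fun h => ?_⟩
        have h1 : x * x = 1 := Subtype.ext h
        have h2 := congrArg e h1
        rw [map_mul, hx, map_one, ← ofAdd_add] at h2
        have h3 := congrArg Prod.fst (Multiplicative.ofAdd.injective
          (a₂ := (0 : ZMod (2 ^ m) × ZMod (2 ^ m))) h2)
        have h4 : ((2 : ℕ) : ZMod (2 ^ m)) = 0 := by
          have h5 : (1 : ZMod (2 ^ m)) + 1 = 0 := h3
          rw [← h5]; norm_num
        rw [ZMod.natCast_eq_zero_iff] at h4
        have h5 := Nat.le_of_dvd (by norm_num) h4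
        have h6 : 2 ^ 2 ≤ 2 ^ m := Nat.pow_le_pow_right (by norm_num) hm
        omega
      obtain ⟨i₀, a, b, εa, εb, H⟩ := hc_data hM hF T h16'
      obtain ⟨hl, hε⟩ := H.linear hM hF T h16 hT.ha hT.a_ne
        (by rw [← pow_two]; exact hT.a_sq) hw hw2
      obtain ⟨μ, hμ⟩ := exists_hf (irr_isChar a.2) hl
      have hPK : (P : Subgroup G) ≤ μ.ker := by
        intro x hx
        rw [MonoidHom.mem_ker]
        by_cases hx1 : x = 1
        · rw [hx1, map_one]
        · have h1 := H.va x hx hx1
          rw [hμ, hf_apply, hε] at h1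
          apply Units.ext
          rw [h1]; simp
      have hKtop : μ.ker ≠ ⊤ := by
        intro htop
        apply H.ai
        apply Subtype.ext
        rw [H.i0, hμ]
        ext x
        have h1 : x ∈ μ.ker := htop ▸ Subgroup.mem_top x
        rw [MonoidHom.mem_ker] at h1
        rw [hf_apply, h1]; rfl
      have hlt : Nat.card μ.ker < n := by
        rw [← hn]
        refine lt_of_le_of_ne (Subgroup.card_le_card_group _) fun h => hKtop ?_
        exact Subgroup.eq_top_of_card_eq _ h
      have e' : ((P.subtype hPK : Sylow 2 μ.ker) : Subgroup μ.ker) ≃*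
          Multiplicative (ZMod (2 ^ m) × ZMod (2 ^ m)) :=
        (Subgroup.subgroupOfEquivOfLe hPK).trans e
      have hn' := ih _ hlt μ.ker rfl (P.subtype hPK) m hm e' (core_bot' hO μ.ker)
      constructor
      intro x hx g
      have hgx : g * x * g⁻¹ ∈ μ.ker := (inferInstance : μ.ker.Normal).conj_mem x (hPK hx) g
      have hord : ∃ k : ℕ, orderOf (⟨g * x * g⁻¹, hgx⟩ : μ.ker) = 2 ^ k := by
        obtain ⟨k, hk⟩ := mem_sylow_order hx
        refine ⟨k, ?_⟩
        rw [← hk, Subgroup.orderOf_mk]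
        have := orderOf_injective (MulAut.conj g).toMonoidHom (MulAut.conj g).injective x
        exact this
      obtain ⟨c, hc⟩ := exists_conj_mem_sylow (P.subtype hPK) hord
      have h1 := hn'.conj_mem _ hc c⁻¹
      have h2 : c⁻¹ * (c * ⟨g * x * g⁻¹, hgx⟩ * c⁻¹) * c⁻¹⁻¹ = (⟨g * x * g⁻¹, hgx⟩ : μ.ker) := by
        group
      rw [h2] at h1
      exact h1

/-- S0949 -/
theorem st0949 {G : Type u} [Group G] [Finite G] (P : Sylow 2 G) (m : ℕ) (hm : 2 ≤ m)
    (e : (P : Subgroup G) ≃* Multiplicative (ZMod (2 ^ m) × ZMod (2 ^ m)))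
    (hO : ∀ N : Subgroup G, N.Normal → Odd (Nat.card N) → N = ⊥) :
    (P : Subgroup G).Normal ∧ Subgroup.centralizer (P : Set G) = (P : Subgroup G) ∧
      ((P : Subgroup G).index = 1 ∨ (P : Subgroup G).index = 3) := by
  have hN := hc_normal _ G rfl P m hm e hO
  have hab := homocyclic_comm e
  have hPC : (P : Subgroup G) ≤ Subgroup.centralizer ((P : Subgroup G) : Set G) := by
    intro x hx
    rw [Subgroup.mem_centralizer_iff]
    exact fun y hy => hab y hy x hx
  have hC : Subgroup.centralizer ((P : Subgroup G) : Set G) = (P : Subgroup G) := by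
    obtain ⟨C, hCd⟩ : ∃ C, C = Subgroup.centralizer ((P : Subgroup G) : Set G) := ⟨_, rfl⟩
    rw [← hCd] at hPC ⊢
    have hCn : C.Normal := by rw [hCd]; exact Subgroup.normal_centralizer
    have hZ : Subgroup.normalizer (((P.subtype hPC : Sylow 2 C) : Subgroup C) : Set C) ≤
        Subgroup.centralizer (((P.subtype hPC : Sylow 2 C) : Subgroup C) : Set C) := by
      intro x _
      rw [Subgroup.mem_centralizer_iff]
      intro y hy
      have h1 : (x : G) ∈ Subgroup.centralizer ((P : Subgroup G) : Set G) := hCd ▸ x.2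
      rw [Subgroup.mem_centralizer_iff] at h1
      exact Subtype.ext (h1 (y : G) hy)
    have h1 := complement_top (P := P.subtype hPC) (core_bot' hO C)
      (inferInstance : (MonoidHom.transferSylow (P.subtype hPC) hZ).ker.Normal)
      (MonoidHom.ker_transferSylow_isComplement' (P.subtype hPC) hZ)
    apply le_antisymm _ hPC
    intro x hx
    have h2 : (⟨x, hx⟩ : C) ∈ ((P.subtype hPC : Sylow 2 C) : Subgroup C) := by
      rw [h1]; exact Subgroup.mem_top _
    exact h2
  refine ⟨hN, hC, ?_⟩
  obtain ⟨a, b, hT⟩ := homocyclic_threeInv (by omega : 1 ≤ m) e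
  have h1 := (hT.index hab).1
  have hnz : Subgroup.normalizer ((P : Subgroup G) : Set G) = ⊤ :=
    Subgroup.normalizer_eq_top_iff.2 hN
  rw [hC, hnz, Subgroup.relIndex_top_right] at h1
  exact h1

end Cfsg.Agent.H11
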