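import Mathlib
import Cfsg.Agent.H11.Hup10

set_option autoImplicit false

namespace Cfsg.Agent.H11.Hup

open Module Cfsg

theorem kantor' {G : Type*} [Group G] [Finite G] {Ω : Type*} [MulAction G Ω] [Finite Ω]
    (hodd : Odd (Nat.card G)) (hsol : Group.IsSolvable G) (p : ℕ) [Fact p.Prime]
    {V : Type*} [AddCommGroup V] [Module (ZMod p) V] [Finite V] [Nontrivial V]
    (ι : V → G) (hι : ∀ v w, ι (v + w) = ι v * ι w) (hιn : ∀ g v, ∃ w, ι w = g * ι v * g⁻¹)
    (hMt : ∀ a b : Ω, ∃ v, ι v • a = b) (hMr : ∀ v, ∀ a : Ω, ι v • a = a → v = 0)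
    (hfaith : ∀ g : G, (∀ a : Ω, g • a = a) → g = 1) (a0 : Ω)
    (hhom : ∀ a b c d : Ω, a ≠ b → c ≠ d → ∃ g : G, (g • a = c ∧ g • b = d) ∨ (g • a = d ∧ g • b = c))
    (hn2 : ¬ ∀ a b c d : Ω, a ≠ b → c ≠ d → ∃ g : G, g • a = c ∧ g • b = d) :
    ∃ f : ℕ, p ≠ 2 ∧ Nat.card Ω = p ^ f ∧ p ^ f % 4 = 3 ∧ ∃ e : Ω ≃ GaloisField p f,
      (∀ g : G, ∃ (a : (GaloisField p f)ˣ) (b : GaloisField p f) (σ : GaloisField p f ≃+* GaloisField p f),
        ∀ y, e (g • e.symm y) = (a : GaloisField p f) * σ y + b) ∧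
      ∀ b, ∃ g : G, ∀ x, e (g • x) = e x + b := by
  classical
  let H : Subgroup G := MulAction.stabilizer G a0
  have hH : ∀ h, h ∈ H ↔ h • a0 = a0 := fun h => MulAction.mem_stabilizer_iff
  have hι0 : ι 0 = 1 := by
    have := hι 0 0
    rw [add_zero] at this
    exact left_eq_mul.mp this
  have hιinj : Function.Injective ι := by
    intro v w h
    have h1 : ι (v - w) • a0 = a0 := by
      have h2 : ι v = ι (v - w) * ι w := by rw [← hι, sub_add_cancel]
      have h3 : ι (v - w) = 1 := by rw [h] at h2; exact (right_eq_mul.mp h2)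
      rw [h3, one_smul]
    exact sub_eq_zero.mp (hMr _ _ h1)
  have hιneg : ∀ v, ι (-v) = (ι v)⁻¹ := by
    intro v
    have h2 : ι (-v) * ι v = 1 := by rw [← hι, neg_add_cancel, hι0]
    exact eq_inv_of_mul_eq_one_left h2
  choose cj hcj using hιn
  have cj_one : ∀ m, cj 1 m = m := fun m => hιinj (by rw [hcj]; group)
  have cj_mul : ∀ g h m, cj (g * h) m = cj g (cj h m) := fun g h m => hιinj (by
    rw [hcj, hcj, hcj]; group)
  have cj_hom : ∀ g m m', cj g (m + m') = cj g m + cj g m' := fun g m m' => hιinj (by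
    rw [hcj, hι, hι, hcj, hcj]; group)
  have cj_h1 : ∀ g, cj g 0 = 0 := fun g => hιinj (by rw [hcj, hι0]; group)
  let fb : ℤˣ → G → (V →+ V) := fun u g =>
    { toFun := fun v => (u : ℤ) • cj g v
      map_zero' := by rw [cj_h1, smul_zero]
      map_add' := fun v w => by rw [cj_hom, smul_add] }
  have hfb : ∀ u g v, fb u g v = (u : ℤ) • cj g v := fun u g v => rfl
  let f : ↥H × ℤˣ →* Module.End (ZMod p) V :=
    { toFun := fun x => (fb x.2 x.1).toZModLinearMap p
      map_one' := by
        refine LinearMap.ext fun v => ?_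
        rw [AddMonoidHom.coe_toZModLinearMap, hfb, Prod.snd_one, Prod.fst_one, Units.val_one, one_smul,
          Subgroup.coe_one, cj_one, Module.End.one_apply]
      map_mul' := fun x y => by
        refine LinearMap.ext fun v => ?_
        rw [Module.End.mul_apply, AddMonoidHom.coe_toZModLinearMap, AddMonoidHom.coe_toZModLinearMap,
          AddMonoidHom.coe_toZModLinearMap, hfb, hfb, hfb, Prod.snd_mul, Prod.fst_mul,
          Subgroup.coe_mul, cj_mul, Units.val_mul, mul_smul]
        have h1 : cj (x.1 : G) ((y.2 : ℤ) • cj (y.1 : G) v) = (y.2 : ℤ) • cj (x.1 : G) (cj (y.1 : G) v) := by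
          let F : V →+ V := { toFun := cj (x.1 : G), map_zero' := cj_h1 _, map_add' := cj_hom _ }
          exact map_zsmul F _ _
        rw [h1] }
  have hf : ∀ (h : H) (u : ℤˣ) (v : V), f (h, u) v = (u : ℤ) • cj h v := fun h u v => rfl
  let ρ : ↥H × ℤˣ →* (V ≃ₗ[ZMod p] V) :=
    (LinearMap.GeneralLinearGroup.generalLinearEquiv (ZMod p) V).toMonoidHom.comp f.toHomUnits
  have hρv : ∀ x v, ρ x v = f x v := fun x v => rfl
  -- the bijection with Ω
  have hbij : Function.Bijective (fun m : V => ι m • a0) := by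
    constructor
    · intro m m' h
      have h' : ι m • a0 = ι m' • a0 := h
      have h1 : (ι (-m + m')) • a0 = a0 := by
        rw [hι, hιneg, mul_smul, ← h', inv_smul_smul]
      have h2 := hMr _ a0 h1
      exact (neg_add_eq_zero.mp h2)
    · intro b
      exact hMt a0 b
  let τ : V ≃ Ω := Equiv.ofBijective _ hbij
  have hτ : ∀ m : V, τ m = ι m • a0 := fun m => rfl
  have hτ0 : τ 0 = a0 := by rw [hτ, hι0, one_smul]
  have hτadd : ∀ v w : V, ι v • τ w = τ (v + w) := fun v w => by rw [hτ, hτ, hι, mul_smul]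
  have hτcj : ∀ h ∈ H, ∀ m : V, h • τ m = τ (cj h m) := by
    intro h hh m
    rw [hτ, hτ, hcj]
    have h1 : h⁻¹ • a0 = a0 := by rw [inv_smul_eq_iff]; exact ((hH h).mp hh).symm
    rw [mul_smul, mul_smul, h1]
  have hcardV : Nat.card V = Nat.card Ω := Nat.card_congr τ
  have hodd2 : ∀ g : G, g ^ 2 = 1 → g = 1 := by
    intro g hg
    have h1 : orderOf g ∣ 2 := orderOf_dvd_of_pow_eq_one hg
    have h2 : orderOf g ∣ Nat.card G := orderOf_dvd_natCard _
    have h3 : orderOf g ∣ 1 := by
      have := Nat.dvd_gcd h1 h2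
      rwa [(Nat.coprime_two_left).mpr hodd] at this
    exact orderOf_eq_one_iff.mp (Nat.dvd_one.mp h3)
  -- no element of order two
  have hneg : ∀ v : V, v = -v → v = 0 := by
    intro v hv
    have h1 : (ι v) ^ 2 = 1 := by
      rw [sq]
      nth_rewrite 1 [hv]
      rw [hιneg, inv_mul_cancel]
    have h2 := hodd2 _ h1
    apply hιinj
    rw [h2, hι0]
  have hp2 : p ≠ 2 := by
    rintro rfl
    obtain ⟨m, hm⟩ := exists_ne (0 : V)
    apply hm
    apply hneg
    have h1 : (2 : ZMod 2) • m = 0 := by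
      have : ((2 : ℕ) : ZMod 2) = 0 := CharP.cast_eq_zero (ZMod 2) 2
      have h2 : (2 : ZMod 2) = 0 := by exact_mod_cast this
      rw [h2, zero_smul]
    rw [two_smul] at h1
    exact eq_neg_of_add_eq_zero_left h1
  have hkey1 : ∀ h ∈ H, (∀ m : V, cj h m = m) → h = 1 := by
    intro h hh hc
    apply hfaith
    intro b
    obtain ⟨m, rfl⟩ := τ.surjective b
    rw [hτcj h hh, hc]
  have hρinj : Function.Injective ρ := by
    rw [injective_iff_map_eq_one]
    rintro ⟨h, u⟩ hx
    have h1 : ∀ v : V, (u : ℤ) • cj h v = v := by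
      intro v
      have := LinearEquiv.congr_fun hx v
      exact this
    rcases Int.units_eq_one_or u with rfl | rfl
    · have h2 : (h : G) = 1 := by
        apply hkey1 h h.2
        intro m
        have := h1 m
        rwa [Units.val_one, one_smul] at this
      rw [Prod.mk_eq_one]
      exact ⟨Subtype.ext h2, rfl⟩
    · exfalso
      have h2 : ∀ v : V, cj h v = -v := by
        intro v
        have := h1 v
        rw [Units.val_neg, Units.val_one, neg_smul, one_smul] at this
        exact neg_eq_iff_eq_neg.mp this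
      have h3 : (h : G) * h = 1 := by
        apply hkey1 _ (mul_mem h.2 h.2)
        intro m
        rw [cj_mul, h2, h2, neg_neg]
      have h4 : (h : G) = 1 := hodd2 _ (by rw [sq]; exact h3)
      obtain ⟨v, hv⟩ := exists_ne (0 : V)
      apply hv
      apply hneg
      have h5 := h2 v
      rw [h4, cj_one] at h5
      exact h5
  -- transitivity
  have hne : ∀ v : V, v ≠ 0 → a0 ≠ τ v := by
    intro v hv h
    apply hv
    rw [← hτ0] at h
    exact (τ.injective h).symm
  have hpm : ∀ v w : V, v ≠ 0 → w ≠ 0 → ∃ h : H, cj h v = w ∨ cj h v = -w := by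
    intro v w hv hw
    obtain ⟨g, hg | hg⟩ := hhom a0 (τ v) a0 (τ w) (hne v hv) (hne w hw)
    · refine ⟨⟨g, (hH g).mpr hg.1⟩, Or.inl ?_⟩
      have h1 := hτcj g ((hH g).mpr hg.1) v
      rw [hg.2] at h1
      exact (τ.injective h1).symm
    · obtain ⟨h1, h2⟩ := hg
      have hh : (ι (-w) * g) ∈ H := by
        rw [hH, mul_smul, h1, hτadd, neg_add_cancel, hτ0]
      refine ⟨⟨ι (-w) * g, hh⟩, Or.inr ?_⟩
      have h3 := hτcj _ hh v
      rw [mul_smul, h2] at h3
      have h4 : ι (-w) • a0 = τ (-w) := rfl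
      rw [h4] at h3
      exact (τ.injective h3).symm
  have htrans : ∀ v w : V, v ≠ 0 → w ≠ 0 → ∃ x : ↥H × ℤˣ, ρ x v = w := by
    intro v w hv hw
    obtain ⟨h, h1 | h1⟩ := hpm v w hv hw
    · refine ⟨(h, 1), ?_⟩
      rw [hρv, hf, h1, Units.val_one, one_smul]
    · refine ⟨(h, -1), ?_⟩
      rw [hρv, hf, h1, Units.val_neg, Units.val_one, neg_smul, one_smul, neg_neg]
  -- the orbit count
  obtain ⟨v0, hv0⟩ := exists_ne (0 : V)
  letI act : MulAction H V :=
    { smul := fun h v => cj h v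
      one_smul := fun v => cj_one _
      mul_smul := fun g h v => cj_mul g h _ }
  have hsm : ∀ (h : H) (v : V), h • v = cj h v := fun h v => rfl
  have hsmneg : ∀ (h : H) (v : V), h • (-v) = -(h • v) := fun h v => by
    rw [eq_neg_iff_add_eq_zero, hsm, hsm, ← cj_hom, neg_add_cancel, cj_h1]
  have hsm0 : ∀ (h : H) (v : V), h • v = 0 → v = 0 := by
    intro h v hv
    have h1 : h⁻¹ • (h • v) = h⁻¹ • (0 : V) := by rw [hv]
    rw [inv_smul_smul] at h1
    rw [h1]
    exact cj_h1 _
  have hnot : -v0 ∉ MulAction.orbit H v0 := by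
    rintro ⟨h0, hh0⟩
    have hh0' : h0 • v0 = -v0 := hh0
    apply hn2
    -- H is transitive
    have hHt : ∀ w : V, w ≠ 0 → ∃ h : H, h • v0 = w := by
      intro w hw
      obtain ⟨h, h1 | h1⟩ := hpm v0 w hv0 hw
      · exact ⟨h, h1⟩
      · refine ⟨h * h0, ?_⟩
        rw [mul_smul, hh0', hsmneg]
        have : h • v0 = -w := h1
        rw [this, neg_neg]
    intro a b c d hab hcd
    obtain ⟨m1, h1⟩ := hMt a a0
    obtain ⟨m2, h2⟩ := hMt c a0
    obtain ⟨v, hv⟩ := τ.surjective (ι m1 • b)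
    obtain ⟨w, hw⟩ := τ.surjective (ι m2 • d)
    have hv1 : v ≠ 0 := by
      rintro rfl
      apply hab
      rw [hτ0, ← h1] at hv
      exact (smul_left_cancel _ hv)
    have hw1 : w ≠ 0 := by
      rintro rfl
      apply hcd
      rw [hτ0, ← h2] at hw
      exact (smul_left_cancel _ hw)
    obtain ⟨ha, hha⟩ := hHt _ hv1
    obtain ⟨hb, hhb⟩ := hHt _ hw1
    let h : H := hb * ha⁻¹
    have hhv : h • v = w := by
      rw [← hha, ← mul_smul]
      change (hb * ha⁻¹ * ha) • v0 = _
      rw [inv_mul_cancel_right, hhb]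
    have hcjv : cj h v = w := hhv
    refine ⟨(ι m2)⁻¹ * h * ι m1, ?_, ?_⟩
    · rw [mul_smul, mul_smul, h1]
      have : (h : G) • a0 = a0 := (hH _).mp h.2
      rw [this, ← h2, inv_smul_smul]
    · rw [mul_smul, mul_smul, ← hv, hτcj _ h.2, hcjv, hw, inv_smul_smul]
  have hcount : Nat.card Ω = 2 * Nat.card (MulAction.orbit H v0) + 1 := by
    have h1 : (Set.univ : Set V) = {0} ∪ (MulAction.orbit H v0 ∪ MulAction.orbit H (-v0)) := by
      symm
      rw [Set.eq_univ_iff_forall]
      intro w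
      by_cases hw : w = 0
      · exact Or.inl hw
      · right
        obtain ⟨h, h1 | h1⟩ := hpm v0 w hv0 hw
        · exact Or.inl ⟨h, h1⟩
        · right
          refine ⟨h, ?_⟩
          change h • (-v0) = w
          rw [hsmneg]
          have : h • v0 = -w := h1
          rw [this, neg_neg]
    have hdis1 : Disjoint ({0} : Set V) (MulAction.orbit H v0 ∪ MulAction.orbit H (-v0)) := by
      rw [Set.disjoint_singleton_left]
      rintro (⟨h, hh⟩ | ⟨h, hh⟩)
      · exact hv0 (hsm0 h _ hh)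
      · exact hv0 (neg_eq_zero.mp (hsm0 h _ hh))
    have hdis2 : Disjoint (MulAction.orbit H v0) (MulAction.orbit H (-v0)) := by
      rcases MulAction.orbit.eq_or_disjoint (G := H) v0 (-v0) with h | h
      · exfalso
        apply hnot
        rw [h]
        exact MulAction.mem_orbit_self _
      · exact h
    have hsame : (MulAction.orbit H (-v0)).ncard = (MulAction.orbit H v0).ncard := by
      have : MulAction.orbit H (-v0) = (fun w => -w) '' MulAction.orbit H v0 := by
        ext w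
        constructor
        · rintro ⟨h, rfl⟩
          refine ⟨h • v0, ⟨h, rfl⟩, ?_⟩
          change -(h • v0) = h • (-v0)
          rw [hsmneg]
        · rintro ⟨_, ⟨h, rfl⟩, rfl⟩
          refine ⟨h, ?_⟩
          change h • (-v0) = -(h • v0)
          rw [hsmneg]
      rw [this]
      exact Set.ncard_image_of_injective _ neg_injective
    rw [← hcardV, ← Set.ncard_univ, h1, Set.ncard_union_eq hdis1, Set.ncard_union_eq hdis2, hsame,
      Set.ncard_singleton]
    change 1 + ((MulAction.orbit H v0).ncard + (MulAction.orbit H v0).ncard)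
      = 2 * (MulAction.orbit H v0).ncard + 1
    ring
  have hoddorb : Odd (Nat.card (MulAction.orbit H v0)) := by
    have h3 := MulAction.index_stabilizer H v0
    have h4 := Subgroup.index_dvd_card (MulAction.stabilizer H v0)
    rw [h3] at h4
    exact hodd.of_dvd_nat (h4.trans (Subgroup.card_subgroup_dvd_card H))
  have hmod4 : Nat.card Ω % 4 = 3 := by
    obtain ⟨t, ht⟩ := hoddorb
    rw [hcount, ht]; omega
  have hsolH : Group.IsSolvable (↥H × ℤˣ) := inferInstance
  rcases huppert hsolH ρ hρinj htrans with hS | hS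
  · obtain ⟨n, e, hn0, hcard, hsemi⟩ := hS
    rw [hcardV] at hcard
    let e' : Ω ≃ GaloisField p n := τ.symm.trans e.toEquiv
    have he' : ∀ m : V, e' (τ m) = e m := fun m => by
      change e (τ.symm (τ m)) = _
      rw [Equiv.symm_apply_apply]
    refine ⟨n, hp2, hcard, by rw [← hcard]; exact hmod4, e', ?_, ?_⟩
    · intro g
      obtain ⟨m, hm⟩ := τ.surjective (g • a0)
      have hh : ι (-m) * g ∈ H := by
        rw [hH, mul_smul, ← hm, hτadd, neg_add_cancel, hτ0]
      obtain ⟨a, σ, haσ⟩ := hsemi (⟨_, hh⟩, 1)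
      have ha0 : a ≠ 0 := by
        rintro rfl
        have h1 := haσ v0
        rw [zero_mul] at h1
        have h2 := (map_eq_zero_iff e e.injective).mp h1
        have h3 := (LinearEquiv.map_eq_zero_iff _).mp h2
        exact hv0 h3
      refine ⟨Units.mk0 a ha0, e m, σ, ?_⟩
      intro y
      obtain ⟨x, rfl⟩ := e'.surjective y
      obtain ⟨m', rfl⟩ := τ.surjective x
      rw [Equiv.symm_apply_apply, he']
      have h1 : g • τ m' = τ (m + cj (ι (-m) * g) m') := by
        rw [← hτadd, ← hτcj _ hh, mul_smul, hιneg, smul_inv_smul]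
      rw [h1, he']
      have h2 := haσ m'
      rw [hρv, hf, Units.val_one, one_smul] at h2
      rw [map_add, h2, Units.val_mk0, add_comm]
    · intro b
      obtain ⟨v, rfl⟩ := e.surjective b
      refine ⟨ι v, ?_⟩
      intro x
      obtain ⟨m', rfl⟩ := τ.surjective x
      rw [hτadd, he', he', map_add, add_comm]
  · exfalso
    rw [hcardV] at hS
    simp only [Set.mem_insert_iff, Set.mem_singleton_iff] at hS
    omega

theorem kantor {G : Type*} [Group G] [Finite G] {Ω : Type*} [MulAction G Ω] [Finite Ω]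
    (hodd : Odd (Nat.card G)) (hsol : Group.IsSolvable G) (M : Subgroup G) (hMn : M.Normal)
    (hMc : ∀ a ∈ M, ∀ b ∈ M, a * b = b * a) (p : ℕ) [Fact p.Prime] (hMp : ∀ x ∈ M, x ^ p = 1)
    (hMt : ∀ a b : Ω, ∃ m ∈ M, m • a = b) (hMr : ∀ m ∈ M, ∀ a : Ω, m • a = a → m = 1)
    (hfaith : ∀ g : G, (∀ a : Ω, g • a = a) → g = 1) (hM1 : M ≠ ⊥) (a0 : Ω)
    (hhom : ∀ a b c d : Ω, a ≠ b → c ≠ d → ∃ g : G, (g • a = c ∧ g • b = d) ∨ (g • a = d ∧ g • b = c))
    (hn2 : ¬ ∀ a b c d : Ω, a ≠ b → c ≠ d → ∃ g : G, g • a = c ∧ g • b = d) :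
    ∃ f : ℕ, p ≠ 2 ∧ Nat.card Ω = p ^ f ∧ p ^ f % 4 = 3 ∧ ∃ e : Ω ≃ GaloisField p f,
      (∀ g : G, ∃ (a : (GaloisField p f)ˣ) (b : GaloisField p f) (σ : GaloisField p f ≃+* GaloisField p f),
        ∀ y, e (g • e.symm y) = (a : GaloisField p f) * σ y + b) ∧
      ∀ b, ∃ g : G, ∀ x, e (g • x) = e x + b := by
  classical
  letI cg : CommGroup M := { (inferInstance : Group M) with
    mul_comm := fun a b => Subtype.ext (hMc a a.2 b b.2) }
  have hp0 : ∀ x : Additive M, p • x = 0 := by
    intro x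
    have : (Additive.toMul x) ^ p = 1 := Subtype.ext (hMp _ (Additive.toMul x).2)
    exact this
  letI : Module (ZMod p) (Additive M) := AddCommGroup.zmodModule hp0
  have hMnt : Nontrivial M := (Subgroup.nontrivial_iff_ne_bot M).mpr hM1
  have hVnt : Nontrivial (Additive M) := inferInstance
  exact kantor' (V := Additive M) hodd hsol p (fun v => ((Additive.toMul v : M) : G))
    (fun v w => rfl)
    (fun g v => ⟨Additive.ofMul ⟨g * (Additive.toMul v : M) * g⁻¹, hMn.conj_mem _ (Additive.toMul v).2 g⟩, rfl⟩)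
    (fun a b => by
      obtain ⟨m, hm, h⟩ := hMt a b
      exact ⟨Additive.ofMul ⟨m, hm⟩, h⟩)
    (fun v a h => by
      have h1 := hMr _ (Additive.toMul v).2 a h
      have h2 : Additive.toMul v = 1 := Subtype.ext h1
      exact h2)
    hfaith a0 hhom hn2

end Cfsg.Agent.H11.Hup
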