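import Cfsg.Agent.H11.Defect5

set_option autoImplicit false
set_option linter.unusedSectionVars false

/-!
The Frobenius congruence in group algebras, and Külshammer's formula for the idempotent of the
principal block.
-/

namespace Cfsg.Agent.H11

open Cfsg Finset Cfsg.Agent.H3
open Cfsg.Agent.L (cj nz SylIn)
open scoped ComplexConjugate
open TWord

section frob

variable {G : Type*} [Group G] [Fintype G] {p : ℕ} {M : Ideal AlgInt}

lemma lin_mul_single' (θ : G → ℂ) (A : MonoidAlgebra ℂ G) (h : G) :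
    lin θ (A * MonoidAlgebra.single h 1) = ∑ y, A.coeff y * θ (y * h) := by
  conv_lhs => rw [alg_eq_sum A]
  rw [Finset.sum_mul, map_sum]
  refine Finset.sum_congr rfl fun y _ => ?_
  rw [MonoidAlgebra.single_mul_single, lin_single, mul_one]

/-- Constant words. -/
def constW (G : Type*) [Group G] (N : ℕ) (g : G) : TWord G N (1 : G) :=
  ⟨fun _ => g, fun _ => by simp⟩

omit [Fintype G] in
lemma constW_inj {N : ℕ} : Function.Injective (constW G N) := by
  intro a b h
  have h1 := congrArg (fun w : TWord G N (1 : G) => w.1 0) h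
  exact h1

omit [Fintype G] in
lemma wprod_const (g : G) (N : ℕ) (i : ℤ) : wprod (fun _ => g) N i = g ^ N := by
  induction N generalizing i with
  | zero => simp [wprod]
  | succ n ih => rw [wprod, ih, pow_succ']

/-- The Frobenius congruence in the group algebra. -/
theorem li_lin_pow (hM : IsPModular p M) (A : MonoidAlgebra ℂ G)
    (hA : ∀ g, MemLocalRing M (A.coeff g)) (θ : G → ℂ)
    (hθ : ∀ x y, θ (x * y) = θ (y * x)) (hθS : ∀ g, MemLocalRing M (θ g)) (n : ℕ) :
    MemLocalIdeal M (lin θ (A ^ (p ^ n)) - ∑ g, A.coeff g ^ (p ^ n) * θ (g ^ (p ^ n))) := by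
  classical
  have hpr := hM.2.1.isPrime
  have hp := hM.1
  have hpn : 0 < p ^ n := pow_pos hp.pos n
  have : Fintype (TWord G (p ^ n) (1 : G)) :=
    Fintype.ofEquiv _ (TWord.equivFin (h := (1:G)) hpn).symm
  have h1 := lin_pow_mul A θ hpn (1 : G)
  have h2 : A ^ (p ^ n) * MonoidAlgebra.single (1 : G) (1 : ℂ) = A ^ (p ^ n) := by
    rw [← MonoidAlgebra.one_def, mul_one]
  rw [h2] at h1
  let W : TWord G (p ^ n) (1 : G) → ℂ := fun w => wordWt (fun g => A.coeff g) θ w
  have hW : ∀ w, MemLocalRing M (W w) := fun w => by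
    show MemLocalRing M _
    exact lr_mul (lr_prod _ _ fun i _ => hA _) (hθS _)
  have hWs : ∀ w, W (shiftBy 1 w) = W w := fun w =>
    wordWt_shift_one hpn _ _ (by simp) hθ w
  have hconst : ∀ g, shiftBy 1 (constW G (p ^ n) g) = constW G (p ^ n) g := fun g => rfl
  let T : TWord G (p ^ n) (1 : G) → ℂ := fun w => if ∃ g, constW G (p ^ n) g = w then 0 else W w
  obtain ⟨r, hr, hsum⟩ := exists_pow_smul_eq_sum_of_perm (lrSub M) p hp n
    (shiftEquiv (1 : ℤ)) (by
      rw [shiftEquiv_pow]
      ext w : 1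
      apply Subtype.ext
      funext i
      show w.1 (i + 1 * ((p ^ n : ℕ) : ℤ)) = w.1 i
      have h2 := w.2 i
      rw [one_mul, h2]
      simp) T (fun w => by
      show T (shiftBy 1 w) = T w
      simp only [T]
      have h3 : (∃ g, constW G (p ^ n) g = shiftBy 1 w) ↔ ∃ g, constW G (p ^ n) g = w := by
        constructor
        · rintro ⟨g, hg⟩
          refine ⟨g, ?_⟩
          rw [← hconst g] at hg
          exact (shiftEquiv (1 : ℤ)).injective hg
        · rintro ⟨g, hg⟩
          exact ⟨g, by rw [← hg, hconst]⟩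
      rw [if_congr h3 rfl rfl, hWs]) (fun w => by
      show MemLocalRing M _
      simp only [T]
      split_ifs
      · exact lr_zero M
      · exact hW w) 0 (fun w hw hfix => by
      apply hw
      simp only [T]
      rw [if_pos]
      rw [pow_zero, pow_one] at hfix
      have hfix' : shiftBy 1 w = w := hfix
      refine ⟨w.1 0, ?_⟩
      apply Subtype.ext
      funext i
      show w.1 0 = w.1 i
      have hstep : ∀ j : ℤ, w.1 (j + 1) = w.1 j := by
        intro j
        conv_rhs => rw [← hfix']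
        rfl
      induction i using Int.induction_on with
      | zero => rfl
      | succ i ih => rw [hstep, ← ih]
      | pred i ih =>
        rw [ih]
        have := hstep (-(i : ℤ) - 1)
        rw [← this]
        ring_nf)
  have h3 : ∑ w, W w = ∑ w, T w + ∑ g, W (constW G (p ^ n) g) := by
    have h4 : ∑ g, W (constW G (p ^ n) g) =
        ∑ w, if ∃ g, constW G (p ^ n) g = w then W w else 0 := by
      rw [← Finset.sum_filter]
      rw [← Finset.sum_image (f := W) (s := Finset.univ) (g := constW G (p ^ n))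
        (fun a _ b _ h => constW_inj h)]
      apply Finset.sum_congr _ fun _ _ => rfl
      ext w
      simp
    rw [h4, ← Finset.sum_add_distrib]
    refine Finset.sum_congr rfl fun w _ => ?_
    simp only [T]
    split_ifs <;> simp
  have h5 : ∀ g, W (constW G (p ^ n) g) = A.coeff g ^ (p ^ n) * θ (g ^ (p ^ n)) := by
    intro g
    simp only [W, wordWt, constW, wprod_const, mul_one, Finset.prod_const, Finset.card_range]
  have h6 : lin θ (A ^ (p ^ n)) - ∑ g, A.coeff g ^ (p ^ n) * θ (g ^ (p ^ n)) = (p : ℂ) * r := by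
    rw [h1]
    show ∑ w, W w - _ = _
    rw [h3, Finset.sum_congr rfl (fun g _ => h5 g), add_sub_cancel_right, hsum]
    rw [zero_add, pow_one, nsmul_eq_mul]
  rw [h6]
  exact li_mul_right (li_p hM) hr

/-- If `n` is central and nilpotent modulo `M`, then `φ (n B)` vanishes modulo `M` for a class
function compatible with Frobenius. -/
theorem li_lin_mul_of_nilp (hM : IsPModular p M) {n : MonoidAlgebra ℂ G} (hn : IsZS M n)
    (h0 : ∀ χ : IrrCharacter G, MemLocalIdeal M (omega (χ : G → ℂ) n)) (φ : G → ℂ)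
    (hφ : ∀ x y, φ (x * y) = φ (y * x)) (hφS : ∀ g, MemLocalRing M (φ g))
    (hφp : ∀ (x : G) (k : ℕ), MemLocalIdeal M (φ x ^ (p ^ k) - φ (x ^ (p ^ k))))
    (B : MonoidAlgebra ℂ G) (hB : ∀ g, MemLocalRing M (B.coeff g)) :
    MemLocalIdeal M (lin φ (n * B)) := by
  classical
  have hpr := hM.2.1.isPrime
  have hp := hM.1
  have hp0 : (p : ℂ) ≠ 0 := by exact_mod_cast hp.ne_zero
  obtain ⟨n₀, hn₀⟩ := coeff_pow_div hM hn.1 h0 1
  set m := n₀ with hm
  have hq : n₀ ≤ p ^ m := (Nat.lt_pow_self hp.one_lt).le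
  have hcoef : ∀ g, MemLocalIdeal M ((n ^ (p ^ m)).coeff g) := by
    intro g
    apply li_of_lr_div hM
    have := hn₀ (p ^ m) hq g
    rwa [pow_one] at this
  set A := n * B with hA
  have hAS : ∀ g, MemLocalRing M (A.coeff g) := lr_coeff_mul hn.2 hB
  have h1 := li_lin_pow hM A hAS φ hφ hφS m
  have h2 : MemLocalIdeal M (lin φ (A ^ (p ^ m))) := by
    have hcomm : Commute n B := isCen_commute hn.1 B
    rw [hA, hcomm.mul_pow, lin_apply]
    apply li_sum
    intro g _
    refine li_mul_right ?_ (hφS g)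
    rw [coeff_mul_sum]
    apply li_sum
    intro y _
    exact li_mul_right (hcoef y) (lr_coeff_pow hB _ _)
  have h3 : MemLocalIdeal M (∑ g, A.coeff g ^ (p ^ m) * φ (g ^ (p ^ m))) := by
    have := li_sub h2 h1
    rwa [sub_sub_cancel] at this
  have h4 : MemLocalIdeal M (∑ g, (A.coeff g * φ g) ^ (p ^ m) -
      ∑ g, A.coeff g ^ (p ^ m) * φ (g ^ (p ^ m))) := by
    rw [← Finset.sum_sub_distrib]
    apply li_sum
    intro g _
    rw [mul_pow, ← mul_sub]
    exact li_mul_left (lr_pow (hAS g) _) (hφp g m)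
  have h5 : MemLocalIdeal M (∑ g, (A.coeff g * φ g) ^ (p ^ m)) := (li_congr h4).mpr h3
  have h6 := li_sum_pow_sub hM Finset.univ (fun g => A.coeff g * φ g)
    (fun g _ => lr_mul (hAS g) (hφS g)) m
  have h7 : MemLocalIdeal M ((∑ g, A.coeff g * φ g) ^ (p ^ m)) := (li_congr h6).mpr h5
  rw [li_pow_iff (lr_sum _ _ fun g _ => lr_mul (hAS g) (hφS g)) (pow_pos hp.pos m).ne'] at h7
  exact h7

end frob

section kul

variable {G : Type*} [Group G] [Fintype G] {p : ℕ} {M : Ideal AlgInt}

/-- Indicator of the `p`-elements. -/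
noncomputable def pInd (p : ℕ) (g : G) : ℂ :=
  haveI := Classical.propDecidable (∃ k : ℕ, orderOf g = p ^ k)
  if ∃ k : ℕ, orderOf g = p ^ k then 1 else 0

lemma pInd_conj (g c : G) : pInd p (c * g * c⁻¹) = pInd p g := by
  unfold pInd
  rw [orderOf_conj]

lemma pInd_inv (g : G) : pInd p g⁻¹ = pInd p g := by
  unfold pInd
  rw [orderOf_inv]

lemma pElt_pow_iff (hp : p.Prime) (x : G) (k : ℕ) :
    (∃ l : ℕ, orderOf (x ^ (p ^ k)) = p ^ l) ↔ ∃ l : ℕ, orderOf x = p ^ l := by
  constructor
  · rintro ⟨l, hl⟩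
    have h1 : x ^ (p ^ (k + l)) = 1 := by
      rw [pow_add, pow_mul, ← hl, pow_orderOf_eq_one]
    obtain ⟨m, _, hm⟩ := (Nat.dvd_prime_pow hp).mp (orderOf_dvd_of_pow_eq_one h1)
    exact ⟨m, hm⟩
  · rintro ⟨l, hl⟩
    have h1 : orderOf (x ^ (p ^ k)) ∣ p ^ l := by
      rw [← hl]; exact orderOf_pow_dvd _
    obtain ⟨m, _, hm⟩ := (Nat.dvd_prime_pow hp).mp h1
    exact ⟨m, hm⟩

theorem kulshammer (hM : IsPModular p M) {g : G} (hg : ¬ p ∣ orderOf g) :
    MemLocalIdeal M (blockCoeff (principalBlock M G) g -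
      (Nat.card {xy : G × G // (∃ k : ℕ, orderOf xy.1 = p ^ k) ∧ ¬ p ∣ orderOf xy.2 ∧
        xy.1 * xy.2 = g} : ℂ) / (Nat.card {y : G // ¬ p ∣ orderOf y} : ℂ)) := by
  classical
  have hpr := hM.2.1.isPrime
  have hp := hM.1
  have hfp := Fact.mk hp
  have hB : IsPBlock M (principalBlock M G) := principalBlock_isPBlock
  set R : ℂ := (Nat.card {y : G // ¬ p ∣ orderOf y} : ℂ) with hR
  have hRS : MemLocalRing M R := lr_natCast M _
  have hRn : ¬ MemLocalIdeal M R := by
    rw [hR, li_natCast_iff hM]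
    exact not_dvd_card_pRegular
  have hR0 := ne_zero_of_not_li hRn
  set f := fIdem (principalBlock M G) with hf
  set n : MonoidAlgebra ℂ G := regSum p G - R • f with hn
  have hfZ : IsZS M f := isZS_fIdem hB
  have hnZ : IsZS M n := by
    have h1 : n = regSum p G + (-R) • f := by rw [hn, neg_smul, sub_eq_add_neg]
    rw [h1]
    exact isZS_add (isZS_regSum hM) (isZS_smul hfZ (lr_neg hRS))
  have h3 : omega (fun _ : G => (1 : ℂ)) (regSum p G) = R := by
    unfold omega
    rw [div_one, lin_apply, hR, Nat.card_eq_fintype_card, Fintype.card_subtype,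
      Finset.card_filter]
    push_cast
    apply Finset.sum_congr rfl
    intro x _
    rw [coeff_regSum, mul_one]
  have h0 : ∀ χ : IrrCharacter G, MemLocalIdeal M (omega (χ : G → ℂ) n) := by
    intro χ
    rw [hn, omega_sub, omega_smul, hf, omega_fIdem]
    by_cases hχ : χ ∈ principalBlock M G
    · rw [if_pos hχ, mul_one, ← h3]
      apply li_sub_comm.mp
      exact li_omega_sub (isZS_regSum hM) (irr_classFun (isIrr_one (G := G)))
        (irr_classFun χ.2) (mem_principalBlock_iff.mp hχ)
    · rw [if_neg hχ, mul_zero, sub_zero]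
      exact (li_omega_regSum_iff hM χ).mpr hχ
  -- apply the nilpotent lemma
  have h4 := li_lin_mul_of_nilp hM hnZ h0 (pInd p) (fun x y => by
      have := pInd_conj (p := p) (y * x) x
      rw [← this]; congr 1; group) (fun x => by
      unfold pInd
      split_ifs
      · exact lr_one M
      · exact lr_zero M) (fun x k => by
      unfold pInd
      by_cases h : ∃ l : ℕ, orderOf x = p ^ l
      · rw [if_pos h, if_pos ((pElt_pow_iff hp x k).mpr h), one_pow, sub_self]
        exact li_zero M
      · rw [if_neg h, if_neg (fun h' => h ((pElt_pow_iff hp x k).mp h')),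
          zero_pow (pow_pos hp.pos k).ne', sub_self]
        exact li_zero M) (MonoidAlgebra.single g⁻¹ 1) (fun x => by
      rw [MonoidAlgebra.coeff_single, Finsupp.single_apply]
      split_ifs
      · exact lr_one M
      · exact lr_zero M)
  rw [hn, sub_mul, map_sub, smul_mul_assoc, map_smul, smul_eq_mul] at h4
  -- first term is the count
  have h5 : lin (pInd p) (regSum p G * MonoidAlgebra.single g⁻¹ 1) =
      (Nat.card {xy : G × G // (∃ k : ℕ, orderOf xy.1 = p ^ k) ∧ ¬ p ∣ orderOf xy.2 ∧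
        xy.1 * xy.2 = g} : ℂ) := by
    rw [lin_mul_single']
    have e : {xy : G × G // (∃ k : ℕ, orderOf xy.1 = p ^ k) ∧ ¬ p ∣ orderOf xy.2 ∧
        xy.1 * xy.2 = g} ≃ {y : G // (∃ k : ℕ, orderOf (g * y⁻¹) = p ^ k) ∧ ¬ p ∣ orderOf y} :=
      { toFun := fun xy => ⟨xy.1.2, by
          have h := xy.2.2.2
          have h' : g * xy.1.2⁻¹ = xy.1.1 := (eq_mul_inv_of_mul_eq h).symm
          rw [h']; exact ⟨xy.2.1, xy.2.2.1⟩⟩
        invFun := fun y => ⟨(g * y.1⁻¹, y.1), y.2.1, y.2.2, by simp⟩
        left_inv := fun xy => by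
          have h := xy.2.2.2
          have h' : g * xy.1.2⁻¹ = xy.1.1 := (eq_mul_inv_of_mul_eq h).symm
          apply Subtype.ext
          exact Prod.ext h' rfl
        right_inv := fun y => rfl }
    rw [Nat.card_congr e, Nat.card_eq_fintype_card, Fintype.card_subtype, Finset.card_filter]
    push_cast
    refine Finset.sum_congr rfl fun y _ => ?_
    rw [coeff_regSum]
    have h6 : pInd p (y * g⁻¹) = pInd p (g * y⁻¹) := by
      rw [← pInd_inv (y * g⁻¹)]; congr 1; group
    rw [h6]
    unfold pInd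
    by_cases ha : p ∣ orderOf y
    · rw [if_neg (not_not.mpr ha), zero_mul, if_neg (fun h => h.2 ha)]
    · rw [if_pos ha, one_mul]
      by_cases hb : ∃ k : ℕ, orderOf (g * y⁻¹) = p ^ k
      · rw [if_pos hb, if_pos ⟨hb, ha⟩]
      · rw [if_neg hb, if_neg (fun h => hb h.1)]
  -- second term
  have h6 : lin (pInd p) (f * MonoidAlgebra.single g⁻¹ 1) = blockCoeff (principalBlock M G) g := by
    have h7 := lin_mul_single_eq_zero hM f hfZ (fIdem_mul_self _)
      (fun x => pInd p x - if x = 1 then 1 else 0) (by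
        intro x c
        simp only
        rw [pInd_conj]
        have : c * x * c⁻¹ = 1 ↔ x = 1 := by
          constructor
          · intro h
            rw [mul_inv_eq_one] at h
            exact mul_eq_left.mp h
          · rintro rfl; simp
        rw [if_congr this rfl rfl]) (by
        intro x hx
        unfold pInd
        by_cases h1 : x = 1
        · rw [if_pos ⟨0, by rw [h1]; simp⟩, if_pos h1, sub_self]
        · rw [if_neg, if_neg h1, sub_self]
          rintro ⟨k, hk⟩
          rcases Nat.eq_zero_or_pos k with h2 | h2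
          · rw [h2, pow_zero, orderOf_eq_one_iff] at hk
            exact h1 hk
          · exact hx (hk ▸ dvd_pow_self p h2.ne')) g⁻¹ (by rwa [orderOf_inv])
    rw [lin_mul_single'] at h7 ⊢
    have h8 : ∀ y : G, f.coeff y * (pInd p (y * g⁻¹) - if y * g⁻¹ = 1 then 1 else 0) =
        f.coeff y * pInd p (y * g⁻¹) - if y = g then f.coeff g else 0 := by
      intro y
      have : y * g⁻¹ = 1 ↔ y = g := mul_inv_eq_one
      rw [if_congr this rfl rfl]
      split_ifs with h
      · rw [h]; ring
      · ring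
    rw [Finset.sum_congr rfl (fun y _ => h8 y), Finset.sum_sub_distrib, Finset.sum_ite_eq',
      if_pos (Finset.mem_univ _)] at h7
    rw [sub_eq_zero.mp h7]
    rfl
  rw [h5, h6] at h4
  have h7 : blockCoeff (principalBlock M G) g -
      (Nat.card {xy : G × G // (∃ k : ℕ, orderOf xy.1 = p ^ k) ∧ ¬ p ∣ orderOf xy.2 ∧
        xy.1 * xy.2 = g} : ℂ) / R = -R⁻¹ * ((Nat.card {xy : G × G //
        (∃ k : ℕ, orderOf xy.1 = p ^ k) ∧ ¬ p ∣ orderOf xy.2 ∧
        xy.1 * xy.2 = g} : ℂ) - R * blockCoeff (principalBlock M G) g) := by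
    field_simp
    ring
  rw [h7]
  exact li_mul_left (lr_neg (lr_inv hRS hRn)) h4

end kul

end Cfsg.Agent.H11
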