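import Cfsg.Prelude.Def_LocalStructure
import Cfsg.Agent.S3868
import Cfsg.Agent.S0999
import Cfsg.Agent.H5.Small
import Cfsg.Agent.H5.PSLSimple
import Cfsg.Agent.H18.PIrrProd

set_option autoImplicit false
set_option linter.all false
open Cfsg

namespace Cfsg.Agent.H11.LO

/-- the affine group of order `p * m` is not `p`-closed -/
theorem exists_affine {p : ℕ} [Fact p.Prime] {m : ℕ} (hm : IsPrimePow m) (hm1 : m % p = 1) :
    ∃ (H : Type) (_ : Group H) (_ : Finite H), Nat.card H = p * m ∧ ¬ Cfsg.IsPClosed p H := by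
  have hp : p.Prime := Fact.out
  obtain ⟨q, k, hq, hk, rfl⟩ := (isPrimePow_nat_iff _).mp hm
  haveI : Fact q.Prime := ⟨hq⟩
  let F := GaloisField q k
  haveI : Finite F := inferInstance
  haveI : Fintype F := Fintype.ofFinite F
  have hF : Nat.card F = q ^ k := GaloisField.card q k hk.ne'
  have hcop : Nat.Coprime (q ^ k) p := by
    rw [Nat.coprime_comm, hp.coprime_iff_not_dvd]
    intro h
    rw [Nat.dvd_iff_mod_eq_zero] at h
    omega
  have hdvd : p ∣ Nat.card Fˣ := by
    rw [Nat.card_units, hF]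
    exact (Nat.modEq_iff_dvd' (Nat.one_le_pow _ _ hq.pos)).mp (by
      unfold Nat.ModEq; rw [hm1, Nat.mod_eq_of_lt hp.one_lt])
  obtain ⟨u, hu⟩ := exists_prime_orderOf_dvd_card' p hdvd
  let C : Subgroup Fˣ := Subgroup.zpowers u
  let φ : C →* MulAut (Multiplicative F) :=
    (MulAutMultiplicative F).symm.toMonoidHom.comp (DistribMulAction.toAddAut C F)
  have hcardG : Nat.card (Multiplicative F ⋊[φ] C) = p * q ^ k := by
    rw [SemidirectProduct.card]
    have h1 : Nat.card C = p := by rw [Nat.card_zpowers, hu]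
    rw [h1, mul_comm]
    congr 1
  haveI hfin : Finite (Multiplicative F ⋊[φ] C) := by
    apply Nat.finite_of_card_ne_zero
    rw [hcardG]
    exact mul_ne_zero hp.ne_zero (pow_ne_zero _ hq.ne_zero)
  refine ⟨Multiplicative F ⋊[φ] C, inferInstance, hfin, hcardG, ?_⟩
  intro hcl
  let uC : C := ⟨u, Subgroup.mem_zpowers u⟩
  let c : Multiplicative F ⋊[φ] C := SemidirectProduct.inr uC
  let n : Multiplicative F ⋊[φ] C := SemidirectProduct.inl (Multiplicative.ofAdd (1 : F))
  have hcp : IsPGroup p (Subgroup.zpowers c) := by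
    apply IsPGroup.of_card (n := 1)
    rw [Nat.card_zpowers, pow_one]
    have h1 : orderOf c = orderOf uC := orderOf_injective _ SemidirectProduct.inr_injective uC
    rw [h1, ← Subgroup.orderOf_coe]
    exact hu
  obtain ⟨P, hP⟩ := hcp.exists_le_sylow
  have hPn := hcl P
  have hcP : c ∈ (P : Subgroup _) := hP (Subgroup.mem_zpowers c)
  have hx : c * (n * c⁻¹ * n⁻¹) ∈ (P : Subgroup _) :=
    mul_mem hcP (hPn.conj_mem _ (inv_mem hcP) n)
  have hxe : c * (n * c⁻¹ * n⁻¹) = SemidirectProduct.inl (Multiplicative.ofAdd ((u : F) - 1)) := by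
    have h1 : c * n * c⁻¹ = SemidirectProduct.inl (φ uC (Multiplicative.ofAdd (1 : F))) := by
      rw [SemidirectProduct.inl_aut, map_inv]
    have h2 : φ uC (Multiplicative.ofAdd (1 : F)) = Multiplicative.ofAdd (u : F) := by
      show Multiplicative.ofAdd ((u : Fˣ) • (1 : F)) = _
      rw [Units.smul_def, smul_eq_mul, mul_one]
    rw [h2] at h1
    have h3 : c * (n * c⁻¹ * n⁻¹) = (c * n * c⁻¹) * n⁻¹ := by group
    rw [h3, h1, ← map_inv, ← map_mul, ← ofAdd_neg, ← ofAdd_add, sub_eq_add_neg]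
  rw [hxe] at hx
  obtain ⟨j, hj⟩ := P.2 ⟨_, hx⟩
  have hj' : (SemidirectProduct.inl (Multiplicative.ofAdd ((u : F) - 1)) : Multiplicative F ⋊[φ] C) ^ p ^ j = 1 :=
    congrArg Subtype.val hj
  have ho1 : orderOf (SemidirectProduct.inl (Multiplicative.ofAdd ((u : F) - 1)) : Multiplicative F ⋊[φ] C) ∣ p ^ j :=
    orderOf_dvd_of_pow_eq_one hj'
  have ho2 : orderOf (SemidirectProduct.inl (Multiplicative.ofAdd ((u : F) - 1)) : Multiplicative F ⋊[φ] C) ∣ q ^ k := by
    rw [orderOf_injective _ SemidirectProduct.inl_injective, ← hF]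
    exact orderOf_dvd_natCard (Multiplicative.ofAdd ((u : F) - 1) : Multiplicative F)
  have h1 : orderOf (SemidirectProduct.inl (Multiplicative.ofAdd ((u : F) - 1)) : Multiplicative F ⋊[φ] C) = 1 :=
    Nat.eq_one_of_dvd_coprimes (Nat.Coprime.pow_right j hcop) ho2 ho1
  rw [orderOf_eq_one_iff] at h1
  have h2 : Multiplicative.ofAdd ((u : F) - 1) = 1 := by
    apply SemidirectProduct.inl_injective (φ := φ)
    rw [h1, map_one]
  have h3 : (u : F) - 1 = 0 := h2
  have h4 : (u : F) = 1 := sub_eq_zero.mp h3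
  have h5 : u = 1 := Units.ext h4
  rw [h5, orderOf_one] at hu
  exact hp.one_lt.ne hu

theorem card_psl_zmod {p : ℕ} [Fact p.Prime] (hp : p ≠ 2) :
    Nat.card (Matrix.ProjectiveSpecialLinearGroup (Fin 2) (ZMod p)) = p * (p ^ 2 - 1) / 2 := by
  have hpp : p.Prime := Fact.out
  have h := H5.card_PSL2 (F := ZMod p) (q := p) (ZMod.card p)
  have h2 : Nat.gcd 2 (p - 1) = 2 := by
    rcases hpp.eq_two_or_odd' with h | h
    · exact absurd h hp
    · obtain ⟨r, rfl⟩ := h
      rw [show 2 * r + 1 - 1 = 2 * r by omega]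
      exact Nat.gcd_mul_right_right 2 r |>.trans rfl |> fun h => by simpa using h
  rw [h2] at h
  omega

theorem psl_not_closed {p : ℕ} [Fact p.Prime] (hp : 3 < p) :
    ¬ Cfsg.IsPClosed p (Matrix.ProjectiveSpecialLinearGroup (Fin 2) (ZMod p)) := by
  have hpp : p.Prime := Fact.out
  haveI := H5.PSL2_isSimple (F := ZMod p) (by rw [Nat.card_eq_fintype_card, ZMod.card]; omega)
  have hc := card_psl_zmod (p := p) (by omega)
  have hodd : ∃ r, p = 2 * r + 1 := hpp.odd_of_ne_two (by omega)
  obtain ⟨r, hr⟩ := hodd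
  have hc2 : Nat.card (Matrix.ProjectiveSpecialLinearGroup (Fin 2) (ZMod p)) = p * (2 * r * (r + 1)) := by
    rw [hc]
    have : p * (p ^ 2 - 1) = 2 * (p * (2 * r * (r + 1))) := by
      have : p ^ 2 - 1 = 4 * r * (r + 1) := by
        rw [hr]
        have : (2 * r + 1) ^ 2 = 4 * r * (r + 1) + 1 := by ring
        omega
      rw [this]; ring
    omega
  intro hcl
  have P : Sylow p (Matrix.ProjectiveSpecialLinearGroup (Fin 2) (ZMod p)) := default
  have hn := hcl P
  haveI := hn
  rcases hn.eq_bot_or_eq_top with h | h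
  · have h3 := P.card_eq_multiplicity
    rw [h, Subgroup.card_bot] at h3
    have hdvd : p ∣ Nat.card (Matrix.ProjectiveSpecialLinearGroup (Fin 2) (ZMod p)) := by
      rw [hc2]; exact dvd_mul_right _ _
    have h4 : 1 < p ^ (Nat.card (Matrix.ProjectiveSpecialLinearGroup (Fin 2) (ZMod p))).factorization p :=
      Nat.one_lt_pow (Nat.pos_iff_ne_zero.mp (hpp.factorization_pos_of_dvd Nat.card_pos.ne' hdvd)) hpp.one_lt
    omega
  · have h3 := P.card_eq_multiplicity
    rw [h, Subgroup.card_top, hc2] at h3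
    have h4 : 2 ∣ p ^ (p * (2 * r * (r + 1))).factorization p := by
      rw [← h3]; exact ⟨p * (r * (r + 1)), by ring⟩
    have h5 := Nat.prime_two.dvd_of_dvd_pow h4
    have h6 := (Nat.prime_dvd_prime_iff_eq Nat.prime_two hpp).mp h5
    omega

theorem lower (p : ℕ) [Fact p.Prime] (hp : p ≠ 2) (m : ℕ)
    (hleast : ∀ k : ℕ, IsPrimePow k → k % p = 1 → m ≤ k) (N : ℕ) :
    ∀ (H : Type) [Group H] [Finite H], Nat.card H ≤ N → ¬ Cfsg.IsPClosed p H →
      min (p * m) (p * (p ^ 2 - 1) / 2) ≤ Nat.card H := by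
  have hpp : p.Prime := Fact.out
  induction N with
  | zero => intro H _ _ h; have := Nat.card_pos (α := H); omega
  | succ N ih =>
    intro H _ _ hN hcl
    by_cases hsub : ∀ K : Subgroup H, K ≠ ⊤ → Cfsg.IsPClosed p ↥K
    swap
    · push Not at hsub
      obtain ⟨K, hK, hK2⟩ := hsub
      have h1 : Nat.card K < Nat.card H := by
        refine lt_of_le_of_ne (Nat.le_of_dvd Nat.card_pos K.card_subgroup_dvd_card) ?_
        intro h
        exact hK (Subgroup.eq_top_of_card_eq K h)
      exact (ih K (by omega) hK2).trans h1.le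
    by_cases hquo : ∀ (M : Subgroup H) [M.Normal], M ≠ ⊥ → Cfsg.IsPClosed p (H ⧸ M)
    swap
    · push Not at hquo
      obtain ⟨K, hKn, hK, hK2⟩ := hquo
      have h1 : Nat.card (H ⧸ K) < Nat.card H := by
        have h2 := K.card_eq_card_quotient_mul_card_subgroup
        have h3 : Nat.card K ≠ 1 := fun h => hK (Subgroup.card_eq_one.mp h)
        have h4 : 0 < Nat.card K := Nat.card_pos
        have h5 : 0 < Nat.card (H ⧸ K) := Nat.card_pos
        have h6 : 2 ≤ Nat.card K := by omega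
        rw [h2]
        calc Nat.card (H ⧸ K) < Nat.card (H ⧸ K) * 2 := by omega
          _ ≤ Nat.card (H ⧸ K) * Nat.card K := Nat.mul_le_mul_left _ h6
      exact (ih (H ⧸ K) (by omega) hK2).trans h1.le
    by_cases hs : IsSimpleGroup H
    swap
    · obtain ⟨q, hq, hqp, hcard, -⟩ := S3868.result hcl hsub hquo hs
      have hcop : Nat.Coprime q p := (Nat.coprime_primes hq hpp).mpr hqp
      have he : 0 < orderOf (q : ZMod p) := by
        apply orderOf_pos_iff.mpr
        have : IsUnit (q : ZMod p) := (ZMod.isUnit_iff_coprime q p).mpr hcop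
        obtain ⟨v, hv⟩ := this
        rw [← hv]
        exact (Units.coeHom (ZMod p)).isOfFinOrder (isOfFinOrder_of_finite v)
      have h1 : m ≤ q ^ orderOf (q : ZMod p) := by
        apply hleast
        · exact hq.isPrimePow.pow he.ne'
        · have h2 : ((q ^ orderOf (q : ZMod p) : ℕ) : ZMod p) = ((1 : ℕ) : ZMod p) := by
            rw [Nat.cast_pow, pow_orderOf_eq_one, Nat.cast_one]
          rw [ZMod.natCast_eq_natCast_iff] at h2
          rw [h2]
          exact Nat.mod_eq_of_lt hpp.one_lt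
      rw [hcard]
      exact (min_le_left _ _).trans (Nat.mul_le_mul_left _ h1)
    have hncyc : ¬ IsCyclic H := by
      intro h
      apply hcl
      intro P
      letI := IsCyclic.commGroup (α := H)
      exact Subgroup.normal_of_comm _
    have hdvd : p ∣ Nat.card H := by
      by_contra h
      apply hcl
      intro P
      have h1 : (P : Subgroup H) = ⊥ := by
        have h3 := P.card_eq_multiplicity
        rw [Nat.factorization_eq_zero_of_not_dvd h, pow_zero, Subgroup.card_eq_one] at h3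
        exact h3
      rw [h1]; infer_instance
    refine (min_le_right _ _).trans ?_
    have hp2 : 1 ≤ p ^ 2 := Nat.one_le_pow _ _ hpp.pos
    by_cases hbig : Nat.card H < p ^ 3
    swap
    · have h1 : p * (p ^ 2 - 1) / 2 ≤ p * (p ^ 2 - 1) := Nat.div_le_self _ _
      have h2 : p * (p ^ 2 - 1) ≤ p ^ 3 := by
        calc p * (p ^ 2 - 1) ≤ p * p ^ 2 := Nat.mul_le_mul_left _ (Nat.sub_le _ _)
          _ = p ^ 3 := by ring
      omega
    rcases S0999.result hncyc p hpp hdvd hbig with ⟨F, _, _, hF, h3, ⟨e⟩⟩ | ⟨k, F, _, _, hF, hk, h3, ⟨e⟩⟩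
    · rw [Nat.card_congr e.toEquiv]
      have h := H5.card_PSL2 (F := F) (q := p) hF
      have h2 : Nat.gcd 2 (p - 1) ∣ 2 := Nat.gcd_dvd_left _ _
      have h2' : Nat.gcd 2 (p - 1) ≤ 2 := Nat.le_of_dvd (by norm_num) h2
      have h4 : p * (p ^ 2 - 1) ≤ 2 * Nat.card (Matrix.ProjectiveSpecialLinearGroup (Fin 2) F) := by
        rw [← h]; exact Nat.mul_le_mul_right _ h2'
      omega
    · rw [Nat.card_congr e.toEquiv]
      have h := H5.card_PSL2 (F := F) (q := 2 ^ k) hF
      have hk0 : k ≠ 0 := by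
        rintro rfl
        rw [pow_zero] at hk
        omega
      have h2 : Nat.gcd 2 (2 ^ k - 1) = 1 := by
        rw [← Nat.coprime_iff_gcd_eq_one, Nat.coprime_two_left]
        have h5 : 2 ∣ 2 ^ k := dvd_pow_self 2 hk0
        have h6 : 0 < 2 ^ k := by positivity
        rcases h5 with ⟨c, hc⟩
        exact ⟨c - 1, by omega⟩
      rw [h2, one_mul] at h
      rw [h]
      obtain ⟨c, hc⟩ : ∃ c, p = c + 5 := ⟨p - 5, by
        have : p ≠ 4 := by rintro rfl; revert hpp; decide
        omega⟩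
      have hq : 2 ^ k = c + 4 := by omega
      rw [hq, hc]
      have e1 : (c + 5) ^ 2 - 1 = (c + 4) * (c + 6) := by
        have : (c + 5) ^ 2 = (c + 4) * (c + 6) + 1 := by ring
        omega
      have e2 : (c + 4) ^ 2 - 1 = (c + 3) * (c + 5) := by
        have : (c + 4) ^ 2 = (c + 3) * (c + 5) + 1 := by ring
        omega
      rw [e1, e2]
      have e3 : (c + 5) * ((c + 4) * (c + 6)) ≤ 2 * ((c + 4) * ((c + 3) * (c + 5))) := by nlinarith [sq_nonneg c]
      omega

theorem main (p : ℕ) [Fact p.Prime] (hp : p ≠ 2) (m : ℕ) (hm : IsPrimePow m) (hm1 : m % p = 1)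
    (hleast : ∀ k : ℕ, IsPrimePow k → k % p = 1 → m ≤ k) :
    (∀ (H : Type) [Group H] [Finite H], ¬ Cfsg.IsPClosed p H → min (p * m) (p * (p ^ 2 - 1) / 2) ≤ Nat.card H) ∧
      ∃ (H : Type) (_ : Group H) (_ : Finite H), Nat.card H = min (p * m) (p * (p ^ 2 - 1) / 2) ∧ ¬ Cfsg.IsPClosed p H := by
  have hpp : p.Prime := Fact.out
  refine ⟨fun H _ _ h => lower p hp m hleast (Nat.card H) H le_rfl h, ?_⟩
  by_cases h : p * m ≤ p * (p ^ 2 - 1) / 2
  · rw [min_eq_left h]
    exact exists_affine hm hm1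
  · rw [min_eq_right (by omega)]
    have hp3 : 3 < p := by
      by_contra hcon
      have h2 := hpp.two_le
      have h3 : p = 3 := by omega
      subst h3
      have h4 : m ≤ 4 := hleast 4 ((isPrimePow_nat_iff _).mpr ⟨2, 2, Nat.prime_two, by norm_num, by norm_num⟩) (by norm_num)
      apply h
      have : 3 * (3 ^ 2 - 1) / 2 = 12 := by norm_num
      rw [this]
      omega
    exact ⟨Matrix.ProjectiveSpecialLinearGroup (Fin 2) (ZMod p), inferInstance, inferInstance,
      card_psl_zmod hp, psl_not_closed hp3⟩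

end Cfsg.Agent.H11.LO
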