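import Cfsg.Agent.H11.Defect5
import Cfsg.Agent.H23.PSolvable

set_option autoImplicit false

/-! S0915: one block when `C_G(O_p(G)) ≤ O_p(G)`. -/

namespace Cfsg.Agent.H11

open Cfsg Finset Cfsg.Agent.H3

variable {G : Type*} [Group G] [Fintype G] {p : ℕ} {M : Ideal AlgInt}

theorem mem_centralizer_of_not_li (hM : IsPModular p M) {P : Subgroup G} [hPn : P.Normal]
    (hP : IsPGroup p P) {χ : IrrCharacter G} {h : G}
    (hh : ¬ MemLocalIdeal M (centralChar (χ : G → ℂ) h)) :
    h ∈ Subgroup.centralizer (P : Set G) := by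
  have hpr := hM.2.1.isPrime
  have hB : IsPBlock M (blockOf M (χ : G → ℂ)) := ⟨χ, rfl⟩
  obtain ⟨D, hD⟩ := exists_isDefectGroup hM hB
  obtain ⟨x, hx, hDx⟩ := exists_conj_centralizes hM hB hD (mem_blockOf_self χ) hh
  have h1 := (normal_le_defect hM hB hD hP).trans hDx
  obtain ⟨c, hc⟩ := isConj_iff.1 hx
  rw [Subgroup.mem_centralizer_iff]
  intro y hy
  have h2 : c * y * c⁻¹ ∈ P := hPn.conj_mem y hy c
  have h3 := mem_C1.1 (h1 h2)
  rw [← hc] at h3
  have h4 : c * (y * h) * c⁻¹ = c * (h * y) * c⁻¹ := by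
    calc c * (y * h) * c⁻¹ = c * y * c⁻¹ * (c * h * c⁻¹) := by group
      _ = c * h * c⁻¹ * (c * y * c⁻¹) := h3
      _ = _ := by group
  exact mul_left_cancel (mul_right_cancel h4)

theorem one_block (hM : IsPModular p M) {P : Subgroup G} [hPn : P.Normal]
    (hP : IsPGroup p P) (hC : Subgroup.centralizer (P : Set G) ≤ P) (χ ψ : IrrCharacter G) :
    SameBlock M (χ : G → ℂ) (ψ : G → ℂ) := by
  classical
  have hpr := hM.2.1.isPrime
  haveI : Fact p.Prime := ⟨hM.1⟩
  by_contra hne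
  obtain ⟨B, hBd⟩ : ∃ B, B = blockOf M (χ : G → ℂ) := ⟨_, rfl⟩
  have hB : IsPBlock M B := ⟨χ, hBd⟩
  have hψ : ψ ∉ B := fun h => hne (by rw [hBd] at h; exact h)
  have hreg : ∀ (η : IrrCharacter G) (g : G), ¬ p ∣ orderOf g →
      ¬ MemLocalIdeal M (centralChar (η : G → ℂ) g) → g = 1 := by
    intro η g hg h1
    have h2 := hC (mem_centralizer_of_not_li hM hP h1)
    obtain ⟨k, hk⟩ := (IsPGroup.iff_orderOf.mp hP) ⟨g, h2⟩
    rw [Subgroup.orderOf_mk] at hk
    have hk0 : k = 0 := by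
      by_contra hk0
      exact hg (hk ▸ dvd_pow_self p hk0)
    rw [hk0, pow_zero] at hk
    exact orderOf_eq_one_iff.1 hk
  obtain ⟨g, hg⟩ := exists_isDefectClass hM hB
  have hg1 : g = 1 := hreg χ g (isDefectClass_pRegular hM hB hg)
    (hg.2.2 χ (by rw [hBd]; exact mem_blockOf_self χ))
  have h1 : ¬ MemLocalIdeal M (blockCoeff B 1) := hg1 ▸ hg.2.1
  apply h1
  haveI := Fintype.ofFinite (ConjClasses G)
  have h2 := omega_eq_sum (isCen_fIdem B) (irr_classFun ψ.2)
  rw [omega_fIdem, if_neg hψ] at h2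
  have h3 : ∀ C : ConjClasses G, C ≠ ConjClasses.mk 1 →
      MemLocalIdeal M ((fIdem B).coeff C.out * centralChar (ψ : G → ℂ) C.out) := by
    intro C hC1
    by_cases hreg' : p ∣ orderOf C.out
    · rw [coeff_fIdem, blockCoeff_eq_zero hM hB _ hreg', zero_mul]
      exact li_zero M
    · have h4 : MemLocalIdeal M (centralChar (ψ : G → ℂ) C.out) := by
        by_contra h5
        have h6 := hreg ψ _ hreg' h5
        apply hC1
        rw [← h6]
        exact (Quotient.out_eq C).symm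
      rw [coeff_fIdem]
      exact li_mul_left (lr_blockCoeff hB _) h4
  rw [← Finset.add_sum_erase _ _ (Finset.mem_univ (ConjClasses.mk (1 : G)))] at h2
  have h4 : (ConjClasses.mk (1 : G)).out = 1 := by
    have h5 : ConjClasses.mk (ConjClasses.mk (1 : G)).out = ConjClasses.mk 1 := Quotient.out_eq _
    rw [ConjClasses.mk_eq_mk_iff_isConj] at h5
    obtain ⟨c, hc⟩ := isConj_iff.1 h5.symm
    rw [← hc]; group
  rw [h4, coeff_fIdem] at h2
  have h5 : centralChar (ψ : G → ℂ) 1 = 1 := by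
    have h6 := omega_csum (irr_classFun ψ.2) (1 : G)
    have h7 : csum (1 : G) = 1 := by
      ext x
      rw [csum, coeff_toAlg, MonoidAlgebra.one_def, MonoidAlgebra.coeff_single,
        Finsupp.single_apply]
      have : IsConj 1 x ↔ 1 = x := by
        rw [isConj_iff]
        constructor
        · rintro ⟨c, hc⟩; rw [← hc]; group
        · rintro rfl; exact ⟨1, by group⟩
      simp only [this]
    rw [h7, omega_one ψ.2] at h6
    exact h6.symm
  rw [h5, mul_one] at h2
  have h6 : blockCoeff B 1 = -∑ C ∈ univ.erase (ConjClasses.mk (1 : G)),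
      (fIdem B).coeff C.out * centralChar (ψ : G → ℂ) C.out := by linear_combination -h2
  rw [h6]
  exact li_neg (li_sum _ _ fun C hC1 => h3 C (Finset.ne_of_mem_erase hC1))

end Cfsg.Agent.H11
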