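import Cfsg.Agent.H3.Clifford
import Cfsg.Agent.H3.Inflate
import Cfsg.Agent.H3.Basic2
import Cfsg.Agent.H27.Util

/-!
PF section 1: induction from normal subgroups and the inertia group correspondence.
-/
set_option autoImplicit false

namespace Cfsg.Agent.H11.PF

open Cfsg Cfsg.Agent.H3 Cfsg.Agent.H27 ComplexConjugate

universe u v

variable {G : Type u} [Group G] [Fintype G] {H : Subgroup G} (hH : H.Normal)

include hH in
theorem sum_cj_eq (θ : H → ℂ) :
    ∑ x : G, cj hH x θ = (Nat.card (inertia hH θ) : ℂ) • ∑ᶠ ψ ∈ {ψ | ∃ g, ψ = cj hH g θ}, ψ := by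
  classical
  have hfin : {ψ : H → ℂ | ∃ g, ψ = cj hH g θ} =
      ((Finset.univ.image (fun x : G => cj hH x θ) : Finset (H → ℂ)) : Set (H → ℂ)) := by
    ext ψ
    simp only [Set.mem_setOf_eq, Finset.coe_image, Finset.coe_univ, Set.image_univ, Set.mem_range]
    exact ⟨fun ⟨g, hg⟩ => ⟨g, hg.symm⟩, fun ⟨g, hg⟩ => ⟨g, hg.symm⟩⟩
  rw [hfin, finsum_mem_coe_finset, Finset.smul_sum,
    ← Finset.sum_fiberwise_of_maps_to (g := fun x : G => cj hH x θ)
      (t := Finset.univ.image (fun x : G => cj hH x θ))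
      (fun x _ => Finset.mem_image_of_mem _ (Finset.mem_univ x))]
  refine Finset.sum_congr rfl fun ψ hψ => ?_
  rw [Finset.sum_congr rfl (g := fun _ => ψ) (fun x hx => (Finset.mem_filter.mp hx).2),
    Finset.sum_const]
  obtain ⟨g, -, hg⟩ := Finset.mem_image.mp hψ
  have := card_cj_eq hH θ ψ
  rw [if_pos ⟨g, hg⟩, Nat.card_eq_fintype_card, Fintype.card_subtype] at this
  rw [this, Nat.cast_smul_eq_nsmul]

include hH in
theorem indFun_cj (θ : H → ℂ) (g : G) : indFun H (cj hH g θ) = indFun H θ := by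
  haveI : Fintype H := Fintype.ofFinite H
  refine classFun_ext_inner (indFun_classFun H _) (indFun_classFun H _) fun χ => ?_
  rw [frobenius_reciprocity _ _ (irr_classFun χ.2), frobenius_reciprocity _ _ (irr_classFun χ.2)]
  conv_lhs => rw [← cj_restrict hH (irr_classFun χ.2) g]
  exact classInner_cj_cj hH g _ _

include hH in
theorem inner_ind_ne {θ φ : H → ℂ} (hθ : IsIrrCharacter H θ) (hφ : IsIrrCharacter H φ)
    (h : ∀ g, φ ≠ cj hH g θ) : classInner (indFun H φ) (indFun H θ) = 0 := by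
  haveI : Fintype H := Fintype.ofFinite H
  have h1 := classInner_indFun_normal hH φ θ
  rw [Finset.sum_eq_zero (fun x _ => classInner_of_irr_ne hφ (isIrr_cj hH hθ x) (h x))] at h1
  have h0 : (Nat.card H : ℂ) ≠ 0 := by exact_mod_cast Nat.card_pos.ne'
  exact (mul_eq_zero.mp h1).resolve_left h0

theorem eq_one_of_re {χ : G → ℂ} (hχ : IsCharacter G χ) (g : G) (h : (χ 1).re ≤ (χ g).re) :
    χ g = χ 1 := by
  have h1 := norm_char_le hχ g
  have h2 := char_one_norm hχ
  obtain ⟨n, hn⟩ := char_one_eq_nat hχ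
  have h3 : (charDegree χ : ℝ) = n := by rw [← h2, hn]; simp
  have h4 : (χ 1).re = n := by rw [hn]; simp
  have h5 : (χ g).re ≤ ‖χ g‖ := Complex.re_le_norm _
  have h6 : (χ g).re = n := by linarith
  have h7 : ‖χ g‖ = n := by linarith
  have h8 : (χ g).re ^ 2 + (χ g).im ^ 2 = ‖χ g‖ ^ 2 := by
    rw [Complex.sq_norm, Complex.normSq_apply]; ring
  have h9 : (χ g).im = 0 := by
    rw [h6, h7] at h8
    nlinarith
  rw [hn]
  apply Complex.ext <;> simp [h6, h9]

include hH in
theorem ker_ind_iff {A : Subgroup G} (hA : A.Normal) (hAH : A ≤ H) {θ : H → ℂ}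
    (hθ : IsCharacter H θ) :
    (∀ a : H, (a : G) ∈ A → θ a = θ 1) ↔ (∀ a : G, a ∈ A → indFun H θ a = indFun H θ 1) := by
  have h0 : (Nat.card H : ℂ) ≠ 0 := by exact_mod_cast Nat.card_pos.ne'
  have key : ∀ a : H, indFun H θ a = (Nat.card H : ℂ)⁻¹ * ∑ x : G, cj hH x θ a :=
    fun a => indFun_restrict_normal hH θ a
  have key1 : indFun H θ 1 = (Nat.card H : ℂ)⁻¹ * ∑ x : G, θ 1 := by
    have := key 1
    rw [Subgroup.coe_one] at this
    rw [this]
    congr 1
    exact Finset.sum_congr rfl fun x _ => cj_one_apply hH x θ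
  constructor
  · intro h a ha
    rw [key1]
    have := key ⟨a, hAH ha⟩
    simp only at this
    rw [this]
    congr 1
    refine Finset.sum_congr rfl fun x _ => ?_
    rw [cj_apply]
    exact h _ (hA.conj_mem a ha x)
  · intro h a ha
    have h1 := h a ha
    rw [key, key1] at h1
    have h2 : ∑ x : G, cj hH x θ a = ∑ x : G, θ 1 := mul_left_cancel₀ (inv_ne_zero h0) h1
    have h3 : ∑ x : G, (cj hH x θ a).re = ∑ x : G, (θ 1).re := by
      have := congrArg Complex.re h2
      simpa using this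
    haveI : Fintype H := Fintype.ofFinite H
    have hle : ∀ x : G, (cj hH x θ a).re ≤ (θ 1).re := by
      intro x
      have hc := isChar_cj hH hθ x
      obtain ⟨n, hn⟩ := char_one_eq_nat hθ
      have h5 := norm_char_le hc a
      have h6 := char_one_norm hc
      rw [cj_one_apply, hn] at h6
      rw [← h6] at h5
      rw [hn]
      refine (Complex.re_le_norm _).trans (h5.trans ?_)
      simp
    by_contra hne
    have hlt : (cj hH (1 : G) θ a).re < (θ 1).re := by
      rcases lt_or_eq_of_le (hle 1) with h5 | h5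
      · exact h5
      · exact absurd (by
          have := eq_one_of_re (isChar_cj hH hθ 1) a (by rw [cj_one_apply]; exact h5.symm.le)
          rw [cj_one_apply, cj_one] at this
          exact this) hne
    exact absurd h3 (Finset.sum_lt_sum (fun x _ => hle x) ⟨1, Finset.mem_univ _, hlt⟩).ne

theorem corr_eq {T : Subgroup G} [Fintype T] [Fintype H] (hHT : H ≤ T) {θ : H → ℂ}
    (hθ : IsIrrCharacter H θ) (hT : T = inertia hH θ) {χ : G → ℂ} (hχ : IsIrrCharacter G χ)
    (he : classInner (fun h : H => χ h) θ ≠ 0) {ψ : T → ℂ} (hψ : IsIrrCharacter T ψ)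
    (hψθ : classInner (fun n : H => ψ ⟨(n : G), hHT n.2⟩) θ ≠ 0)
    (hψχ : classInner (fun t : T => χ t) ψ ≠ 0) : indFun T ψ = χ := by
  obtain ⟨ψ₁, h1, h2, h3, h4⟩ := clifford_corr hH hχ hθ he T hT hHT
  by_cases hne : ψ = ψ₁
  · rw [hne]; exact h2
  exfalso
  have hc1 : classInner (fun t : T => χ t) ψ₁ = 1 := by
    rw [← frobenius_reciprocity' T ψ₁ (irr_classFun hχ), h2, classInner_self_of_irr hχ]
  have hc : IsCharacter T (fun t : T => χ t) := isChar_restrict T (irr_isChar hχ)
  have hA := isChar_sub_irr hc h1 (by rw [hc1]; exact one_ne_zero)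
  have hA2 : classInner ((fun t : T => χ t) - ψ₁) ψ ≠ 0 := by
    rw [classInner_sub_left, classInner_of_irr_ne h1 hψ (Ne.symm hne), sub_zero]
    exact hψχ
  have hB := isChar_sub_irr hA hψ hA2
  -- restrict to H
  let f : H →* T := Subgroup.inclusion hHT
  have hC := isChar_comp hB f
  obtain ⟨k, hk⟩ := classInner_char_nat hC (irr_isChar hθ)
  obtain ⟨m, hm⟩ := classInner_char_nat (isChar_comp (irr_isChar hψ) f) (irr_isChar hθ)
  have e1 : (fun h : H => (((fun t : T => χ t) - ψ₁) - ψ) (f h)) =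
      ((fun h : H => χ h) - (fun h : H => ψ₁ (f h))) - (fun h : H => ψ (f h)) := by
    funext h; rfl
  rw [e1, classInner_sub_left, classInner_sub_left, hm] at hk
  have h3' : classInner (fun h : H => ψ₁ (f h)) θ = classInner (fun h : H => χ h) θ := by
    exact h3
  rw [h3', sub_self, zero_sub] at hk
  have hm0 : (m : ℂ) ≠ 0 := by rw [← hm]; exact hψθ
  have : (k : ℂ) + m = 0 := by rw [← hk]; ring
  have h5 : k + m = 0 := by exact_mod_cast this
  exact hm0 (by rw [(Nat.add_eq_zero_iff.mp h5).2]; simp)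

theorem ind_ne_zero (T : Subgroup G) {ψ : T → ℂ} (h : ψ 1 ≠ 0) : indFun T ψ ≠ 0 := by
  intro h0
  have h1 := indFun_one_apply T ψ
  rw [h0] at h1
  have h2 : (T.index : ℂ) ≠ 0 := by exact_mod_cast Subgroup.index_ne_zero_of_finite
  exact mul_ne_zero h2 h h1.symm

/-- The Clifford correspondence: irreducibility and injectivity of induction. -/
theorem corr_irr {T : Subgroup G} [Fintype T] [Fintype H] (hHT : H ≤ T) {θ : H → ℂ}
    (hθ : IsIrrCharacter H θ) (hT : T = inertia hH θ) {ψ : T → ℂ} (hψ : IsIrrCharacter T ψ)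
    (hψθ : classInner (fun n : H => ψ ⟨(n : G), hHT n.2⟩) θ ≠ 0) :
    IsIrrCharacter G (indFun T ψ) := by
  have hc := isChar_ind T (irr_isChar hψ)
  obtain ⟨χ, hχ⟩ := exists_constituent hc (ind_ne_zero T (irr_one_ne_zero hψ))
  have h1 : classInner (fun t : T => (χ : G → ℂ) t) ψ ≠ 0 := by
    rw [← frobenius_reciprocity' T ψ (irr_classFun χ.2)]
    exact classInner_ne_zero_symm hχ
  have h2 : classInner (fun h : H => (χ : G → ℂ) h) θ ≠ 0 := by
    have hA := isChar_sub_irr (isChar_restrict T (irr_isChar χ.2)) hψ h1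
    let f : H →* T := Subgroup.inclusion hHT
    obtain ⟨k, hk⟩ := classInner_char_nat (isChar_comp hA f) (irr_isChar hθ)
    obtain ⟨m, hm⟩ := classInner_char_nat (isChar_comp (irr_isChar hψ) f) (irr_isChar hθ)
    have e1 : (fun h : H => ((fun t : T => (χ : G → ℂ) t) - ψ) (f h)) =
        (fun h : H => (χ : G → ℂ) h) - (fun h : H => ψ (f h)) := by
      funext h; rfl
    rw [e1, classInner_sub_left, hm] at hk
    have hm0 : (m : ℂ) ≠ 0 := by rw [← hm]; exact hψθ
    intro h0
    rw [h0] at hk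
    have : (k : ℂ) + m = 0 := by rw [← hk]; ring
    have h5 : k + m = 0 := by exact_mod_cast this
    exact hm0 (by rw [(Nat.add_eq_zero_iff.mp h5).2]; simp)
  rw [corr_eq hH hHT hθ hT χ.2 h2 hψ hψθ h1]
  exact χ.2

theorem corr_inj {T : Subgroup G} [Fintype T] [Fintype H] (hHT : H ≤ T) {θ : H → ℂ}
    (hθ : IsIrrCharacter H θ) (hT : T = inertia hH θ) {ψ ψ' : T → ℂ} (hψ : IsIrrCharacter T ψ)
    (hψθ : classInner (fun n : H => ψ ⟨(n : G), hHT n.2⟩) θ ≠ 0) (hψ' : IsIrrCharacter T ψ')
    (hψθ' : classInner (fun n : H => ψ' ⟨(n : G), hHT n.2⟩) θ ≠ 0)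
    (heq : indFun T ψ = indFun T ψ') : ψ = ψ' := by
  have hirr := corr_irr hH hHT hθ hT hψ hψθ
  by_contra hne
  -- both occur in the restriction
  have hc1 : classInner (fun t : T => indFun T ψ t) ψ = 1 := by
    rw [← frobenius_reciprocity' T ψ (irr_classFun hirr), classInner_self_of_irr hirr]
  have hc2 : classInner (fun t : T => indFun T ψ t) ψ' = 1 := by
    rw [← frobenius_reciprocity' T ψ' (irr_classFun hirr), ← heq, classInner_self_of_irr hirr]
  have he : classInner (fun h : H => indFun T ψ h) θ ≠ 0 := by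
    have hA := isChar_sub_irr (isChar_restrict T (irr_isChar hirr)) hψ (by rw [hc1]; exact one_ne_zero)
    let f : H →* T := Subgroup.inclusion hHT
    obtain ⟨k, hk⟩ := classInner_char_nat (isChar_comp hA f) (irr_isChar hθ)
    obtain ⟨m, hm⟩ := classInner_char_nat (isChar_comp (irr_isChar hψ) f) (irr_isChar hθ)
    have e1 : (fun h : H => ((fun t : T => (indFun T ψ) t) - ψ) (f h)) =
        (fun h : H => (indFun T ψ) h) - (fun h : H => ψ (f h)) := by
      funext h; rfl
    rw [e1, classInner_sub_left, hm] at hk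
    have hm0 : (m : ℂ) ≠ 0 := by rw [← hm]; exact hψθ
    intro h0
    rw [h0] at hk
    have : (k : ℂ) + m = 0 := by rw [← hk]; ring
    have h5 : k + m = 0 := by exact_mod_cast this
    exact hm0 (by rw [(Nat.add_eq_zero_iff.mp h5).2]; simp)
  obtain ⟨ψ₁, h1, h2, h3, h4⟩ := clifford_corr hH hirr hθ he T hT hHT
  -- any constituent over θ equals ψ₁
  have key : ∀ η : T → ℂ, IsIrrCharacter T η →
      classInner (fun n : H => η ⟨(n : G), hHT n.2⟩) θ ≠ 0 →
      classInner (fun t : T => indFun T ψ t) η ≠ 0 → η = ψ₁ := by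
    intro η hη hηθ hηχ
    by_contra hne
    have hc1 : classInner (fun t : T => indFun T ψ t) ψ₁ = 1 := by
      rw [← frobenius_reciprocity' T ψ₁ (irr_classFun hirr), h2, classInner_self_of_irr hirr]
    have hc : IsCharacter T (fun t : T => indFun T ψ t) := isChar_restrict T (irr_isChar hirr)
    have hA := isChar_sub_irr hc h1 (by rw [hc1]; exact one_ne_zero)
    have hA2 : classInner ((fun t : T => indFun T ψ t) - ψ₁) η ≠ 0 := by
      rw [classInner_sub_left, classInner_of_irr_ne h1 hη (Ne.symm hne), sub_zero]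
      exact hηχ
    have hB := isChar_sub_irr hA hη hA2
    let f : H →* T := Subgroup.inclusion hHT
    have hC := isChar_comp hB f
    obtain ⟨k, hk⟩ := classInner_char_nat hC (irr_isChar hθ)
    obtain ⟨m, hm⟩ := classInner_char_nat (isChar_comp (irr_isChar hη) f) (irr_isChar hθ)
    have e1 : (fun h : H => (((fun t : T => indFun T ψ t) - ψ₁) - η) (f h)) =
        ((fun h : H => indFun T ψ h) - (fun h : H => ψ₁ (f h))) - (fun h : H => η (f h)) := by
      funext h; rfl
    rw [e1, classInner_sub_left, classInner_sub_left, hm] at hk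
    have h3' : classInner (fun h : H => ψ₁ (f h)) θ = classInner (fun h : H => indFun T ψ h) θ := by
      exact h3
    rw [h3', sub_self, zero_sub] at hk
    have hm0 : (m : ℂ) ≠ 0 := by rw [← hm]; exact hηθ
    have : (k : ℂ) + m = 0 := by rw [← hk]; ring
    have h5 : k + m = 0 := by exact_mod_cast this
    exact hm0 (by rw [(Nat.add_eq_zero_iff.mp h5).2]; simp)
  apply hne
  rw [key ψ hψ hψθ (by rw [hc1]; exact one_ne_zero), key ψ' hψ' hψθ' (by rw [hc2]; exact one_ne_zero)]

end Cfsg.Agent.H11.PF
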