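import Cfsg.Agent.H11.PF10

/-!
PF section 3: cyclic TI-subsets: setup in `G`.
-/
set_option autoImplicit false

namespace Cfsg.Agent.H11.PF

open Cfsg Cfsg.Agent.H3 ComplexConjugate

universe u v

variable {G : Type u} [Group G] {W₁ W₂ : Subgroup G}

theorem sub_top : W₁.subgroupOf (W₁ ⊔ W₂) ⊔ W₂.subgroupOf (W₁ ⊔ W₂) = ⊤ := by
  rw [← Subgroup.subgroupOf_sup le_sup_left le_sup_right, Subgroup.subgroupOf_self]

theorem sub_inf (h : W₁ ⊓ W₂ = ⊥) : W₁.subgroupOf (W₁ ⊔ W₂) ⊓ W₂.subgroupOf (W₁ ⊔ W₂) = ⊥ := by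
  rw [eq_bot_iff]
  intro x hx
  rw [Subgroup.mem_inf, Subgroup.mem_subgroupOf, Subgroup.mem_subgroupOf] at hx
  have : (x : G) ∈ W₁ ⊓ W₂ := Subgroup.mem_inf.mpr hx
  rw [h, Subgroup.mem_bot] at this
  rw [Subgroup.mem_bot]
  exact Subtype.ext this

theorem isAnn_iff {K W : Subgroup G} {φ : W →* ℂˣ} :
    IsAnn (K.subgroupOf W) φ ↔ ∀ w : W, (w : G) ∈ K → φ w = 1 := by
  constructor
  · intro h w hw
    exact h w (Subgroup.mem_subgroupOf.mpr hw)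
  · intro h w hw
    exact h w (Subgroup.mem_subgroupOf.mp hw)

theorem mem_of_pow_cyclic {W : Type u} [Group W] [Finite W] [IsCyclic W] (U : Subgroup W) {w : W}
    (h : w ^ Nat.card U = 1) : w ∈ U := by
  classical
  haveI : Fintype W := Fintype.ofFinite W
  have h1 := IsCyclic.card_pow_eq_one_le (α := W) (n := Nat.card U) Nat.card_pos
  have h2 : (Finset.univ.filter (fun a : W => a ∈ U)) ⊆
      Finset.univ.filter (fun a : W => a ^ Nat.card U = 1) := by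
    intro a ha
    rw [Finset.mem_filter] at ha ⊢
    refine ⟨ha.1, ?_⟩
    have := pow_card_eq_one' (x := (⟨a, ha.2⟩ : U))
    exact congrArg Subtype.val this
  have h3 : (Finset.univ.filter (fun a : W => a ∈ U)).card = Nat.card U := by
    rw [Nat.card_eq_fintype_card, Fintype.card_subtype]
  have h4 := Finset.eq_of_subset_of_card_le h2 (by rw [h3]; exact h1)
  have h5 : w ∈ Finset.univ.filter (fun a : W => a ^ Nat.card U = 1) := by
    rw [Finset.mem_filter]; exact ⟨Finset.mem_univ _, h⟩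
  rw [← h4, Finset.mem_filter] at h5
  exact h5.2

/-- The TI property of `V = W \ (W₁ ∪ W₂)`. -/
theorem selfnorm_TI [Finite G] (hW : IsSelfNormalizingCyclic W₁ W₂) {g : G}
    {t : G} (htW : t ∈ W₁ ⊔ W₂) (ht₁ : t ∉ W₁) (ht₂ : t ∉ W₂) (hgW : g * t * g⁻¹ ∈ W₁ ⊔ W₂)
    (hg₁ : g * t * g⁻¹ ∉ W₁) (hg₂ : g * t * g⁻¹ ∉ W₂) : g ∈ W₁ ⊔ W₂ := by
  obtain ⟨h1, h2, hinf, hcomm, hcyc, hN⟩ := hW
  have hcent : ∀ s : G, s ∈ W₁ ⊔ W₂ → s ∉ W₁ → s ∉ W₂ → Subgroup.normalizer ({s} : Set G) = W₁ ⊔ W₂ := by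
    intro s hs hs1 hs2
    apply hN {s}
    · rintro x rfl
      exact ⟨hs, fun h => h.elim hs1 hs2⟩
    · exact ⟨s, rfl⟩
  have hmem : ∀ s x : G, x ∈ Subgroup.normalizer ({s} : Set G) ↔ x * s * x⁻¹ = s := by
    intro s x
    rw [Subgroup.mem_set_normalizer_iff]
    constructor
    · intro h
      exact (h s).mp rfl
    · intro h y
      rw [Set.mem_singleton_iff, Set.mem_singleton_iff]
      constructor
      · rintro rfl; exact h
      · intro h'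
        have h5 : x * y = s * x := by rw [← h']; group
        have h6 : x * s = s * x := by
          calc x * s = (x * s * x⁻¹) * x := by group
            _ = s * x := by rw [h]
        exact mul_left_cancel (h5.trans h6.symm)
  have e1 := hcent t htW ht₁ ht₂
  have e2 := hcent _ hgW hg₁ hg₂
  -- g normalizes W
  have hgn : ∀ x : G, x ∈ W₁ ⊔ W₂ → g * x * g⁻¹ ∈ W₁ ⊔ W₂ := by
    intro x hx
    rw [← e1, hmem] at hx
    rw [← e2, hmem]
    have : g * x * g⁻¹ * (g * t * g⁻¹) * (g * x * g⁻¹)⁻¹ = g * (x * t * x⁻¹) * g⁻¹ := by group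
    rw [this, hx]
  have hgn' : ∀ x : G, g * x * g⁻¹ ∈ W₁ ⊔ W₂ → x ∈ W₁ ⊔ W₂ := by
    intro x hx
    rw [← e2, hmem] at hx
    rw [← e1, hmem]
    have : x * t * x⁻¹ = g⁻¹ * (g * x * g⁻¹ * (g * t * g⁻¹) * (g * x * g⁻¹)⁻¹) * g := by group
    rw [this, hx]; group
  -- membership in subgroups of the cyclic group by exponent
  have key : ∀ K : Subgroup G, K ≤ W₁ ⊔ W₂ → ∀ x : G, x ∈ W₁ ⊔ W₂ → (x ∈ K ↔ g * x * g⁻¹ ∈ K) := by
    intro K hK x hx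
    have hc : ∀ y : G, y ∈ W₁ ⊔ W₂ → (y ∈ K ↔ y ^ Nat.card K = 1) := by
      intro y hy
      constructor
      · intro h
        have := pow_card_eq_one' (x := (⟨y, h⟩ : K))
        exact congrArg Subtype.val this
      · intro h
        have h3 : Nat.card (K.subgroupOf (W₁ ⊔ W₂)) = Nat.card K :=
          Nat.card_congr (Subgroup.subgroupOfEquivOfLe hK).toEquiv
        have h4 := mem_of_pow_cyclic (K.subgroupOf (W₁ ⊔ W₂)) (w := ⟨y, hy⟩) (by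
          rw [h3]; exact Subtype.ext h)
        exact Subgroup.mem_subgroupOf.mp h4
    rw [hc x hx, hc _ (hgn x hx), conj_pow]
    constructor
    · intro h; rw [h]; group
    · intro h
      have : x ^ Nat.card K = g⁻¹ * (g * x ^ Nat.card K * g⁻¹) * g := by group
      rw [this, h]; group
  have hV := hN ((↑(W₁ ⊔ W₂) : Set G) \ (↑W₁ ∪ ↑W₂)) (le_refl _) ⟨t, htW, fun h => h.elim ht₁ ht₂⟩
  rw [← hV, Subgroup.mem_set_normalizer_iff]
  intro x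
  constructor
  · rintro ⟨hx, hx2⟩
    refine ⟨hgn x hx, ?_⟩
    rintro (h | h)
    · exact hx2 (Or.inl ((key W₁ le_sup_left x hx).mpr h))
    · exact hx2 (Or.inr ((key W₂ le_sup_right x hx).mpr h))
  · rintro ⟨hx, hx2⟩
    have hx' := hgn' x hx
    refine ⟨hx', ?_⟩
    rintro (h | h)
    · exact hx2 (Or.inl ((key W₁ le_sup_left x hx').mp h))
    · exact hx2 (Or.inr ((key W₂ le_sup_right x hx').mp h))

theorem hom_eq_inv {W : Type u} [Group W] {φ ψ : W →* ℂˣ} (h : φ * ψ = 1) : φ = ψ⁻¹ := by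
  ext x
  have := congrArg (fun f : W →* ℂˣ => f x) h
  simp only [MonoidHom.mul_apply, MonoidHom.one_apply] at this
  have h2 : φ x = (ψ x)⁻¹ := eq_inv_of_mul_eq_one_left this
  rw [MonoidHom.inv_apply, h2]

/-- the function `(1-φ)(1-ψ)` -/
noncomputable def al {W : Type u} [Group W] (φ ψ : W →* ℂˣ) : W → ℂ :=
  fun w => 1 - (φ w : ℂ) - (ψ w : ℂ) + (φ w : ℂ) * (ψ w : ℂ)

theorem al_eq {W : Type u} [Group W] (φ ψ : W →* ℂˣ) :
    al φ ψ = hf 1 - hf φ - hf ψ + hf (φ * ψ) := by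
  funext w
  simp [al, hf]

theorem al_mul {W : Type u} [Group W] (φ ψ : W →* ℂˣ) (w : W) :
    al φ ψ w = (1 - (φ w : ℂ)) * (1 - (ψ w : ℂ)) := by
  rw [al]; ring

theorem al_zero {φ ψ : ↥(W₁ ⊔ W₂) →* ℂˣ} (hφ : IsAnn (W₂.subgroupOf (W₁ ⊔ W₂)) φ)
    (hψ : IsAnn (W₁.subgroupOf (W₁ ⊔ W₂)) ψ) (w : ↥(W₁ ⊔ W₂))
    (hw : (w : G) ∈ W₁ ∨ (w : G) ∈ W₂) : al φ ψ w = 0 := by
  rw [al_mul]
  rcases hw with h | h
  · rw [hψ w (Subgroup.mem_subgroupOf.mpr h)]; simp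
  · rw [hφ w (Subgroup.mem_subgroupOf.mpr h)]; simp

theorem inner_al {W : Type u} [Group W] [Fintype W] {U₁ U₂ : Subgroup W} (htop : U₁ ⊔ U₂ = ⊤)
    {φ φ' ψ ψ' : W →* ℂˣ} (hφ : IsAnn U₂ φ) (hφ' : IsAnn U₂ φ') (hψ : IsAnn U₁ ψ)
    (hψ' : IsAnn U₁ ψ') (h1 : φ ≠ 1) (h2 : ψ ≠ 1) (h3 : φ' ≠ 1) (h4 : ψ' ≠ 1) :
    classInner (al φ ψ) (al φ' ψ') =
      1 + (if φ = φ' then 1 else 0) + (if ψ = ψ' then 1 else 0) +
        (if φ = φ' then 1 else 0) * (if ψ = ψ' then 1 else 0) := by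
  classical
  -- a character in both annihilators is trivial
  have both : ∀ χ : W →* ℂˣ, IsAnn U₁ χ → IsAnn U₂ χ → χ = 1 := fun χ => ann_both htop
  have n1 : ∀ φ ψ : W →* ℂˣ, IsAnn U₂ φ → IsAnn U₁ ψ → φ ≠ 1 → φ ≠ ψ := by
    intro φ ψ ha hb hc h
    exact hc (both φ (h ▸ hb) ha)
  have n2 : ∀ φ ψ : W →* ℂˣ, IsAnn U₂ φ → IsAnn U₁ ψ → φ ≠ 1 → φ * ψ ≠ 1 := by
    intro φ ψ ha hb hc h
    have : φ = ψ⁻¹ := hom_eq_inv h
    exact n1 φ ψ⁻¹ ha hb.inv hc this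
  have n3 : ∀ φ ψ χ : W →* ℂˣ, IsAnn U₂ φ → IsAnn U₁ ψ → IsAnn U₂ χ → ψ ≠ 1 → φ * ψ ≠ χ := by
    intro φ ψ χ ha hb hc hd h
    have : ψ = φ⁻¹ * χ := by rw [← h]; ext x; simp
    exact hd (both ψ hb (this ▸ ha.inv.mul hc))
  have n4 : ∀ φ ψ χ : W →* ℂˣ, IsAnn U₂ φ → IsAnn U₁ ψ → IsAnn U₁ χ → φ ≠ 1 → φ * ψ ≠ χ := by
    intro φ ψ χ ha hb hc hd h
    have : φ = χ * ψ⁻¹ := by rw [← h]; ext x; simp
    exact hd (both φ (this ▸ hc.mul hb.inv) ha)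
  have n5 : φ * ψ = φ' * ψ' ↔ φ = φ' ∧ ψ = ψ' := by
    constructor
    · intro h
      have e1 : φ * φ'⁻¹ = ψ' * ψ⁻¹ := by
        ext x
        have := congrArg (fun f : W →* ℂˣ => f x) h
        simp only [MonoidHom.mul_apply] at this
        have h5 : φ x * (φ' x)⁻¹ = ψ' x * (ψ x)⁻¹ := by
          rw [mul_inv_eq_iff_eq_mul]
          calc φ x = (φ x * ψ x) * (ψ x)⁻¹ := by group
            _ = (φ' x * ψ' x) * (ψ x)⁻¹ := by rw [this]
            _ = _ := by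
              rw [mul_comm (φ' x), mul_assoc, mul_comm (φ' x), ← mul_assoc]
        exact congrArg Units.val h5
      have e2 := both (φ * φ'⁻¹) (e1 ▸ hψ'.mul hψ.inv) (hφ.mul hφ'.inv)
      have e3 : φ = φ' := by
        ext x
        have := congrArg (fun f : W →* ℂˣ => f x) e2
        simp only [MonoidHom.mul_apply, MonoidHom.inv_apply, MonoidHom.one_apply] at this
        rw [mul_inv_eq_one.mp this]
      refine ⟨e3, ?_⟩
      rw [e3] at h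
      ext x
      have := congrArg (fun f : W →* ℂˣ => f x) h
      simp only [MonoidHom.mul_apply] at this
      rw [mul_left_cancel this]
    · rintro ⟨rfl, rfl⟩; rfl
  rw [al_eq, al_eq]
  simp only [classInner_add_left, classInner_sub_left, classInner_add_right, classInner_sub_right,
    inner_hf]
  rw [if_true, if_neg (Ne.symm h3), if_neg (Ne.symm h4),
    if_neg (Ne.symm (n2 φ' ψ' hφ' hψ' h3)), if_neg h1, if_neg (n1 φ ψ' hφ hψ' h1),
    if_neg (Ne.symm (n3 φ' ψ' φ hφ' hψ' hφ h4)), if_neg h2, if_neg (Ne.symm (n1 φ' ψ hφ' hψ h3)),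
    if_neg (Ne.symm (n4 φ' ψ' ψ hφ' hψ' hψ h3)), if_neg (n2 φ ψ hφ hψ h1),
    if_neg (n3 φ ψ φ' hφ hψ hφ' h2), if_neg (n4 φ ψ ψ' hφ hψ hψ' h1)]
  by_cases ha : φ = φ' <;> by_cases hb : ψ = ψ' <;> simp [ha, hb, n5]
  all_goals norm_num

theorem inner_al_one {W : Type u} [Group W] [Fintype W] {U₁ U₂ : Subgroup W} (htop : U₁ ⊔ U₂ = ⊤)
    {φ ψ : W →* ℂˣ} (hφ : IsAnn U₂ φ) (hψ : IsAnn U₁ ψ) (h1 : φ ≠ 1) (h2 : ψ ≠ 1) :
    classInner (al φ ψ) (fun _ => 1) = 1 := by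
  classical
  have both : ∀ χ : W →* ℂˣ, IsAnn U₁ χ → IsAnn U₂ χ → χ = 1 := fun χ => ann_both htop
  have n2 : φ * ψ ≠ 1 := by
    intro h
    have : φ = ψ⁻¹ := hom_eq_inv h
    exact h1 (both φ (this ▸ hψ.inv) hφ)
  have e : (fun _ : W => (1 : ℂ)) = hf 1 := by funext w; simp [hf]
  rw [e, al_eq]
  simp only [classInner_add_left, classInner_sub_left, inner_hf]
  simp [h1, h2, n2]

end Cfsg.Agent.H11.PF
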