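import Cfsg.Agent.H11.PF11

/-!
PF section 3: cyclic TI-subsets: consequences of the existence of the family.
-/
set_option autoImplicit false

namespace Cfsg.Agent.H11.PF

open Cfsg Cfsg.Agent.H3 ComplexConjugate

universe u v

theorem conj_al {W : Type u} [Group W] [Finite W] (φ ψ : W →* ℂˣ) (w : W) :
    conj (al φ ψ w) = (1 - (φ w⁻¹ : ℂ)) * (1 - (ψ w⁻¹ : ℂ)) := by
  rw [al_mul, map_mul, map_sub, map_sub, map_one, conj_hf, conj_hf]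

theorem vanish_of_inner {W : Type u} [Group W] [Fintype W] (hc : ∀ a b : W, a * b = b * a)
    {U₁ U₂ : Subgroup W} (hinf : U₁ ⊓ U₂ = ⊥) (f : W → ℂ)
    (h : ∀ φ ψ : W →* ℂˣ, IsAnn U₂ φ → IsAnn U₁ ψ → classInner f (al φ ψ) = 0) {w₀ : W}
    (h1 : w₀ ∉ U₁) (h2 : w₀ ∉ U₂) : f w₀ = 0 := by
  classical
  haveI := finite_dual hc
  haveI : Fintype (W →* ℂˣ) := Fintype.ofFinite _
  have h3 := inversion hc hinf f h1 h2
  have h4 : ∀ φ ψ : W →* ℂˣ, IsAnn U₂ φ → IsAnn U₁ ψ →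
      ∑ w : W, f w * ((1 - (φ w⁻¹ : ℂ)) * (1 - (ψ w⁻¹ : ℂ))) = 0 := by
    intro φ ψ ha hb
    have h5 := h φ ψ ha hb
    rw [classInner] at h5
    have h6 : (Nat.card W : ℂ) ≠ 0 := by exact_mod_cast Nat.card_pos.ne'
    have h7 := (mul_eq_zero.mp h5).resolve_left (inv_ne_zero h6)
    rw [← h7]
    exact Finset.sum_congr rfl fun w _ => by rw [conj_al]
  have h5 : ∑ φ : W →* ℂˣ, ∑ ψ : W →* ℂˣ, (if IsAnn U₂ φ ∧ IsAnn U₁ ψ then (φ w₀ : ℂ) * (ψ w₀ : ℂ) *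
      ∑ w : W, f w * ((1 - (φ w⁻¹ : ℂ)) * (1 - (ψ w⁻¹ : ℂ))) else 0) = 0 := by
    refine Finset.sum_eq_zero fun φ _ => Finset.sum_eq_zero fun ψ _ => ?_
    split_ifs with hh
    · rw [h4 φ ψ hh.1 hh.2, mul_zero]
    · rfl
  rw [h5] at h3
  have h6 : (U₂.index : ℂ) ≠ 0 := by exact_mod_cast Subgroup.index_ne_zero_of_finite
  have h7 : (U₁.index : ℂ) ≠ 0 := by exact_mod_cast Subgroup.index_ne_zero_of_finite
  exact (mul_eq_zero.mp h3.symm).resolve_left (mul_ne_zero h6 h7)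

variable {G : Type u} [Group G] [Fintype G] {W₁ W₂ : Subgroup G}

theorem comm_of_selfnorm (hW : IsSelfNormalizingCyclic W₁ W₂) (a b : ↥(W₁ ⊔ W₂)) : a * b = b * a := by
  haveI : IsCyclic ↥(W₁ ⊔ W₂) := hW.2.2.2.2.1
  letI := IsCyclic.commGroup (α := ↥(W₁ ⊔ W₂))
  exact mul_comm a b

theorem ind_al_eq {χ : (↥(W₁ ⊔ W₂) →* ℂˣ) → (G → ℂ)} (hχ : IsCyclicTIFamily W₁ W₂ χ)
    {φ ψ : ↥(W₁ ⊔ W₂) →* ℂˣ} (hφ : IsAnn (W₂.subgroupOf (W₁ ⊔ W₂)) φ)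
    (hψ : IsAnn (W₁.subgroupOf (W₁ ⊔ W₂)) ψ) :
    indFun (W₁ ⊔ W₂) (al φ ψ) = χ 1 - χ φ - χ ψ + χ (φ * ψ) := by
  by_cases h1 : φ = 1
  · subst h1
    have : al (1 : ↥(W₁ ⊔ W₂) →* ℂˣ) ψ = 0 := by funext w; simp [al]
    have e : (1 : ↥(W₁ ⊔ W₂) →* ℂˣ) * ψ = ψ := by ext; simp
    rw [this, indFun_zero, e]
    simp
  by_cases h2 : ψ = 1
  · subst h2
    have : al φ (1 : ↥(W₁ ⊔ W₂) →* ℂˣ) = 0 := by funext w; simp [al]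
    have e : φ * (1 : ↥(W₁ ⊔ W₂) →* ℂˣ) = φ := by ext; simp
    rw [this, indFun_zero, e]
    simp
  have h3 := hχ.induced_eq φ ψ h1 h2 (isAnn_iff.mp hφ) (isAnn_iff.mp hψ)
  have h4 : indFun (W₁ ⊔ W₂) (al φ ψ) = fun g => 1 - χ φ g - χ ψ g + χ (φ * ψ) g := h3
  rw [h4, hχ.map_one]
  rfl

/-- S1503 -/
theorem vanish_of_orth (hW : IsSelfNormalizingCyclic W₁ W₂)
    {χ : (↥(W₁ ⊔ W₂) →* ℂˣ) → (G → ℂ)} (hχ : IsCyclicTIFamily W₁ W₂ χ) {θ : G → ℂ}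
    (hθ : IsClassFunction G θ) (horth : ∀ ω, classInner θ (χ ω) = 0) (w : ↥(W₁ ⊔ W₂))
    (hw₁ : (w : G) ∉ W₁) (hw₂ : (w : G) ∉ W₂) : θ w = 0 := by
  classical
  haveI : Fintype ↥(W₁ ⊔ W₂) := Fintype.ofFinite _
  refine vanish_of_inner (comm_of_selfnorm hW) (sub_inf hW.2.2.1) (fun w : ↥(W₁ ⊔ W₂) => θ w)
    ?_ (w₀ := w) (fun h => hw₁ (Subgroup.mem_subgroupOf.mp h))
    (fun h => hw₂ (Subgroup.mem_subgroupOf.mp h))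
  intro φ ψ hφ hψ
  rw [← frobenius_reciprocity' (W₁ ⊔ W₂) (al φ ψ) hθ, ind_al_eq hχ hφ hψ]
  simp only [classInner_add_right, classInner_sub_right, horth]
  ring

theorem inner_ind_al_of_vanish {θ : G → ℂ} (hθ : IsClassFunction G θ)
    (hθV : ∀ w : ↥(W₁ ⊔ W₂), (w : G) ∉ W₁ → (w : G) ∉ W₂ → θ w = 0)
    {φ ψ : ↥(W₁ ⊔ W₂) →* ℂˣ} (hφ : IsAnn (W₂.subgroupOf (W₁ ⊔ W₂)) φ)
    (hψ : IsAnn (W₁.subgroupOf (W₁ ⊔ W₂)) ψ) :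
    classInner θ (indFun (W₁ ⊔ W₂) (al φ ψ)) = 0 := by
  classical
  haveI : Fintype ↥(W₁ ⊔ W₂) := Fintype.ofFinite _
  rw [frobenius_reciprocity' (W₁ ⊔ W₂) (al φ ψ) hθ, classInner]
  rw [Finset.sum_eq_zero, mul_zero]
  intro w _
  by_cases h1 : (w : G) ∈ W₁
  · rw [al_zero hφ hψ w (Or.inl h1)]; simp
  · by_cases h2 : (w : G) ∈ W₂
    · rw [al_zero hφ hψ w (Or.inr h2)]; simp
    · rw [hθV w h1 h2]; simp

theorem additive_of_vanish {χ : (↥(W₁ ⊔ W₂) →* ℂˣ) → (G → ℂ)} (hχ : IsCyclicTIFamily W₁ W₂ χ)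
    {θ : G → ℂ} (hθ : IsClassFunction G θ)
    (hθV : ∀ w : ↥(W₁ ⊔ W₂), (w : G) ∉ W₁ → (w : G) ∉ W₂ → θ w = 0)
    {φ ψ : ↥(W₁ ⊔ W₂) →* ℂˣ} (hφ : IsAnn (W₂.subgroupOf (W₁ ⊔ W₂)) φ)
    (hψ : IsAnn (W₁.subgroupOf (W₁ ⊔ W₂)) ψ) :
    classInner θ (χ (φ * ψ)) =
      classInner θ (χ φ) + classInner θ (χ ψ) - classInner θ (χ 1) := by
  have h1 := inner_ind_al_of_vanish hθ hθV hφ hψ
  rw [ind_al_eq hχ hφ hψ] at h1
  simp only [classInner_add_right, classInner_sub_right] at h1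
  linear_combination h1

/-- S1505 -/
theorem inner_ind_al (hW : IsSelfNormalizingCyclic W₁ W₂) [Fintype ↥(W₁ ⊔ W₂)]
    {φ φ' ψ ψ' : ↥(W₁ ⊔ W₂) →* ℂˣ} (hφ : IsAnn (W₂.subgroupOf (W₁ ⊔ W₂)) φ)
    (hψ : IsAnn (W₁.subgroupOf (W₁ ⊔ W₂)) ψ) (hφ' : IsAnn (W₂.subgroupOf (W₁ ⊔ W₂)) φ')
    (hψ' : IsAnn (W₁.subgroupOf (W₁ ⊔ W₂)) ψ') :
    classInner (indFun (W₁ ⊔ W₂) (al φ ψ)) (indFun (W₁ ⊔ W₂) (al φ' ψ')) =
      classInner (al φ ψ) (al φ' ψ') := by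
  refine classInner_indFun_of_TI (W₁ ⊔ W₂) {t : G | t ∈ W₁ ⊔ W₂ ∧ t ∉ W₁ ∧ t ∉ W₂} ?_ _ _ ?_ ?_ ?_ ?_
  · intro g hg t ht hgt
    exact absurd (selfnorm_TI hW ht.1 ht.2.1 ht.2.2 hgt.1 hgt.2.1 hgt.2.2) hg
  · intro a b
    rw [comm_of_selfnorm hW b a, mul_inv_cancel_right]
  · intro x hx
    refine al_zero hφ hψ x ?_
    by_contra h
    push Not at h
    exact hx ⟨x.2, h.1, h.2⟩
  · intro x hx
    refine al_zero hφ' hψ' x ?_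
    by_contra h
    push Not at h
    exact hx ⟨x.2, h.1, h.2⟩
  · exact al_zero hφ hψ 1 (Or.inl W₁.one_mem)

theorem inner_ind_al_one [Fintype ↥(W₁ ⊔ W₂)]
    {φ ψ : ↥(W₁ ⊔ W₂) →* ℂˣ} (hφ : IsAnn (W₂.subgroupOf (W₁ ⊔ W₂)) φ)
    (hψ : IsAnn (W₁.subgroupOf (W₁ ⊔ W₂)) ψ) (h1 : φ ≠ 1) (h2 : ψ ≠ 1) :
    classInner (indFun (W₁ ⊔ W₂) (al φ ψ)) (fun _ => 1) = 1 := by
  rw [frobenius_reciprocity (W₁ ⊔ W₂) (al φ ψ) (classFun_const 1)]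
  exact inner_al_one sub_top hφ hψ h1 h2

omit [Fintype G] in
theorem inner_al_top {W : Type v} [Group W] [Fintype W] {U₁ U₂ : Subgroup W} (htop : U₁ ⊔ U₂ = ⊤)
    {φ φ' ψ ψ' : W →* ℂˣ} (hφ : IsAnn U₂ φ) (hφ' : IsAnn U₂ φ') (hψ : IsAnn U₁ ψ)
    (hψ' : IsAnn U₁ ψ') (h3 : φ' ≠ 1) (h4 : ψ' ≠ 1) :
    classInner (al φ ψ) (hf (φ' * ψ')) = if φ = φ' ∧ ψ = ψ' then 1 else 0 := by
  classical
  have both : ∀ χ : W →* ℂˣ, IsAnn U₁ χ → IsAnn U₂ χ → χ = 1 := fun χ => ann_both htop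
  have n2 : φ' * ψ' ≠ 1 := by
    intro h
    have : φ' = ψ'⁻¹ := hom_eq_inv h
    exact h3 (both φ' (this ▸ hψ'.inv) hφ')
  have n3 : φ' * ψ' ≠ φ := by
    intro h
    have : ψ' = φ'⁻¹ * φ := by rw [← h]; ext x; simp
    exact h4 (both ψ' hψ' (this ▸ hφ'.inv.mul hφ))
  have n4 : φ' * ψ' ≠ ψ := by
    intro h
    have : φ' = ψ * ψ'⁻¹ := by rw [← h]; ext x; simp
    exact h3 (both φ' (this ▸ hψ.mul hψ'.inv) hφ')
  have n5 : φ * ψ = φ' * ψ' ↔ φ = φ' ∧ ψ = ψ' := by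
    constructor
    · intro h
      have e1 : φ * φ'⁻¹ = ψ' * ψ⁻¹ := by
        ext x
        have := congrArg (fun f : W →* ℂˣ => f x) h
        simp only [MonoidHom.mul_apply] at this
        have h5 : φ x * (φ' x)⁻¹ = ψ' x * (ψ x)⁻¹ := by
          rw [mul_inv_eq_iff_eq_mul]
          calc φ x = (φ x * ψ x) * (ψ x)⁻¹ := by group
            _ = (φ' x * ψ' x) * (ψ x)⁻¹ := by rw [this]
            _ = _ := by
              rw [mul_comm (φ' x), mul_assoc, mul_comm (φ' x), ← mul_assoc]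
        exact congrArg Units.val h5
      have e2 := both (φ * φ'⁻¹) (e1 ▸ hψ'.mul hψ.inv) (hφ.mul hφ'.inv)
      have e3 : φ = φ' := by
        ext x
        have := congrArg (fun f : W →* ℂˣ => f x) e2
        simp only [MonoidHom.mul_apply, MonoidHom.inv_apply, MonoidHom.one_apply] at this
        rw [mul_inv_eq_one.mp this]
      refine ⟨e3, ?_⟩
      rw [e3] at h
      ext x
      have := congrArg (fun f : W →* ℂˣ => f x) h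
      simp only [MonoidHom.mul_apply] at this
      rw [mul_left_cancel this]
    · rintro ⟨rfl, rfl⟩; rfl
  rw [al_eq]
  simp only [classInner_add_left, classInner_sub_left, inner_hf]
  simp only [if_neg (Ne.symm n2), if_neg (Ne.symm n3), if_neg (Ne.symm n4), n5]
  by_cases h : φ = φ' ∧ ψ = ψ' <;> simp [h]

end Cfsg.Agent.H11.PF
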