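import Mathlib

/-!
PF section 3: combinatorics of the cyclic TI isometry.
-/
set_option autoImplicit false

namespace Cfsg.Agent.H11.PF

/-- pair condition after restricting to seven points -/
def PairOK (q r : Fin 7 → ℤ) : Prop :=
  (∀ i, 0 ≤ q i * r i) ∧ ((∑ i, q i * q i = 3 ∨ ∑ i, r i * r i = 3) → ∑ i, q i * r i = 1)

instance (q r : Fin 7 → ℤ) : Decidable (PairOK q r) := by unfold PairOK; infer_instance

theorem PairOK.symm {q r : Fin 7 → ℤ} (h : PairOK q r) : PairOK r q := by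
  refine ⟨fun i => by rw [mul_comm]; exact h.1 i, fun h' => ?_⟩
  rw [← h.2 h'.symm]
  exact Finset.sum_congr rfl fun i _ => mul_comm _ _

def LineC (q : Fin 7 → ℤ) (c1 c2 c3 cc : ℤ) : Prop :=
  q 0 + q 1 + q 4 = c1 ∧ q 0 + q 2 + q 5 = c2 ∧ q 0 + q 3 + q 6 = c3 ∧ q 1 + q 2 + q 3 = cc

theorem sum7 (q : Fin 7 → ℤ) :
    ∑ i, q i * q i = q 0 * q 0 + q 1 * q 1 + q 2 * q 2 + q 3 * q 3 + q 4 * q 4 + q 5 * q 5 +
      q 6 * q 6 := by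
  simp [Fin.sum_univ_succ]
  ring

theorem bd {a : ℤ} (h : a * a ≤ 3) : -1 ≤ a ∧ a ≤ 1 := by
  constructor <;> nlinarith

theorem bounds {q : Fin 7 → ℤ} (h : ∑ i, q i * q i ≤ 3) (i : Fin 7) : -1 ≤ q i ∧ q i ≤ 1 := by
  apply bd
  refine le_trans ?_ h
  exact Finset.single_le_sum (f := fun i => q i * q i) (fun i _ => mul_self_nonneg _)
    (Finset.mem_univ i)

theorem eq_vec {q : Fin 7 → ℤ} {a b c d e f g : ℤ} (h0 : q 0 = a) (h1 : q 1 = b) (h2 : q 2 = c)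
    (h3 : q 3 = d) (h4 : q 4 = e) (h5 : q 5 = f) (h6 : q 6 = g) :
    q = ![a, b, c, d, e, f, g] := by
  funext i
  fin_cases i <;> simp [*]

theorem optc {q : Fin 7 → ℤ} (h : ∑ i, q i * q i ≤ 3) (hl : LineC q 0 0 0 1)
    (h1 : 0 ≤ q 1) (h2 : 0 ≤ q 2) (h3 : 0 ≤ q 3) :
    q = ![0,1,0,0,-1,0,0] ∨ q = ![0,0,1,0,0,-1,0] ∨ q = ![0,0,0,1,0,0,-1] := by
  obtain ⟨l1, l2, l3, l4⟩ := hl
  have b0 := bounds h 0
  have b1 := bounds h 1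
  have b2 := bounds h 2
  have b3 := bounds h 3
  have b4 := bounds h 4
  have b5 := bounds h 5
  have b6 := bounds h 6
  rw [sum7] at h
  have e4 : q 4 = - q 0 - q 1 := by omega
  have e5 : q 5 = - q 0 - q 2 := by omega
  have e6 : q 6 = - q 0 - q 3 := by omega
  have e3 : q 3 = 1 - q 1 - q 2 := by omega
  have c0 : q 0 = -1 ∨ q 0 = 0 ∨ q 0 = 1 := by omega
  have c1 : q 1 = 0 ∨ q 1 = 1 := by omega
  have c2 : q 2 = 0 ∨ q 2 = 1 := by omega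
  rcases c0 with c0 | c0 | c0 <;> rcases c1 with c1 | c1 <;> rcases c2 with c2 | c2 <;>
    rw [c1, c2] at e3 <;> rw [c0, c1] at e4 <;> rw [c0, c2] at e5 <;> rw [c0, e3] at e6 <;>
    norm_num at e3 e4 e5 e6 <;>
    rw [c0, c1, c2, e3, e4, e5, e6] at h <;> norm_num at h
  all_goals first
    | (exfalso; omega)
    | exact Or.inl (eq_vec c0 c1 c2 e3 e4 e5 e6)
    | exact Or.inr (Or.inl (eq_vec c0 c1 c2 e3 e4 e5 e6))
    | exact Or.inr (Or.inr (eq_vec c0 c1 c2 e3 e4 e5 e6))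

theorem opt1 {q : Fin 7 → ℤ} (h : ∑ i, q i * q i ≤ 3) (hl : LineC q 1 0 0 0)
    (h1 : 0 ≤ q 0) (h2 : 0 ≤ q 1) (h3 : 0 ≤ q 4) :
    q = ![0,0,0,0,1,0,0] ∨ q = ![0,1,-1,0,0,1,0] ∨ q = ![0,1,0,-1,0,0,1] ∨
      q = ![1,0,0,0,0,-1,-1] := by
  obtain ⟨l1, l2, l3, l4⟩ := hl
  have b0 := bounds h 0
  have b1 := bounds h 1
  have b2 := bounds h 2
  have b3 := bounds h 3
  have b4 := bounds h 4
  have b5 := bounds h 5
  have b6 := bounds h 6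
  rw [sum7] at h
  have e4 : q 4 = 1 - q 0 - q 1 := by omega
  have e5 : q 5 = - q 0 - q 2 := by omega
  have e6 : q 6 = - q 0 - q 3 := by omega
  have e3 : q 3 = - q 1 - q 2 := by omega
  have c0 : q 0 = 0 ∨ q 0 = 1 := by omega
  have c1 : q 1 = 0 ∨ q 1 = 1 := by omega
  have c2 : q 2 = -1 ∨ q 2 = 0 ∨ q 2 = 1 := by omega
  rcases c0 with c0 | c0 <;> rcases c1 with c1 | c1 <;> rcases c2 with c2 | c2 | c2 <;>
    rw [c1, c2] at e3 <;> rw [c0, c1] at e4 <;> rw [c0, c2] at e5 <;> rw [c0, e3] at e6 <;>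
    norm_num at e3 e4 e5 e6 <;>
    rw [c0, c1, c2, e3, e4, e5, e6] at h <;> norm_num at h
  all_goals first
    | (exfalso; omega)
    | exact Or.inl (eq_vec c0 c1 c2 e3 e4 e5 e6)
    | exact Or.inr (Or.inl (eq_vec c0 c1 c2 e3 e4 e5 e6))
    | exact Or.inr (Or.inr (Or.inl (eq_vec c0 c1 c2 e3 e4 e5 e6)))
    | exact Or.inr (Or.inr (Or.inr (eq_vec c0 c1 c2 e3 e4 e5 e6)))

theorem opt2 {q : Fin 7 → ℤ} (h : ∑ i, q i * q i ≤ 3) (hl : LineC q 0 1 0 0)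
    (h1 : 0 ≤ q 0) (h2 : 0 ≤ q 2) (h3 : 0 ≤ q 5) :
    q = ![0,0,0,0,0,1,0] ∨ q = ![0,-1,1,0,1,0,0] ∨ q = ![0,0,1,-1,0,0,1] ∨
      q = ![1,0,0,0,-1,0,-1] := by
  obtain ⟨l1, l2, l3, l4⟩ := hl
  have b0 := bounds h 0
  have b1 := bounds h 1
  have b2 := bounds h 2
  have b3 := bounds h 3
  have b4 := bounds h 4
  have b5 := bounds h 5
  have b6 := bounds h 6
  rw [sum7] at h
  have e4 : q 4 = - q 0 - q 1 := by omega
  have e5 : q 5 = 1 - q 0 - q 2 := by omega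
  have e6 : q 6 = - q 0 - q 3 := by omega
  have e3 : q 3 = - q 1 - q 2 := by omega
  have c0 : q 0 = 0 ∨ q 0 = 1 := by omega
  have c1 : q 1 = -1 ∨ q 1 = 0 ∨ q 1 = 1 := by omega
  have c2 : q 2 = 0 ∨ q 2 = 1 := by omega
  rcases c0 with c0 | c0 <;> rcases c1 with c1 | c1 | c1 <;> rcases c2 with c2 | c2 <;>
    rw [c1, c2] at e3 <;> rw [c0, c1] at e4 <;> rw [c0, c2] at e5 <;> rw [c0, e3] at e6 <;>
    norm_num at e3 e4 e5 e6 <;>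
    rw [c0, c1, c2, e3, e4, e5, e6] at h <;> norm_num at h
  all_goals first
    | (exfalso; omega)
    | exact Or.inl (eq_vec c0 c1 c2 e3 e4 e5 e6)
    | exact Or.inr (Or.inl (eq_vec c0 c1 c2 e3 e4 e5 e6))
    | exact Or.inr (Or.inr (Or.inl (eq_vec c0 c1 c2 e3 e4 e5 e6)))
    | exact Or.inr (Or.inr (Or.inr (eq_vec c0 c1 c2 e3 e4 e5 e6)))

theorem opt3 {q : Fin 7 → ℤ} (h : ∑ i, q i * q i ≤ 3) (hl : LineC q 0 0 1 0)
    (h1 : 0 ≤ q 0) (h2 : 0 ≤ q 3) (h3 : 0 ≤ q 6) :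
    q = ![0,0,0,0,0,0,1] ∨ q = ![0,-1,0,1,1,0,0] ∨ q = ![0,0,-1,1,0,1,0] ∨
      q = ![1,0,0,0,-1,-1,0] := by
  obtain ⟨l1, l2, l3, l4⟩ := hl
  have b0 := bounds h 0
  have b1 := bounds h 1
  have b2 := bounds h 2
  have b3 := bounds h 3
  have b4 := bounds h 4
  have b5 := bounds h 5
  have b6 := bounds h 6
  rw [sum7] at h
  have e4 : q 4 = - q 0 - q 1 := by omega
  have e5 : q 5 = - q 0 - q 2 := by omega
  have e6 : q 6 = 1 - q 0 - q 3 := by omega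
  have e3 : q 3 = - q 1 - q 2 := by omega
  have c0 : q 0 = 0 ∨ q 0 = 1 := by omega
  have c1 : q 1 = -1 ∨ q 1 = 0 ∨ q 1 = 1 := by omega
  have c2 : q 2 = -1 ∨ q 2 = 0 ∨ q 2 = 1 := by omega
  rcases c0 with c0 | c0 <;> rcases c1 with c1 | c1 | c1 <;> rcases c2 with c2 | c2 | c2 <;>
    rw [c1, c2] at e3 <;> rw [c0, c1] at e4 <;> rw [c0, c2] at e5 <;> rw [c0, e3] at e6 <;>
    norm_num at e3 e4 e5 e6 <;>
    rw [c0, c1, c2, e3, e4, e5, e6] at h <;> norm_num at h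
  all_goals first
    | (exfalso; omega)
    | exact Or.inl (eq_vec c0 c1 c2 e3 e4 e5 e6)
    | exact Or.inr (Or.inl (eq_vec c0 c1 c2 e3 e4 e5 e6))
    | exact Or.inr (Or.inr (Or.inl (eq_vec c0 c1 c2 e3 e4 e5 e6)))
    | exact Or.inr (Or.inr (Or.inr (eq_vec c0 c1 c2 e3 e4 e5 e6)))

theorem core7 {q1 q2 q3 qc : Fin 7 → ℤ} (n1 : ∑ i, q1 i * q1 i ≤ 3) (n2 : ∑ i, q2 i * q2 i ≤ 3)
    (n3 : ∑ i, q3 i * q3 i ≤ 3) (nc : ∑ i, qc i * qc i ≤ 3)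
    (l1 : LineC q1 1 0 0 0) (l2 : LineC q2 0 1 0 0) (l3 : LineC q3 0 0 1 0) (lc : LineC qc 0 0 0 1)
    (s1 : 0 ≤ q1 0 ∧ 0 ≤ q1 1 ∧ 0 ≤ q1 4) (s2 : 0 ≤ q2 0 ∧ 0 ≤ q2 2 ∧ 0 ≤ q2 5)
    (s3 : 0 ≤ q3 0 ∧ 0 ≤ q3 3 ∧ 0 ≤ q3 6) (sc : 0 ≤ qc 1 ∧ 0 ≤ qc 2 ∧ 0 ≤ qc 3)
    (p1c : PairOK q1 qc) (p2c : PairOK q2 qc) (p3c : PairOK q3 qc)
    (p12 : PairOK q1 q2) (p13 : PairOK q1 q3) (p23 : PairOK q2 q3) : False := by
  rcases optc nc lc sc.1 sc.2.1 sc.2.2 with rfl | rfl | rfl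
  · rcases opt1 n1 l1 s1.1 s1.2.1 s1.2.2 with rfl | rfl | rfl | rfl
    · exact absurd p1c (by decide)
    · rcases opt3 n3 l3 s3.1 s3.2.1 s3.2.2 with rfl | rfl | rfl | rfl <;>
        exact absurd p13 (by decide)
    · rcases opt2 n2 l2 s2.1 s2.2.1 s2.2.2 with rfl | rfl | rfl | rfl <;>
        exact absurd p12 (by decide)
    · exact absurd p1c (by decide)
  · rcases opt2 n2 l2 s2.1 s2.2.1 s2.2.2 with rfl | rfl | rfl | rfl
    · exact absurd p2c (by decide)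
    · rcases opt3 n3 l3 s3.1 s3.2.1 s3.2.2 with rfl | rfl | rfl | rfl <;>
        exact absurd p23 (by decide)
    · rcases opt1 n1 l1 s1.1 s1.2.1 s1.2.2 with rfl | rfl | rfl | rfl <;>
        exact absurd p12 (by decide)
    · exact absurd p2c (by decide)
  · rcases opt3 n3 l3 s3.1 s3.2.1 s3.2.2 with rfl | rfl | rfl | rfl
    · exact absurd p3c (by decide)
    · rcases opt2 n2 l2 s2.1 s2.2.1 s2.2.2 with rfl | rfl | rfl | rfl <;>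
        exact absurd p23 (by decide)
    · rcases opt1 n1 l1 s1.1 s1.2.1 s1.2.2 with rfl | rfl | rfl | rfl <;>
        exact absurd p13 (by decide)
    · exact absurd p3c (by decide)

end Cfsg.Agent.H11.PF
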