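import Cfsg.Agent.H11.PF13

/-!
PF section 3: combinatorics of the cyclic TI isometry: rows are sunflowers.
-/
set_option autoImplicit false

namespace Cfsg.Agent.H11.PF

universe u

variable {ι : Type u} [Fintype ι] [DecidableEq ι]

theorem sum_p_le {p : Fin 7 → ι} (hp : Function.Injective p) (Q : ι → ℤ) :
    ∑ i, Q (p i) * Q (p i) ≤ ∑ e, Q e * Q e := by
  have h1 : ∑ i, Q (p i) * Q (p i) = ∑ e ∈ Finset.univ.image p, Q e * Q e := by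
    rw [Finset.sum_image (fun a _ b _ h => hp h)]
  rw [h1]
  exact Finset.sum_le_sum_of_subset_of_nonneg (Finset.subset_univ _)
    (fun _ _ _ => mul_self_nonneg _)

theorem zero_off {p : Fin 7 → ι} (hp : Function.Injective p) (Q : ι → ℤ)
    (h : ∑ i, Q (p i) * Q (p i) = ∑ e, Q e * Q e) (e : ι) (he : ∀ i, p i ≠ e) : Q e = 0 := by
  have h1 : ∑ i, Q (p i) * Q (p i) = ∑ e ∈ Finset.univ.image p, Q e * Q e := by
    rw [Finset.sum_image (fun a _ b _ h => hp h)]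
  have hmem : e ∉ Finset.univ.image p := by
    rw [Finset.mem_image]
    rintro ⟨i, -, hi⟩
    exact he i hi
  have h2 : ∑ e ∈ Finset.univ.image p, Q e * Q e + Q e * Q e ≤ ∑ e, Q e * Q e := by
    have h3 := Finset.sum_insert (f := fun e => Q e * Q e) hmem
    have h4 : ∑ x ∈ insert e (Finset.univ.image p), Q x * Q x ≤ ∑ e, Q e * Q e :=
      Finset.sum_le_sum_of_subset_of_nonneg (Finset.subset_univ _)
        (fun _ _ _ => mul_self_nonneg _)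
    rw [h3] at h4
    linarith
  have h5 : Q e * Q e ≤ 0 := by linarith
  have h6 : Q e * Q e = 0 := le_antisymm h5 (mul_self_nonneg _)
  exact mul_self_eq_zero.mp h6

theorem pairOK_of {p : Fin 7 → ι} (hp : Function.Injective p) {Q R : ι → ℤ}
    (hQ : ∑ e, Q e * Q e = 3) (hR : ∑ e, R e * R e = 3) (hpos : ∀ e, 0 ≤ Q e * R e)
    (h1 : ∑ e, Q e * R e = 1) : PairOK (fun i => Q (p i)) (fun i => R (p i)) := by
  refine ⟨fun i => hpos (p i), ?_⟩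
  have key : (∀ e, (∀ i, p i ≠ e) → Q e * R e = 0) → ∑ i, Q (p i) * R (p i) = 1 := by
    intro h
    rw [← h1]
    have h2 : ∑ i, Q (p i) * R (p i) = ∑ e ∈ Finset.univ.image p, Q e * R e := by
      rw [Finset.sum_image (fun a _ b _ h => hp h)]
    rw [h2]
    refine Finset.sum_subset (Finset.subset_univ _) fun e _ he => h e fun i hi => ?_
    exact he (Finset.mem_image.mpr ⟨i, Finset.mem_univ i, hi⟩)
  rintro (h | h)
  · apply key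
    intro e he
    rw [zero_off hp Q (h.trans hQ.symm) e he, zero_mul]
  · apply key
    intro e he
    rw [zero_off hp R (h.trans hR.symm) e he, mul_zero]

theorem core {p : Fin 7 → ι} (hp : Function.Injective p) {Q1 Q2 Q3 Qc : ι → ℤ}
    (n1 : ∑ e, Q1 e * Q1 e = 3) (n2 : ∑ e, Q2 e * Q2 e = 3) (n3 : ∑ e, Q3 e * Q3 e = 3)
    (nc : ∑ e, Qc e * Qc e = 3)
    (l1 : LineC (fun i => Q1 (p i)) 1 0 0 0) (l2 : LineC (fun i => Q2 (p i)) 0 1 0 0)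
    (l3 : LineC (fun i => Q3 (p i)) 0 0 1 0) (lc : LineC (fun i => Qc (p i)) 0 0 0 1)
    (s1 : 0 ≤ Q1 (p 0) ∧ 0 ≤ Q1 (p 1) ∧ 0 ≤ Q1 (p 4))
    (s2 : 0 ≤ Q2 (p 0) ∧ 0 ≤ Q2 (p 2) ∧ 0 ≤ Q2 (p 5))
    (s3 : 0 ≤ Q3 (p 0) ∧ 0 ≤ Q3 (p 3) ∧ 0 ≤ Q3 (p 6))
    (sc : 0 ≤ Qc (p 1) ∧ 0 ≤ Qc (p 2) ∧ 0 ≤ Qc (p 3))
    (p1c : (∀ e, 0 ≤ Q1 e * Qc e) ∧ ∑ e, Q1 e * Qc e = 1)
    (p2c : (∀ e, 0 ≤ Q2 e * Qc e) ∧ ∑ e, Q2 e * Qc e = 1)
    (p3c : (∀ e, 0 ≤ Q3 e * Qc e) ∧ ∑ e, Q3 e * Qc e = 1)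
    (p12 : (∀ e, 0 ≤ Q1 e * Q2 e) ∧ ∑ e, Q1 e * Q2 e = 1)
    (p13 : (∀ e, 0 ≤ Q1 e * Q3 e) ∧ ∑ e, Q1 e * Q3 e = 1)
    (p23 : (∀ e, 0 ≤ Q2 e * Q3 e) ∧ ∑ e, Q2 e * Q3 e = 1) : False :=
  core7 (q1 := fun i => Q1 (p i)) (q2 := fun i => Q2 (p i)) (q3 := fun i => Q3 (p i))
    (qc := fun i => Qc (p i))
    ((sum_p_le hp Q1).trans n1.le) ((sum_p_le hp Q2).trans n2.le) ((sum_p_le hp Q3).trans n3.le)
    ((sum_p_le hp Qc).trans nc.le) l1 l2 l3 lc s1 s2 s3 sc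
    (pairOK_of hp n1 nc p1c.1 p1c.2) (pairOK_of hp n2 nc p2c.1 p2c.2)
    (pairOK_of hp n3 nc p3c.1 p3c.2) (pairOK_of hp n1 n2 p12.1 p12.2)
    (pairOK_of hp n1 n3 p13.1 p13.2) (pairOK_of hp n2 n3 p23.1 p23.2)

omit [Fintype ι] in
theorem three_of {S : Finset ι} (hS : S.card = 3) {x y : ι} (hx : x ∈ S) (hy : y ∈ S) (hxy : x ≠ y) :
    ∃ a, a ≠ x ∧ a ≠ y ∧ S = {x, y, a} := by
  have h1 : ((S.erase x).erase y).card = 1 := by
    rw [Finset.card_erase_of_mem (Finset.mem_erase.mpr ⟨hxy.symm, hy⟩), Finset.card_erase_of_mem hx,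
      hS]
  obtain ⟨a, ha⟩ := Finset.card_eq_one.mp h1
  have ha' : a ∈ (S.erase x).erase y := by rw [ha]; exact Finset.mem_singleton_self a
  rw [Finset.mem_erase, Finset.mem_erase] at ha'
  refine ⟨a, ha'.2.1, ha'.1, ?_⟩
  ext z
  constructor
  · intro hz
    by_cases h2 : z = x
    · simp [h2]
    by_cases h3 : z = y
    · simp [h3]
    have : z ∈ (S.erase x).erase y := by
      rw [Finset.mem_erase, Finset.mem_erase]; exact ⟨h3, h2, hz⟩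
    rw [ha, Finset.mem_singleton] at this
    simp [this]
  · intro hz
    simp only [Finset.mem_insert, Finset.mem_singleton] at hz
    rcases hz with rfl | rfl | rfl
    · exact hx
    · exact hy
    · exact ha'.2.2

omit [Fintype ι] in
theorem sum_three {x y a : ι} (hxy : x ≠ y) (hax : a ≠ x) (hay : a ≠ y) (f : ι → ℤ) :
    ∑ e ∈ ({x, y, a} : Finset ι), f e = f x + f y + f a := by
  rw [Finset.sum_insert, Finset.sum_insert, Finset.sum_singleton]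
  · ring
  · rw [Finset.mem_singleton]; exact hay.symm
  · rw [Finset.mem_insert, Finset.mem_singleton]
    rintro (h | h)
    · exact hxy h
    · exact hax h.symm

omit [Fintype ι] in
theorem inj7 {a b c d e f g : ι} (h1 : a ≠ b) (h2 : a ≠ c) (h3 : a ≠ d) (h4 : a ≠ e) (h5 : a ≠ f)
    (h6 : a ≠ g) (h7 : b ≠ c) (h8 : b ≠ d) (h9 : b ≠ e) (h10 : b ≠ f) (h11 : b ≠ g)
    (h12 : c ≠ d) (h13 : c ≠ e) (h14 : c ≠ f) (h15 : c ≠ g) (h16 : d ≠ e) (h17 : d ≠ f)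
    (h18 : d ≠ g) (h19 : e ≠ f) (h20 : e ≠ g) (h21 : f ≠ g) :
    Function.Injective (![a, b, c, d, e, f, g] : Fin 7 → ι) := by
  intro i j h
  fin_cases i <;> fin_cases j <;> simp at h ⊢ <;>
    first | exact absurd h (by assumption) | exact absurd h.symm (by assumption)

theorem hub {x y1 y2 y3 t1 t2 t3 : ι}
    (inj : Function.Injective (![x, y1, y2, y3, t1, t2, t3] : Fin 7 → ι)) {Q1 Q2 Q3 Qc : ι → ℤ}
    (n1 : ∑ e, Q1 e * Q1 e = 3) (n2 : ∑ e, Q2 e * Q2 e = 3) (n3 : ∑ e, Q3 e * Q3 e = 3)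
    (nc : ∑ e, Qc e * Qc e = 3)
    (l1 : Q1 x + Q1 y1 + Q1 t1 = 1 ∧ Q1 x + Q1 y2 + Q1 t2 = 0 ∧ Q1 x + Q1 y3 + Q1 t3 = 0 ∧
      Q1 y1 + Q1 y2 + Q1 y3 = 0)
    (l2 : Q2 x + Q2 y1 + Q2 t1 = 0 ∧ Q2 x + Q2 y2 + Q2 t2 = 1 ∧ Q2 x + Q2 y3 + Q2 t3 = 0 ∧
      Q2 y1 + Q2 y2 + Q2 y3 = 0)
    (l3 : Q3 x + Q3 y1 + Q3 t1 = 0 ∧ Q3 x + Q3 y2 + Q3 t2 = 0 ∧ Q3 x + Q3 y3 + Q3 t3 = 1 ∧
      Q3 y1 + Q3 y2 + Q3 y3 = 0)
    (lc : Qc x + Qc y1 + Qc t1 = 0 ∧ Qc x + Qc y2 + Qc t2 = 0 ∧ Qc x + Qc y3 + Qc t3 = 0 ∧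
      Qc y1 + Qc y2 + Qc y3 = 1)
    (s1 : 0 ≤ Q1 x ∧ 0 ≤ Q1 y1 ∧ 0 ≤ Q1 t1)
    (s2 : 0 ≤ Q2 x ∧ 0 ≤ Q2 y2 ∧ 0 ≤ Q2 t2)
    (s3 : 0 ≤ Q3 x ∧ 0 ≤ Q3 y3 ∧ 0 ≤ Q3 t3)
    (sc : 0 ≤ Qc y1 ∧ 0 ≤ Qc y2 ∧ 0 ≤ Qc y3)
    (p1c : (∀ e, 0 ≤ Q1 e * Qc e) ∧ ∑ e, Q1 e * Qc e = 1)
    (p2c : (∀ e, 0 ≤ Q2 e * Qc e) ∧ ∑ e, Q2 e * Qc e = 1)
    (p3c : (∀ e, 0 ≤ Q3 e * Qc e) ∧ ∑ e, Q3 e * Qc e = 1)
    (p12 : (∀ e, 0 ≤ Q1 e * Q2 e) ∧ ∑ e, Q1 e * Q2 e = 1)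
    (p13 : (∀ e, 0 ≤ Q1 e * Q3 e) ∧ ∑ e, Q1 e * Q3 e = 1)
    (p23 : (∀ e, 0 ≤ Q2 e * Q3 e) ∧ ∑ e, Q2 e * Q3 e = 1) : False :=
  core inj n1 n2 n3 nc l1 l2 l3 lc s1 s2 s3 sc p1c p2c p3c p12 p13 p23

theorem row_sunflower (S : Fin 4 → Finset ι) (hS : ∀ j, (S j).card = 3)
    (hSS : ∀ j k, j ≠ k → (S j ∩ S k).card = 1) (B : Fin 4 → ι → ℤ)
    (hN : ∀ j, ∑ e, B j e * B j e = 3)
    (hR : ∀ j k, j ≠ k → (∀ e, 0 ≤ B j e * B k e) ∧ ∑ e, B j e * B k e = 1)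
    (hD : ∀ j, ∑ e ∈ S j, B j e = 1) (hO : ∀ j k, j ≠ k → ∑ e ∈ S k, B j e = 0)
    (hP : ∀ j, ∀ e ∈ S j, 0 ≤ B j e) (x : ι) (hx0 : x ∈ S 0) (hx1 : x ∈ S 1) : x ∈ S 2 := by
  by_contra hx2
  have U : ∀ j k, j ≠ k → ∀ a b, a ∈ S j → a ∈ S k → b ∈ S j → b ∈ S k → a = b := by
    intro j k hjk a b h1 h2 h3 h4
    exact Finset.card_le_one.mp (hSS j k hjk).le a (Finset.mem_inter.mpr ⟨h1, h2⟩) b
      (Finset.mem_inter.mpr ⟨h3, h4⟩)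
  have E : ∀ j k, j ≠ k → ∃ a, a ∈ S j ∧ a ∈ S k := by
    intro j k hjk
    obtain ⟨a, ha⟩ := Finset.card_pos.mp (by rw [hSS j k hjk]; exact one_pos)
    exact ⟨a, (Finset.mem_inter.mp ha).1, (Finset.mem_inter.mp ha).2⟩
  have n01 : (0 : Fin 4) ≠ 1 := by decide
  have n02 : (0 : Fin 4) ≠ 2 := by decide
  have n03 : (0 : Fin 4) ≠ 3 := by decide
  have n12 : (1 : Fin 4) ≠ 2 := by decide
  have n13 : (1 : Fin 4) ≠ 3 := by decide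
  have n23 : (2 : Fin 4) ≠ 3 := by decide
  obtain ⟨y, hy0, hy2⟩ := E 0 2 n02
  obtain ⟨z, hz1, hz2⟩ := E 1 2 n12
  have xy : x ≠ y := fun h => hx2 (h ▸ hy2)
  have xz : x ≠ z := fun h => hx2 (h ▸ hz2)
  have yz : y ≠ z := fun h => xy (U 0 1 n01 x y hx0 hx1 hy0 (h ▸ hz1))
  obtain ⟨a, ax, ay, hS0⟩ := three_of (hS 0) hx0 hy0 xy
  obtain ⟨b, bx, bz, hS1⟩ := three_of (hS 1) hx1 hz1 xz
  obtain ⟨c, cy, cz, hS2⟩ := three_of (hS 2) hy2 hz2 yz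
  have ha0 : a ∈ S 0 := by rw [hS0]; simp
  have hb1 : b ∈ S 1 := by rw [hS1]; simp
  have hc2 : c ∈ S 2 := by rw [hS2]; simp
  have cx : c ≠ x := fun h => hx2 (h ▸ hc2)
  have az : a ≠ z := fun h => xz (U 0 1 n01 x z hx0 hx1 (h ▸ ha0) hz1)
  have byy : b ≠ y := fun h => xy (U 0 1 n01 x y hx0 hx1 hy0 (h ▸ hb1))
  have ab : a ≠ b := fun h => ax (U 0 1 n01 a x ha0 (h ▸ hb1) hx0 hx1)
  have ac : a ≠ c := fun h => ay (U 0 2 n02 a y ha0 (h ▸ hc2) hy0 hy2)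
  have bc : b ≠ c := fun h => bz (U 1 2 n12 b z hb1 (h ▸ hc2) hz1 hz2)
  have r0 : ∀ f : ι → ℤ, ∑ e ∈ S 0, f e = f x + f y + f a := fun f => by
    rw [hS0]; exact sum_three xy ax ay f
  have r1 : ∀ f : ι → ℤ, ∑ e ∈ S 1, f e = f x + f z + f b := fun f => by
    rw [hS1]; exact sum_three xz bx bz f
  have r2 : ∀ f : ι → ℤ, ∑ e ∈ S 2, f e = f y + f z + f c := fun f => by
    rw [hS2]; exact sum_three yz cy cz f
  have m0 : ∀ e, e ∈ S 0 → e = x ∨ e = y ∨ e = a := by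
    intro e he; rw [hS0] at he; simpa using he
  have m1 : ∀ e, e ∈ S 1 → e = x ∨ e = z ∨ e = b := by
    intro e he; rw [hS1] at he; simpa using he
  have m2 : ∀ e, e ∈ S 2 → e = y ∨ e = z ∨ e = c := by
    intro e he; rw [hS2] at he; simpa using he
  by_cases hx3 : x ∈ S 3
  · -- hub x
    have hc3 : c ∈ S 3 := by
      obtain ⟨w, hw2, hw3⟩ := E 2 3 n23
      rcases m2 w hw2 with rfl | rfl | rfl
      · exact absurd (U 0 3 n03 x w hx0 hx3 hy0 hw3) xy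
      · exact absurd (U 1 3 n13 x w hx1 hx3 hz1 hw3) xz
      · exact hw3
    obtain ⟨d, dx, dc, hS3⟩ := three_of (hS 3) hx3 hc3 cx.symm
    have hd3 : d ∈ S 3 := by rw [hS3]; simp
    have dy : d ≠ y := fun h => xy (U 0 3 n03 x y hx0 hx3 hy0 (h ▸ hd3))
    have dz : d ≠ z := fun h => xz (U 1 3 n13 x z hx1 hx3 hz1 (h ▸ hd3))
    have da : d ≠ a := fun h => ax (U 0 3 n03 a x ha0 (h ▸ hd3) hx0 hx3)
    have db : d ≠ b := fun h => bx (U 1 3 n13 b x hb1 (h ▸ hd3) hx1 hx3)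
    have r3 : ∀ f : ι → ℤ, ∑ e ∈ S 3, f e = f x + f c + f d := fun f => by
      rw [hS3]; exact sum_three cx.symm dx dc f
    exact hub (x := x) (y1 := y) (y2 := z) (y3 := c) (t1 := a) (t2 := b) (t3 := d)
      (inj7 xy xz cx.symm ax.symm bx.symm dx.symm yz cy.symm ay.symm byy.symm dy.symm cz.symm
        az.symm bz.symm dz.symm ac.symm bc.symm dc.symm ab da.symm db.symm)
      (Q1 := B 0) (Q2 := B 1) (Q3 := B 3) (Qc := B 2) (hN 0) (hN 1) (hN 3) (hN 2)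
      ⟨by rw [← r0, hD], by rw [← r1, hO 0 1 n01], by rw [← r3, hO 0 3 n03],
        by rw [← r2, hO 0 2 n02]⟩
      ⟨by rw [← r0, hO 1 0 n01.symm], by rw [← r1, hD], by rw [← r3, hO 1 3 n13],
        by rw [← r2, hO 1 2 n12]⟩
      ⟨by rw [← r0, hO 3 0 n03.symm], by rw [← r1, hO 3 1 n13.symm], by rw [← r3, hD],
        by rw [← r2, hO 3 2 n23.symm]⟩
      ⟨by rw [← r0, hO 2 0 n02.symm], by rw [← r1, hO 2 1 n12.symm],
        by rw [← r3, hO 2 3 n23], by rw [← r2, hD]⟩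
      ⟨hP 0 x hx0, hP 0 y hy0, hP 0 a ha0⟩ ⟨hP 1 x hx1, hP 1 z hz1, hP 1 b hb1⟩
      ⟨hP 3 x hx3, hP 3 c hc3, hP 3 d hd3⟩ ⟨hP 2 y hy2, hP 2 z hz2, hP 2 c hc2⟩
      (hR 0 2 n02) (hR 1 2 n12) (hR 3 2 n23.symm) (hR 0 1 n01) (hR 0 3 n03) (hR 1 3 n13)
  by_cases hy3 : y ∈ S 3
  · -- hub y
    have hb3 : b ∈ S 3 := by
      obtain ⟨w, hw1, hw3⟩ := E 1 3 n13
      rcases m1 w hw1 with rfl | rfl | rfl
      · exact absurd hw3 hx3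
      · exact absurd (U 2 3 n23 y w hy2 hy3 hz2 hw3) yz
      · exact hw3
    obtain ⟨d, dy, db, hS3⟩ := three_of (hS 3) hy3 hb3 byy.symm
    have hd3 : d ∈ S 3 := by rw [hS3]; simp
    have dx : d ≠ x := fun h => hx3 (h ▸ hd3)
    have dz : d ≠ z := fun h => yz (U 2 3 n23 y z hy2 hy3 hz2 (h ▸ hd3))
    have da : d ≠ a := fun h => ay (U 0 3 n03 a y ha0 (h ▸ hd3) hy0 hy3)
    have dc : d ≠ c := fun h => cy (U 2 3 n23 c y hc2 (h ▸ hd3) hy2 hy3)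
    have r3 : ∀ f : ι → ℤ, ∑ e ∈ S 3, f e = f y + f b + f d := fun f => by
      rw [hS3]; exact sum_three byy.symm dy db f
    exact hub (x := y) (y1 := x) (y2 := z) (y3 := b) (t1 := a) (t2 := c) (t3 := d)
      (inj7 xy.symm yz byy.symm ay.symm cy.symm dy.symm xz bx.symm ax.symm cx.symm dx.symm
        bz.symm az.symm cz.symm dz.symm ab.symm bc db.symm ac da.symm dc.symm)
      (Q1 := B 0) (Q2 := B 2) (Q3 := B 3) (Qc := B 1) (hN 0) (hN 2) (hN 3) (hN 1)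
      ⟨by rw [← hD 0, r0]; ring, by rw [← hO 0 2 n02, r2], by rw [← hO 0 3 n03, r3],
        by rw [← hO 0 1 n01, r1]⟩
      ⟨by rw [← hO 2 0 n02.symm, r0]; ring, by rw [← hD 2, r2], by rw [← hO 2 3 n23, r3],
        by rw [← hO 2 1 n12.symm, r1]⟩
      ⟨by rw [← hO 3 0 n03.symm, r0]; ring, by rw [← hO 3 2 n23.symm, r2], by rw [← hD 3, r3],
        by rw [← hO 3 1 n13.symm, r1]⟩
      ⟨by rw [← hO 1 0 n01.symm, r0]; ring, by rw [← hO 1 2 n12, r2],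
        by rw [← hO 1 3 n13, r3], by rw [← hD 1, r1]⟩
      ⟨hP 0 y hy0, hP 0 x hx0, hP 0 a ha0⟩ ⟨hP 2 y hy2, hP 2 z hz2, hP 2 c hc2⟩
      ⟨hP 3 y hy3, hP 3 b hb3, hP 3 d hd3⟩ ⟨hP 1 x hx1, hP 1 z hz1, hP 1 b hb1⟩
      (hR 0 1 n01) (hR 2 1 n12.symm) (hR 3 1 n13.symm) (hR 0 2 n02) (hR 0 3 n03) (hR 2 3 n23)
  by_cases hz3 : z ∈ S 3
  · -- hub z
    have ha3 : a ∈ S 3 := by
      obtain ⟨w, hw0, hw3⟩ := E 0 3 n03
      rcases m0 w hw0 with rfl | rfl | rfl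
      · exact absurd hw3 hx3
      · exact absurd hw3 hy3
      · exact hw3
    obtain ⟨d, dz, da, hS3⟩ := three_of (hS 3) hz3 ha3 az.symm
    have hd3 : d ∈ S 3 := by rw [hS3]; simp
    have dx : d ≠ x := fun h => hx3 (h ▸ hd3)
    have dy : d ≠ y := fun h => hy3 (h ▸ hd3)
    have db : d ≠ b := fun h => bz (U 1 3 n13 b z hb1 (h ▸ hd3) hz1 hz3)
    have dc : d ≠ c := fun h => cz (U 2 3 n23 c z hc2 (h ▸ hd3) hz2 hz3)
    have r3 : ∀ f : ι → ℤ, ∑ e ∈ S 3, f e = f z + f a + f d := fun f => by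
      rw [hS3]; exact sum_three az.symm dz da f
    exact hub (x := z) (y1 := x) (y2 := y) (y3 := a) (t1 := b) (t2 := c) (t3 := d)
      (inj7 xz.symm yz.symm az.symm bz.symm cz.symm dz.symm xy ax.symm bx.symm cx.symm dx.symm
        ay.symm byy.symm cy.symm dy.symm ab ac da.symm bc db.symm dc.symm)
      (Q1 := B 1) (Q2 := B 2) (Q3 := B 3) (Qc := B 0) (hN 1) (hN 2) (hN 3) (hN 0)
      ⟨by rw [← hD 1, r1]; ring, by rw [← hO 1 2 n12, r2]; ring, by rw [← hO 1 3 n13, r3],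
        by rw [← hO 1 0 n01.symm, r0]⟩
      ⟨by rw [← hO 2 1 n12.symm, r1]; ring, by rw [← hD 2, r2]; ring, by rw [← hO 2 3 n23, r3],
        by rw [← hO 2 0 n02.symm, r0]⟩
      ⟨by rw [← hO 3 1 n13.symm, r1]; ring, by rw [← hO 3 2 n23.symm, r2]; ring,
        by rw [← hD 3, r3], by rw [← hO 3 0 n03.symm, r0]⟩
      ⟨by rw [← hO 0 1 n01, r1]; ring, by rw [← hO 0 2 n02, r2]; ring,
        by rw [← hO 0 3 n03, r3], by rw [← hD 0, r0]⟩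
      ⟨hP 1 z hz1, hP 1 x hx1, hP 1 b hb1⟩ ⟨hP 2 z hz2, hP 2 y hy2, hP 2 c hc2⟩
      ⟨hP 3 z hz3, hP 3 a ha3, hP 3 d hd3⟩ ⟨hP 0 x hx0, hP 0 y hy0, hP 0 a ha0⟩
      (hR 1 0 n01.symm) (hR 2 0 n02.symm) (hR 3 0 n03.symm) (hR 1 2 n12) (hR 1 3 n13) (hR 2 3 n23)
  · -- K4
    have ha3 : a ∈ S 3 := by
      obtain ⟨w, hw0, hw3⟩ := E 0 3 n03
      rcases m0 w hw0 with rfl | rfl | rfl
      · exact absurd hw3 hx3
      · exact absurd hw3 hy3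
      · exact hw3
    have hb3 : b ∈ S 3 := by
      obtain ⟨w, hw1, hw3⟩ := E 1 3 n13
      rcases m1 w hw1 with rfl | rfl | rfl
      · exact absurd hw3 hx3
      · exact absurd hw3 hz3
      · exact hw3
    have hc3 : c ∈ S 3 := by
      obtain ⟨w, hw2, hw3⟩ := E 2 3 n23
      rcases m2 w hw2 with rfl | rfl | rfl
      · exact absurd hw3 hy3
      · exact absurd hw3 hz3
      · exact hw3
    have hS3 : ({a, b, c} : Finset ι) = S 3 := by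
      refine Finset.eq_of_subset_of_card_le ?_ ?_
      · intro e he
        simp only [Finset.mem_insert, Finset.mem_singleton] at he
        rcases he with rfl | rfl | rfl <;> assumption
      · rw [hS 3]
        have : ({a, b, c} : Finset ι).card = 3 := by
          rw [Finset.card_insert_of_notMem, Finset.card_insert_of_notMem, Finset.card_singleton]
          · rw [Finset.mem_singleton]; exact bc
          · rw [Finset.mem_insert, Finset.mem_singleton]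
            rintro (h | h)
            · exact ab h
            · exact ac h
        rw [this]
    have r3 : ∀ f : ι → ℤ, ∑ e ∈ S 3, f e = f a + f b + f c := fun f => by
      rw [← hS3]; exact sum_three ab ac.symm bc.symm f
    have e0 := hD 0
    have e1 := hO 0 1 n01
    have e2 := hO 0 2 n02
    have e3 := hO 0 3 n03
    rw [r0] at e0
    rw [r1] at e1
    rw [r2] at e2
    rw [r3] at e3
    omega

end Cfsg.Agent.H11.PF
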