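import Cfsg.Agent.H11.PF14

/-!
PF section 3: combinatorics of the cyclic TI isometry: the grid theorem.
-/
set_option autoImplicit false

namespace Cfsg.Agent.H11.PF

universe u v w

variable {ι : Type u} [Fintype ι] [DecidableEq ι]

/-- support -/
def sp (f : ι → ℤ) : Finset ι := Finset.univ.filter (fun e => f e ≠ 0)

theorem mem_sp {f : ι → ℤ} {e : ι} : e ∈ sp f ↔ f e ≠ 0 := by simp [sp]

theorem val_of_norm {f : ι → ℤ} (h : ∑ e, f e * f e = 3) (e : ι) : f e = -1 ∨ f e = 0 ∨ f e = 1 := by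
  have h1 : f e * f e ≤ 3 := by
    rw [← h]
    exact Finset.single_le_sum (f := fun e => f e * f e) (fun i _ => mul_self_nonneg _)
      (Finset.mem_univ e)
  have := bd h1
  omega

theorem card_sp {f : ι → ℤ} (h : ∑ e, f e * f e = 3) : (sp f).card = 3 := by
  have h1 : ∑ e, f e * f e = ((sp f).card : ℤ) := by
    rw [Finset.card_eq_sum_ones, Nat.cast_sum, sp, Finset.sum_filter]
    refine Finset.sum_congr rfl fun e _ => ?_
    rcases val_of_norm h e with h2 | h2 | h2 <;> simp [h2]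
  have : ((sp f).card : ℤ) = 3 := by rw [← h1, h]
  exact_mod_cast this

theorem card_inter {f g : ι → ℤ} (hf : ∑ e, f e * f e = 3) (hg : ∑ e, g e * g e = 3)
    (hpos : ∀ e, 0 ≤ f e * g e) (h : ∑ e, f e * g e = 1) : (sp f ∩ sp g).card = 1 := by
  have h1 : ∑ e, f e * g e = ((sp f ∩ sp g).card : ℤ) := by
    have h2 : sp f ∩ sp g = Finset.univ.filter (fun e => f e ≠ 0 ∧ g e ≠ 0) := by
      ext e; simp [sp]
    rw [h2, Finset.card_eq_sum_ones, Nat.cast_sum, Finset.sum_filter]
    refine Finset.sum_congr rfl fun e _ => ?_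
    have h3 := hpos e
    rcases val_of_norm hf e with h4 | h4 | h4 <;> rcases val_of_norm hg e with h5 | h5 | h5 <;>
      rw [h4, h5] at h3 ⊢ <;> simp at h3 ⊢
  have : ((sp f ∩ sp g).card : ℤ) = 1 := by rw [← h1, h]
  exact_mod_cast this

theorem same_sign {f g : ι → ℤ} (hf : ∑ e, f e * f e = 3) (hg : ∑ e, g e * g e = 3)
    (hpos : ∀ e, 0 ≤ f e * g e) {e : ι} (h1 : e ∈ sp f) (h2 : e ∈ sp g) : f e = g e := by
  rw [mem_sp] at h1 h2
  have h3 := hpos e
  rcases val_of_norm hf e with h4 | h4 | h4 <;> rcases val_of_norm hg e with h5 | h5 | h5 <;>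
      rw [h4, h5] at h3 ⊢ <;> simp at h3 h1 h2 ⊢
  all_goals first | exact absurd h4 h1 | exact absurd h5 h2

theorem row_common {f : Fin 4 → ι → ℤ} {g : Fin 4 → ι → ℤ}
    (nf : ∀ j, ∑ e, f j e * f j e = 3) (ng : ∀ j, ∑ e, g j e * g j e = 3)
    (rf : ∀ j k, j ≠ k → (∀ e, 0 ≤ f j e * f k e) ∧ ∑ e, f j e * f k e = 1)
    (rg : ∀ j k, j ≠ k → (∀ e, 0 ≤ g j e * g k e) ∧ ∑ e, g j e * g k e = 1)
    (cfg : ∀ j, (∀ e, 0 ≤ f j e * g j e) ∧ ∑ e, f j e * g j e = 1)
    (ofg : ∀ j k, j ≠ k → ∑ e, f k e * g j e = 0) {x : ι} (h0 : x ∈ sp (f 0)) (h1 : x ∈ sp (f 1)) :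
    x ∈ sp (f 2) := by
  classical
  obtain ⟨ε, hε⟩ : ∃ ε : ι → ℤ, ε = fun e => if ∃ k, f k e = -1 then -1 else 1 := ⟨_, rfl⟩
  have hε2 : ∀ e, ε e * ε e = 1 := by
    intro e; rw [hε]; simp only; split_ifs <;> norm_num
  have hεf : ∀ k e, e ∈ sp (f k) → ε e = f k e := by
    intro k e he
    rw [hε]
    simp only
    rw [mem_sp] at he
    rcases val_of_norm (nf k) e with h | h | h
    · rw [if_pos ⟨k, h⟩, h]
    · exact absurd h he
    · rw [if_neg, h]
      rintro ⟨k', hk'⟩
      by_cases hkk : k' = k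
      · rw [hkk, h] at hk'; norm_num at hk'
      · have := (rf k' k hkk).1 e
        rw [hk', h] at this; norm_num at this
  have hsum : ∀ j k, ∑ e ∈ sp (f k), ε e * g j e = ∑ e, f k e * g j e := by
    intro j k
    rw [sp, Finset.sum_filter]
    refine Finset.sum_congr rfl fun e _ => ?_
    split_ifs with h
    · rw [hεf k e (mem_sp.mpr h)]
    · push Not at h
      rw [h, zero_mul]
  refine row_sunflower (fun j => sp (f j)) (fun j => card_sp (nf j))
    (fun j k hjk => card_inter (nf j) (nf k) (rf j k hjk).1 (rf j k hjk).2)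
    (fun j e => ε e * g j e) ?_ ?_ ?_ ?_ ?_ x h0 h1
  · intro j
    rw [← ng j]
    refine Finset.sum_congr rfl fun e _ => ?_
    linear_combination (g j e * g j e) * hε2 e
  · intro j k hjk
    have h2 := rg j k hjk
    have h3 : ∀ e, ε e * g j e * (ε e * g k e) = g j e * g k e := by
      intro e
      linear_combination (g j e * g k e) * hε2 e
    refine ⟨fun e => by rw [h3]; exact h2.1 e, ?_⟩
    rw [← h2.2]
    exact Finset.sum_congr rfl fun e _ => h3 e
  · intro j
    rw [hsum, (cfg j).2]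
  · intro j k hjk
    rw [hsum, ofg j k hjk]
  · intro j e he
    rw [hεf j e he]
    exact (cfg j).1 e

variable {I : Type v} {J : Type w} [Fintype I] [Fintype J] [DecidableEq I] [DecidableEq J]

omit [Fintype ι] [DecidableEq ι] [Fintype I] [DecidableEq I] in
theorem exists_not_mem {K : Type v} [Fintype K] [DecidableEq K] (s : Finset K)
    (h : s.card < Fintype.card K) : ∃ k, k ∉ s := by
  by_contra hc
  push Not at hc
  have : Finset.univ ⊆ s := fun k _ => hc k
  have h2 := Finset.card_le_card this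
  rw [Finset.card_univ] at h2
  omega

/-- The grid theorem. -/
theorem grid (β : I → J → ι → ℤ) (hN : ∀ i j, ∑ e, β i j e * β i j e = 3)
    (hR : ∀ i j j', j ≠ j' → (∀ e, 0 ≤ β i j e * β i j' e) ∧ ∑ e, β i j e * β i j' e = 1)
    (hC : ∀ i i' j, i ≠ i' → (∀ e, 0 ≤ β i j e * β i' j e) ∧ ∑ e, β i j e * β i' j e = 1)
    (hO : ∀ i i' j j', i ≠ i' → j ≠ j' → ∑ e, β i j e * β i' j' e = 0)
    (hI : 2 ≤ Fintype.card I) (hI3 : Fintype.card I ≠ 3) (hJ : 4 ≤ Fintype.card J) :
    ∃ (a : I → ι) (b : J → ι) (c : I → J → ι) (s : I → ℤ) (t : J → ℤ) (u : I → J → ℤ),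
      Function.Injective (Sum.elim a (Sum.elim b (fun p : I × J => c p.1 p.2))) ∧
      (∀ i, s i = 1 ∨ s i = -1) ∧ (∀ j, t j = 1 ∨ t j = -1) ∧ (∀ i j, u i j = 1 ∨ u i j = -1) ∧
      ∀ i j e, β i j e = (if e = a i then s i else 0) + (if e = b j then t j else 0) +
        (if e = c i j then u i j else 0) := by
  classical
  have hIne : ∀ i : I, ∃ i' : I, i' ≠ i := fun i =>
    Fintype.exists_ne_of_one_lt_card (by omega) i
  -- step 2: sunflower
  have step2 : ∀ (i : I) (j0 j1 j2 : J), j0 ≠ j1 → j0 ≠ j2 → j1 ≠ j2 → ∀ x, x ∈ sp (β i j0) →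
      x ∈ sp (β i j1) → x ∈ sp (β i j2) := by
    intro i j0 j1 j2 h01 h02 h12 x hx0 hx1
    obtain ⟨i', hi'⟩ := hIne i
    obtain ⟨j3, hj3⟩ := exists_not_mem ({j0, j1, j2} : Finset J) (by
      have : ({j0, j1, j2} : Finset J).card ≤ 3 := Finset.card_le_three
      omega)
    simp only [Finset.mem_insert, Finset.mem_singleton, not_or] at hj3
    obtain ⟨h30, h31, h32⟩ := hj3
    obtain ⟨q, hq⟩ : ∃ q : Fin 4 → J, q = ![j0, j1, j2, j3] := ⟨_, rfl⟩
    have hqi : Function.Injective q := by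
      rw [hq]
      intro m n h
      fin_cases m <;> fin_cases n <;> simp at h ⊢ <;>
        first | exact absurd h (by assumption) | exact absurd h.symm (by assumption)
    have e0 : q 0 = j0 := by rw [hq]; rfl
    have e1 : q 1 = j1 := by rw [hq]; rfl
    have e2 : q 2 = j2 := by rw [hq]; rfl
    have := row_common (f := fun k => β i (q k)) (g := fun k => β i' (q k))
      (fun k => hN i (q k)) (fun k => hN i' (q k))
      (fun j k hjk => hR i (q j) (q k) (fun h => hjk (hqi h)))
      (fun j k hjk => hR i' (q j) (q k) (fun h => hjk (hqi h)))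
      (fun j => hC i i' (q j) hi'.symm)
      (fun j k hjk => hO i i' (q k) (q j) hi'.symm (fun h => hjk (hqi h).symm))
      (x := x) (by rw [e0]; exact hx0) (by rw [e1]; exact hx1)
    rw [e2] at this
    exact this
  -- step 3
  obtain ⟨j1, j2, hj12⟩ : ∃ j1 j2 : J, j1 ≠ j2 := by
    have : 1 < Fintype.card J := by omega
    obtain ⟨j1, j2, h⟩ := Fintype.one_lt_card_iff.mp this
    exact ⟨j1, j2, h⟩
  have hRc : ∀ i j j', j ≠ j' → (sp (β i j) ∩ sp (β i j')).card = 1 := fun i j j' h =>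
    card_inter (hN i j) (hN i j') (hR i j j' h).1 (hR i j j' h).2
  have hCc : ∀ i i' j, i ≠ i' → (sp (β i j) ∩ sp (β i' j)).card = 1 := fun i i' j h =>
    card_inter (hN i j) (hN i' j) (hC i i' j h).1 (hC i i' j h).2
  have hRu : ∀ i j j', j ≠ j' → ∀ x y, x ∈ sp (β i j) → x ∈ sp (β i j') → y ∈ sp (β i j) →
      y ∈ sp (β i j') → x = y := by
    intro i j j' h x y h1 h2 h3 h4
    exact Finset.card_le_one.mp (hRc i j j' h).le x (Finset.mem_inter.mpr ⟨h1, h2⟩) y
      (Finset.mem_inter.mpr ⟨h3, h4⟩)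
  have hCu : ∀ i i' j, i ≠ i' → ∀ x y, x ∈ sp (β i j) → x ∈ sp (β i' j) → y ∈ sp (β i j) →
      y ∈ sp (β i' j) → x = y := by
    intro i i' j h x y h1 h2 h3 h4
    exact Finset.card_le_one.mp (hCc i i' j h).le x (Finset.mem_inter.mpr ⟨h1, h2⟩) y
      (Finset.mem_inter.mpr ⟨h3, h4⟩)
  have hex : ∀ i, ∃ x, x ∈ sp (β i j1) ∧ x ∈ sp (β i j2) := by
    intro i
    obtain ⟨x, hx⟩ := Finset.card_pos.mp (by rw [hRc i j1 j2 hj12]; exact one_pos)
    exact ⟨x, Finset.mem_inter.mp hx⟩
  choose a ha1 ha2 using hex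
  have ha : ∀ i j, a i ∈ sp (β i j) := by
    intro i j
    by_cases h1 : j = j1
    · rw [h1]; exact ha1 i
    by_cases h2 : j = j2
    · rw [h2]; exact ha2 i
    exact step2 i j1 j2 j hj12 (Ne.symm h1) (Ne.symm h2) (a i) (ha1 i) (ha2 i)
  have hau : ∀ i j j', j ≠ j' → ∀ x, x ∈ sp (β i j) → x ∈ sp (β i j') → x = a i :=
    fun i j j' h x h1 h2 => hRu i j j' h x (a i) h1 h2 (ha i j) (ha i j')
  have hs : ∀ i j, β i j (a i) = β i j1 (a i) := by
    intro i j
    by_cases h : j = j1
    · rw [h]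
    · exact same_sign (hN i j) (hN i j1) (hR i j j1 h).1 (ha i j) (ha i j1)
  -- step 4
  have step4 : ∀ i i' j, i ≠ i' → a i ∉ sp (β i' j) := by
    intro i i' j0 hii hmem
    have h1 : β i j0 (a i) = β i' j0 (a i) :=
      same_sign (hN i j0) (hN i' j0) (hC i i' j0 hii).1 (ha i j0) hmem
    have hex2 : ∀ j, ∃ e, j ≠ j0 → e ≠ a i ∧ e ∈ sp (β i j) ∧ e ∈ sp (β i' j0) := by
      intro j
      by_cases hj : j = j0
      · exact ⟨a i, fun h => absurd hj h⟩
      have h2 := hO i i' j j0 hii hj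
      by_contra hcon
      push Not at hcon
      rw [Finset.sum_eq_single (a i)] at h2
      · rw [hs i j, ← h1, hs i j0] at h2
        have h3 := mem_sp.mp (ha i j1)
        exact h3 (mul_self_eq_zero.mp h2)
      · intro e _ he
        by_contra hne
        have h4 := mul_ne_zero_iff.mp hne
        exact (hcon e).2 he (mem_sp.mpr h4.1) (mem_sp.mpr h4.2)
      · intro h; exact absurd (Finset.mem_univ _) h
    choose F hF using hex2
    obtain ⟨F', hF'⟩ : ∃ F' : J → ι, F' = fun j => if j = j0 then a i else F j := ⟨_, rfl⟩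
    have hinj : Function.Injective F' := by
      intro j j' h
      rw [hF'] at h
      simp only at h
      by_cases hj : j = j0 <;> by_cases hj' : j' = j0
      · rw [hj, hj']
      · rw [if_pos hj, if_neg hj'] at h
        exact absurd h.symm (hF j' hj').1
      · rw [if_neg hj, if_pos hj'] at h
        exact absurd h (hF j hj).1
      · rw [if_neg hj, if_neg hj'] at h
        by_contra hne
        have h2 := hau i j j' hne (F j) (hF j hj).2.1 (h ▸ (hF j' hj').2.1)
        exact (hF j hj).1 h2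
    have hsub : Finset.univ.image F' ⊆ sp (β i' j0) := by
      intro e he
      obtain ⟨j, -, rfl⟩ := Finset.mem_image.mp he
      rw [hF']
      simp only
      split_ifs with hj
      · exact hmem
      · exact (hF j hj).2.2
    have h5 := Finset.card_le_card hsub
    rw [Finset.card_image_of_injective _ hinj, Finset.card_univ, card_sp (hN i' j0)] at h5
    omega
  -- step 5
  obtain ⟨T, hT⟩ : ∃ T : I → J → Finset ι, T = fun i j => (sp (β i j)).erase (a i) := ⟨_, rfl⟩
  have mT : ∀ i j e, e ∈ T i j ↔ e ≠ a i ∧ e ∈ sp (β i j) := by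
    intro i j e; rw [hT]; exact Finset.mem_erase
  have cT : ∀ i j, (T i j).card = 2 := by
    intro i j
    rw [hT]
    simp only
    rw [Finset.card_erase_of_mem (ha i j), card_sp (hN i j)]
  have rowd : ∀ i j j', j ≠ j' → ∀ e, e ∈ T i j → e ∉ T i j' := by
    intro i j j' h e h1 h2
    exact ((mT i j e).mp h1).1 (hau i j j' h e ((mT i j e).mp h1).2 ((mT i j' e).mp h2).2)
  have colex : ∀ i i' j, i ≠ i' → ∃ e, e ∈ T i j ∧ e ∈ T i' j := by
    intro i i' j h
    obtain ⟨x, hx⟩ := Finset.card_pos.mp (by rw [hCc i i' j h]; exact one_pos)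
    rw [Finset.mem_inter] at hx
    refine ⟨x, (mT i j x).mpr ⟨?_, hx.1⟩, (mT i' j x).mpr ⟨?_, hx.2⟩⟩
    · intro h2
      exact step4 i i' j h (h2 ▸ hx.2)
    · intro h2
      exact step4 i' i j h.symm (h2 ▸ hx.1)
  have colu : ∀ i i' j, i ≠ i' → ∀ x y, x ∈ T i j → x ∈ T i' j → y ∈ T i j → y ∈ T i' j → x = y := by
    intro i i' j h x y h1 h2 h3 h4
    exact hCu i i' j h x y ((mT _ _ _).mp h1).2 ((mT _ _ _).mp h2).2 ((mT _ _ _).mp h3).2
      ((mT _ _ _).mp h4).2
  have two : ∀ i j x y z, x ∈ T i j → y ∈ T i j → x ≠ y → z ∈ T i j → z = x ∨ z = y := by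
    intro i j x y z hx hy hxy hz
    have h1 : ({x, y} : Finset ι) = T i j := by
      refine Finset.eq_of_subset_of_card_le ?_ ?_
      · intro e he
        simp only [Finset.mem_insert, Finset.mem_singleton] at he
        rcases he with rfl | rfl <;> assumption
      · rw [cT, Finset.card_pair hxy]
    rw [← h1] at hz
    simpa using hz
  have crossd : ∀ i i' j j', j ≠ j' → ∀ e, e ∈ T i j → e ∉ T i' j' := by
    intro i i' j j' hj e h1 h2
    by_cases hii : i = i'
    · subst hii
      exact rowd i j j' hj e h1 h2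
    have h3 := hO i i' j j' hii hj
    -- second element
    obtain ⟨e', he', he1, he2⟩ : ∃ e', e' ≠ e ∧ e' ∈ sp (β i j) ∧ e' ∈ sp (β i' j') := by
      by_contra hcon
      push Not at hcon
      rw [Finset.sum_eq_single e] at h3
      · rcases mul_eq_zero.mp h3 with h4 | h4
        · exact mem_sp.mp ((mT _ _ _).mp h1).2 h4
        · exact mem_sp.mp ((mT _ _ _).mp h2).2 h4
      · intro x _ hx
        by_contra hne
        have h4 := mul_ne_zero_iff.mp hne
        exact hcon x hx (mem_sp.mpr h4.1) (mem_sp.mpr h4.2)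
      · intro h; exact absurd (Finset.mem_univ _) h
    have h5 : e' ∈ T i j := (mT _ _ _).mpr ⟨fun h => step4 i i' j' hii (h ▸ he2), he1⟩
    have h6 : e' ∈ T i' j' := (mT _ _ _).mpr ⟨fun h => step4 i' i j (Ne.symm hii) (h ▸ he1), he2⟩
    obtain ⟨z, hz1, hz2⟩ := colex i i' j hii
    rcases two i j e e' z h1 h5 he'.symm hz1 with rfl | rfl
    · exact rowd i' j j' hj z hz2 h2
    · exact rowd i' j j' hj z hz2 h6
  -- step 6
  obtain ⟨i1, i2, hi12⟩ : ∃ i1 i2 : I, i1 ≠ i2 := by
    have : 1 < Fintype.card I := by omega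
    obtain ⟨j1, j2, h⟩ := Fintype.one_lt_card_iff.mp this
    exact ⟨j1, j2, h⟩
  have hexb : ∀ j, ∃ x, x ∈ T i1 j ∧ x ∈ T i2 j := fun j => colex i1 i2 j hi12
  choose b hb1 hb2 using hexb
  have hb : ∀ i j, b j ∈ T i j := by
    intro i j
    by_cases h1 : i = i1
    · rw [h1]; exact hb1 j
    by_cases h2 : i = i2
    · rw [h2]; exact hb2 j
    by_contra hnb
    have hcard : 4 ≤ Fintype.card I := by
      have h3 : ({i1, i2, i} : Finset I).card = 3 := by
        rw [Finset.card_insert_of_notMem, Finset.card_insert_of_notMem, Finset.card_singleton]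
        · rw [Finset.mem_singleton]; exact Ne.symm h2
        · rw [Finset.mem_insert, Finset.mem_singleton]
          rintro (h | h)
          · exact hi12 h
          · exact h1 h.symm
      have h4 := Finset.card_le_univ ({i1, i2, i} : Finset I)
      omega
    obtain ⟨i4, hi4⟩ := exists_not_mem ({i1, i2, i} : Finset I) (by
      have : ({i1, i2, i} : Finset I).card ≤ 3 := Finset.card_le_three
      omega)
    simp only [Finset.mem_insert, Finset.mem_singleton, not_or] at hi4
    obtain ⟨h41, h42, h4i⟩ := hi4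
    obtain ⟨g, hg1, hg⟩ := colex i1 i j (Ne.symm h1)
    obtain ⟨h, hh2, hh⟩ := colex i2 i j (Ne.symm h2)
    have gb : g ≠ b j := fun e => hnb (e ▸ hg)
    have hb' : h ≠ b j := fun e => hnb (e ▸ hh)
    have gh : g ≠ h := fun e => gb (colu i1 i2 j hi12 g (b j) hg1 (e ▸ hh2) (hb1 j) (hb2 j))
    obtain ⟨z, hz4, hz⟩ := colex i4 i j h4i
    rcases two i j g h z hg hh gh hz with rfl | rfl
    · -- z = g ∈ T i4
      obtain ⟨y, hy4, hy2⟩ := colex i4 i2 j h42
      rcases two i2 j (b j) h y (hb2 j) hh2 hb'.symm hy2 with rfl | rfl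
      · exact gb (colu i4 i1 j h41 z (b j) hz4 hg1 hy4 (hb1 j))
      · exact gh (colu i4 i j h4i z y hz4 hg hy4 hh)
    · obtain ⟨y, hy4, hy1⟩ := colex i4 i1 j h41
      rcases two i1 j (b j) g y (hb1 j) hg1 gb.symm hy1 with rfl | rfl
      · exact hb' (colu i4 i2 j h42 z (b j) hz4 hh2 hy4 (hb2 j))
      · exact gh (colu i4 i j h4i y z hy4 hg hz4 hh)
  have hexc : ∀ i j, ∃ x, x ≠ b j ∧ x ∈ T i j := by
    intro i j
    obtain ⟨x, hx1, hx2⟩ := Finset.exists_mem_ne (s := T i j) (by rw [cT]; norm_num) (b j)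
    exact ⟨x, hx2, hx1⟩
  choose c hc1 hc2 using hexc
  have ht : ∀ i j, β i j (b j) = β i1 j (b j) := by
    intro i j
    by_cases h : i = i1
    · rw [h]
    · exact same_sign (hN i j) (hN i1 j) (hC i i1 j h).1 ((mT _ _ _).mp (hb i j)).2
        ((mT _ _ _).mp (hb i1 j)).2
  have sgn : ∀ i j e, e ∈ sp (β i j) → β i j e = 1 ∨ β i j e = -1 := by
    intro i j e he
    rcases val_of_norm (hN i j) e with h | h | h
    · exact Or.inr h
    · exact absurd h (mem_sp.mp he)
    · exact Or.inl h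
  have aneb : ∀ i j, a i ≠ b j := by
    intro i j h
    obtain ⟨i', hi'⟩ := hIne i
    exact step4 i i' j hi'.symm (h ▸ ((mT _ _ _).mp (hb i' j)).2)
  have anec : ∀ i i' j, a i ≠ c i' j := by
    intro i i' j h
    have h1 := (mT _ _ _).mp (hc2 i' j)
    by_cases hii : i = i'
    · subst hii; exact h1.1 h.symm
    · exact step4 i i' j hii (h ▸ h1.2)
  have bnec : ∀ i j j', b j ≠ c i j' := by
    intro i j j' h
    by_cases hj : j = j'
    · subst hj; exact hc1 i j h.symm
    · exact rowd i j j' hj (b j) (hb i j) (h ▸ hc2 i j')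
  refine ⟨a, b, c, fun i => β i j1 (a i), fun j => β i1 j (b j), fun i j => β i j (c i j),
    ?_, ?_, ?_, ?_, ?_⟩
  · rintro (i | j | ⟨i, j⟩) (i' | j' | ⟨i', j'⟩) h
    · simp only [Sum.elim_inl] at h
      by_contra hne
      have hii : i ≠ i' := fun e => hne (by rw [e])
      exact step4 i i' j1 hii (h ▸ ha i' j1)
    · simp only [Sum.elim_inl, Sum.elim_inr] at h
      exact absurd h (aneb i j')
    · simp only [Sum.elim_inl, Sum.elim_inr] at h
      exact absurd h (anec i i' j')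
    · simp only [Sum.elim_inl, Sum.elim_inr] at h
      exact absurd h.symm (aneb i' j)
    · simp only [Sum.elim_inl, Sum.elim_inr] at h
      by_contra hne
      have hjj : j ≠ j' := fun e => hne (by rw [e])
      exact rowd i1 j j' hjj (b j) (hb i1 j) (h ▸ hb i1 j')
    · simp only [Sum.elim_inl, Sum.elim_inr] at h
      exact absurd h (bnec i' j j')
    · simp only [Sum.elim_inl, Sum.elim_inr] at h
      exact absurd h.symm (anec i' i j)
    · simp only [Sum.elim_inl, Sum.elim_inr] at h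
      exact absurd h.symm (bnec i j' j)
    · simp only [Sum.elim_inr] at h
      by_cases hj : j = j'
      · subst hj
        by_cases hii : i = i'
        · subst hii; rfl
        · exfalso
          have := colu i i' j hii (c i j) (b j) (hc2 i j) (h ▸ hc2 i' j) (hb i j) (hb i' j)
          exact hc1 i j this
      · exact absurd (h ▸ hc2 i' j') (crossd i i' j j' hj (c i j) (hc2 i j))
  · intro i; exact sgn i j1 _ (ha i j1)
  · intro j; exact sgn i1 j _ ((mT _ _ _).mp (hb i1 j)).2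
  · intro i j; exact sgn i j _ ((mT _ _ _).mp (hc2 i j)).2
  · intro i j e
    simp only
    by_cases h1 : e = a i
    · subst h1
      rw [if_pos rfl, if_neg (aneb i j), if_neg (anec i i j), hs i j]; ring
    by_cases h2 : e = b j
    · subst h2
      rw [if_neg h1, if_pos rfl, if_neg (bnec i j j), ht i j]; ring
    by_cases h3 : e = c i j
    · subst h3
      rw [if_neg h1, if_neg h2, if_pos rfl]; ring
    rw [if_neg h1, if_neg h2, if_neg h3]
    by_contra hne
    have h4 : e ∈ sp (β i j) := mem_sp.mpr (by simpa using hne)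
    rcases two i j (b j) (c i j) e (hb i j) (hc2 i j) (hc1 i j).symm
      ((mT _ _ _).mpr ⟨h1, h4⟩) with h5 | h5
    · exact h2 h5
    · exact h3 h5

end Cfsg.Agent.H11.PF
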