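import Cfsg.Agent.H11.PF12
import Cfsg.Agent.H11.PF15
import Cfsg.Agent.H27.Util

/-!
PF section 3: existence of the cyclic TI family.
-/
set_option autoImplicit false

namespace Cfsg.Agent.H11.PF

open Cfsg Cfsg.Agent.H3 ComplexConjugate

universe u v w

/-! ### duality: factorisation -/
section dual

variable {W : Type u} [Group W] [Finite W] (hc : ∀ a b : W, a * b = b * a)
  {U₁ U₂ : Subgroup W} (hinf : U₁ ⊓ U₂ = ⊥) (htop : U₁ ⊔ U₂ = ⊤)
include hc hinf htop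

theorem index_eq_card : U₂.index = Nat.card U₁ := by
  haveI : U₂.Normal := ⟨fun n hn g => by rw [hc g n, mul_inv_cancel_right]; exact hn⟩
  have h1 : U₂.relIndex (U₁ ⊔ U₂) = U₂.relIndex U₁ := Subgroup.relIndex_sup_right _ _
  rw [htop, Subgroup.relIndex_top_right] at h1
  rw [h1, Subgroup.relIndex]
  have : U₂.subgroupOf U₁ = ⊥ := by
    rw [Subgroup.subgroupOf_eq_bot, disjoint_iff, inf_comm]
    exact hinf
  rw [this, Subgroup.index_bot]

theorem dual_unique {φ φ' ψ ψ' : W →* ℂˣ} (hφ : IsAnn U₂ φ) (hφ' : IsAnn U₂ φ') (hψ : IsAnn U₁ ψ)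
    (hψ' : IsAnn U₁ ψ') (h : φ * ψ = φ' * ψ') : φ = φ' ∧ ψ = ψ' := by
  have both : ∀ χ : W →* ℂˣ, IsAnn U₁ χ → IsAnn U₂ χ → χ = 1 := fun χ => ann_both htop
  have e1 : φ * φ'⁻¹ = ψ' * ψ⁻¹ := by
    ext x
    have := congrArg (fun f : W →* ℂˣ => f x) h
    simp only [MonoidHom.mul_apply] at this
    have h5 : φ x * (φ' x)⁻¹ = ψ' x * (ψ x)⁻¹ := by
      rw [mul_inv_eq_iff_eq_mul]
      calc φ x = (φ x * ψ x) * (ψ x)⁻¹ := by group
        _ = (φ' x * ψ' x) * (ψ x)⁻¹ := by rw [this]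
        _ = _ := by
          rw [mul_comm (φ' x), mul_assoc, mul_comm (φ' x), ← mul_assoc]
    exact congrArg Units.val h5
  have e2 := both (φ * φ'⁻¹) (e1 ▸ hψ'.mul hψ.inv) (hφ.mul hφ'.inv)
  have e3 : φ = φ' := by
    ext x
    have := congrArg (fun f : W →* ℂˣ => f x) e2
    simp only [MonoidHom.mul_apply, MonoidHom.inv_apply, MonoidHom.one_apply] at this
    rw [mul_inv_eq_one.mp this]
  refine ⟨e3, ?_⟩
  rw [e3] at h
  ext x
  have := congrArg (fun f : W →* ℂˣ => f x) h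
  simp only [MonoidHom.mul_apply] at this
  rw [mul_left_cancel this]

theorem dual_factor (ω : W →* ℂˣ) : ∃ φ ψ : W →* ℂˣ, IsAnn U₂ φ ∧ IsAnn U₁ ψ ∧ ω = φ * ψ := by
  haveI := finite_dual hc
  let F : {φ : W →* ℂˣ // IsAnn U₂ φ} × {ψ : W →* ℂˣ // IsAnn U₁ ψ} → (W →* ℂˣ) :=
    fun p => p.1.1 * p.2.1
  have hinj : Function.Injective F := by
    rintro ⟨⟨φ, h1⟩, ⟨ψ, h2⟩⟩ ⟨⟨φ', h3⟩, ⟨ψ', h4⟩⟩ h
    obtain ⟨h5, h6⟩ := dual_unique hc hinf htop h1 h3 h2 h4 h
    exact Prod.ext (Subtype.ext h5) (Subtype.ext h6)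
  have hcard : Nat.card (W →* ℂˣ) ≤
      Nat.card ({φ : W →* ℂˣ // IsAnn U₂ φ} × {ψ : W →* ℂˣ // IsAnn U₁ ψ}) := by
    rw [Nat.card_prod, card_ann hc, card_ann hc, card_dual hc,
      index_eq_card hc hinf htop, ← U₁.index_mul_card, mul_comm]
  have hbij := hinj.bijective_of_nat_card_le hcard
  obtain ⟨p, hp⟩ := hbij.2 ω
  exact ⟨p.1.1, p.2.1, p.1.2, p.2.2, hp.symm⟩

end dual

/-! ### the grid, symmetric version -/

variable {ι : Type u} [Fintype ι] [DecidableEq ι]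

theorem nonneg_of_degree {f g d : ι → ℤ} (hd : ∀ e, 0 < d e) (hf : ∑ e, f e * f e = 3)
    (hg : ∑ e, g e * g e = 3) (hfg : ∑ e, f e * g e = 1) (hdeg : ∑ e, f e * d e = ∑ e, g e * d e)
    (e : ι) : 0 ≤ f e * g e := by
  by_contra hneg
  push Not at hneg
  have h1 : ∑ e, (f e - g e) * (f e - g e) = 4 := by
    have : ∑ e, (f e - g e) * (f e - g e) = ∑ e, f e * f e + ∑ e, g e * g e - 2 * ∑ e, f e * g e := by
      rw [Finset.mul_sum, ← Finset.sum_add_distrib, ← Finset.sum_sub_distrib]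
      exact Finset.sum_congr rfl fun e _ => by ring
    rw [this, hf, hg, hfg]; norm_num
  have h2 : (f e - g e) * (f e - g e) = 4 := by
    rcases val_of_norm hf e with h4 | h4 | h4 <;> rcases val_of_norm hg e with h5 | h5 | h5 <;>
      rw [h4, h5] at hneg ⊢ <;> simp at hneg ⊢
  have h3 : ∀ x, x ≠ e → f x = g x := by
    intro x hx
    have h4 := Finset.add_sum_erase Finset.univ (fun e => (f e - g e) * (f e - g e))
      (Finset.mem_univ e)
    rw [h1, h2] at h4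
    have h5 : ∑ x ∈ Finset.univ.erase e, (f x - g x) * (f x - g x) = 0 := by linarith
    have h6 := (Finset.sum_eq_zero_iff_of_nonneg (fun x _ => mul_self_nonneg (f x - g x))).mp h5 x
      (Finset.mem_erase.mpr ⟨hx, Finset.mem_univ x⟩)
    have := mul_self_eq_zero.mp h6
    linarith
  have h4 : ∑ x, (f x - g x) * d x = 0 := by
    have : ∑ x, (f x - g x) * d x = ∑ e, f e * d e - ∑ e, g e * d e := by
      rw [← Finset.sum_sub_distrib]
      exact Finset.sum_congr rfl fun e _ => by ring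
    rw [this, hdeg, sub_self]
  rw [Finset.sum_eq_single e] at h4
  · rcases mul_eq_zero.mp h4 with h5 | h5
    · rw [h5] at h2; norm_num at h2
    · have := hd e; omega
  · intro x _ hx
    rw [h3 x hx, sub_self, zero_mul]
  · intro h; exact absurd (Finset.mem_univ _) h

variable {I : Type v} {J : Type w} [Fintype I] [Fintype J] [DecidableEq I] [DecidableEq J]

theorem grid' (β : I → J → ι → ℤ) (hN : ∀ i j, ∑ e, β i j e * β i j e = 3)
    (hR : ∀ i j j', j ≠ j' → (∀ e, 0 ≤ β i j e * β i j' e) ∧ ∑ e, β i j e * β i j' e = 1)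
    (hC : ∀ i i' j, i ≠ i' → (∀ e, 0 ≤ β i j e * β i' j e) ∧ ∑ e, β i j e * β i' j e = 1)
    (hO : ∀ i i' j j', i ≠ i' → j ≠ j' → ∑ e, β i j e * β i' j' e = 0)
    (hIJ : (2 ≤ Fintype.card I ∧ Fintype.card I ≠ 3 ∧ 4 ≤ Fintype.card J) ∨
      (2 ≤ Fintype.card J ∧ Fintype.card J ≠ 3 ∧ 4 ≤ Fintype.card I)) :
    ∃ (a : I → ι) (b : J → ι) (c : I → J → ι) (s : I → ℤ) (t : J → ℤ) (u : I → J → ℤ),
      Function.Injective (Sum.elim a (Sum.elim b (fun p : I × J => c p.1 p.2))) ∧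
      (∀ i, s i = 1 ∨ s i = -1) ∧ (∀ j, t j = 1 ∨ t j = -1) ∧ (∀ i j, u i j = 1 ∨ u i j = -1) ∧
      ∀ i j e, β i j e = (if e = a i then s i else 0) + (if e = b j then t j else 0) +
        (if e = c i j then u i j else 0) := by
  rcases hIJ with ⟨h1, h2, h3⟩ | ⟨h1, h2, h3⟩
  · exact grid β hN hR hC hO h1 h2 h3
  · obtain ⟨a, b, c, s, t, u, hinj, hs, ht, hu, hβ⟩ := grid (fun j i => β i j)
      (fun j i => hN i j) (fun j i i' h => hC i i' j h) (fun j j' i h => hR i j j' h)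
      (fun j j' i i' h h' => hO i i' j j' h' h) h1 h2 h3
    refine ⟨b, a, fun i j => c j i, t, s, fun i j => u j i, ?_, ht, hs, fun i j => hu j i, ?_⟩
    · have key : ∀ x : I ⊕ J ⊕ (I × J), ∃ y : J ⊕ I ⊕ (J × I),
          (Sum.elim b (Sum.elim a (fun p : I × J => c p.2 p.1))) x =
            (Sum.elim a (Sum.elim b (fun p : J × I => c p.1 p.2))) y ∧
          y = Sum.elim (fun i => Sum.inr (Sum.inl i)) (Sum.elim (fun j => Sum.inl j)
            (fun p : I × J => Sum.inr (Sum.inr (p.2, p.1)))) x := by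
        rintro (i | j | ⟨i, j⟩)
        · exact ⟨Sum.inr (Sum.inl i), rfl, rfl⟩
        · exact ⟨Sum.inl j, rfl, rfl⟩
        · exact ⟨Sum.inr (Sum.inr (j, i)), rfl, rfl⟩
      intro x x' h
      obtain ⟨y, hy, hy2⟩ := key x
      obtain ⟨y', hy', hy2'⟩ := key x'
      have h5 : y = y' := hinj (by rw [← hy, ← hy']; exact h)
      rw [hy2, hy2'] at h5
      rcases x with (i | j | ⟨i, j⟩) <;> rcases x' with (i' | j' | ⟨i', j'⟩) <;>
        simp at h5 ⊢ <;> simp [h5]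
    · intro i j e
      rw [hβ j i e]; ring

end Cfsg.Agent.H11.PF
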