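import Cfsg.Agent.H11.PF16

/-!
PF section 3: existence of the cyclic TI family.
-/
set_option autoImplicit false

namespace Cfsg.Agent.H11.PF

open Cfsg Cfsg.Agent.H3 Cfsg.Agent.H27 ComplexConjugate

universe u v w

theorem card_ann_ne {W : Type u} [Group W] [Finite W] (hc : ∀ a b : W, a * b = b * a)
    (U : Subgroup W) [Fintype {φ : W →* ℂˣ // IsAnn U φ ∧ φ ≠ 1}] :
    Fintype.card {φ : W →* ℂˣ // IsAnn U φ ∧ φ ≠ 1} + 1 = U.index := by
  classical
  haveI := finite_dual hc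
  haveI : Fintype (W →* ℂˣ) := Fintype.ofFinite _
  rw [← card_ann hc U, Nat.card_eq_fintype_card, Fintype.card_subtype, Fintype.card_subtype]
  have h1 : (Finset.univ.filter (fun φ : W →* ℂˣ => IsAnn U φ ∧ φ ≠ 1)) =
      (Finset.univ.filter (fun φ : W →* ℂˣ => IsAnn U φ)).erase 1 := by
    ext φ
    simp only [Finset.mem_filter, Finset.mem_univ, true_and, Finset.mem_erase]
    exact and_comm
  rw [h1]
  exact Finset.card_erase_add_one (Finset.mem_filter.mpr ⟨Finset.mem_univ _, IsAnn.one U⟩)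

variable {G : Type u} [Group G] [Fintype G] {W₁ W₂ : Subgroup G}

theorem al_gen {W : Type u} [Group W] (φ ψ : W →* ℂˣ) : IsGeneralizedCharacter W (al φ ψ) := by
  rw [al_eq]
  exact isGen_add (isGen_sub (isGen_sub (isGen_of_irr (isIrr_hf _)) (isGen_of_irr (isIrr_hf _)))
    (isGen_of_irr (isIrr_hf _))) (isGen_of_irr (isIrr_hf _))

theorem card_conditions (hW : IsSelfNormalizingCyclic W₁ W₂) (hodd : Odd (Nat.card ↥(W₁ ⊔ W₂)))
    {m n : ℕ} (hm : m + 1 = (W₂.subgroupOf (W₁ ⊔ W₂)).index)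
    (hn : n + 1 = (W₁.subgroupOf (W₁ ⊔ W₂)).index) :
    (2 ≤ m ∧ m ≠ 3 ∧ 4 ≤ n) ∨ (2 ≤ n ∧ n ≠ 3 ∧ 4 ≤ m) := by
  have hc := comm_of_selfnorm hW
  have hinf := sub_inf hW.2.2.1
  have htop := sub_top (W₁ := W₁) (W₂ := W₂)
  have e1 := index_eq_card hc hinf htop
  have e2 := index_eq_card hc (U₁ := W₂.subgroupOf (W₁ ⊔ W₂)) (U₂ := W₁.subgroupOf (W₁ ⊔ W₂))
    ((inf_comm _ _).trans hinf) ((sup_comm _ _).trans htop)
  have c1 : Nat.card (W₁.subgroupOf (W₁ ⊔ W₂)) = Nat.card W₁ :=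
    Nat.card_congr (Subgroup.subgroupOfEquivOfLe le_sup_left).toEquiv
  have c2 : Nat.card (W₂.subgroupOf (W₁ ⊔ W₂)) = Nat.card W₂ :=
    Nat.card_congr (Subgroup.subgroupOfEquivOfLe le_sup_right).toEquiv
  rw [e1] at hm
  rw [e2] at hn
  have o1 : Odd (Nat.card (W₁.subgroupOf (W₁ ⊔ W₂))) :=
    Odd.of_dvd_nat hodd (Subgroup.card_subgroup_dvd_card _)
  have o2 : Odd (Nat.card (W₂.subgroupOf (W₁ ⊔ W₂))) :=
    Odd.of_dvd_nat hodd (Subgroup.card_subgroup_dvd_card _)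
  have g1 : Nat.card (W₁.subgroupOf (W₁ ⊔ W₂)) ≠ 1 := by
    rw [c1]
    intro h
    exact hW.1 (Subgroup.card_eq_one.mp h)
  have g2 : Nat.card (W₂.subgroupOf (W₁ ⊔ W₂)) ≠ 1 := by
    rw [c2]
    intro h
    exact hW.2.1 (Subgroup.card_eq_one.mp h)
  have hne : Nat.card (W₁.subgroupOf (W₁ ⊔ W₂)) ≠ Nat.card (W₂.subgroupOf (W₁ ⊔ W₂)) := by
    intro h
    haveI : IsCyclic ↥(W₁ ⊔ W₂) := hW.2.2.2.2.1
    apply g2
    rw [Subgroup.card_eq_one, eq_bot_iff]
    intro w hw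
    have h1 : w ^ Nat.card (W₁.subgroupOf (W₁ ⊔ W₂)) = 1 := by
      rw [h]
      have := pow_card_eq_one' (x := (⟨w, hw⟩ : W₂.subgroupOf (W₁ ⊔ W₂)))
      exact congrArg Subtype.val this
    have h2 := mem_of_pow_cyclic _ h1
    rw [← hinf]
    exact Subgroup.mem_inf.mpr ⟨h2, hw⟩
  obtain ⟨k1, hk1⟩ := o1
  obtain ⟨k2, hk2⟩ := o2
  omega

theorem family_exists (hW : IsSelfNormalizingCyclic W₁ W₂) (hodd : Odd (Nat.card ↥(W₁ ⊔ W₂))) :
    ∃ χ : (↥(W₁ ⊔ W₂) →* ℂˣ) → (G → ℂ), IsCyclicTIFamily W₁ W₂ χ := by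
  classical
  haveI : Fintype ↥(W₁ ⊔ W₂) := Fintype.ofFinite _
  have hc := comm_of_selfnorm hW
  have hinf := sub_inf hW.2.2.1
  have htop := sub_top (W₁ := W₁) (W₂ := W₂)
  haveI := finite_dual hc
  haveI : Fintype (↥(W₁ ⊔ W₂) →* ℂˣ) := Fintype.ofFinite _
  haveI : Fintype (IrrCharacter G) := Fintype.ofFinite _
  obtain ⟨U₁, hU₁⟩ : ∃ U₁, U₁ = W₁.subgroupOf (W₁ ⊔ W₂) := ⟨_, rfl⟩
  obtain ⟨U₂, hU₂⟩ : ∃ U₂, U₂ = W₂.subgroupOf (W₁ ⊔ W₂) := ⟨_, rfl⟩
  let I := {φ : ↥(W₁ ⊔ W₂) →* ℂˣ // IsAnn U₂ φ ∧ φ ≠ 1}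
  let J := {ψ : ↥(W₁ ⊔ W₂) →* ℂˣ // IsAnn U₁ ψ ∧ ψ ≠ 1}
  obtain ⟨X, hX⟩ : ∃ X : I → J → (G → ℂ), X = fun i j =>
    indFun (W₁ ⊔ W₂) (al i.1 j.1) - (fun _ => 1) := ⟨_, rfl⟩
  have hXgen : ∀ i j, IsGeneralizedCharacter G (X i j) := by
    intro i j; rw [hX]
    exact isGen_sub (isGen_ind _ (al_gen _ _)) isGen_one
  have h1 : ∀ i j (e : IrrCharacter G), ∃ n : ℤ, classInner (X i j) (e : G → ℂ) = n :=
    fun i j e => classInner_gen_int (hXgen i j) (isGen_of_irr e.2)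
  choose β hβ using h1
  have hannI : ∀ i : I, IsAnn (W₂.subgroupOf (W₁ ⊔ W₂)) i.1 := fun i => hU₂ ▸ i.2.1
  have hannJ : ∀ j : J, IsAnn (W₁.subgroupOf (W₁ ⊔ W₂)) j.1 := fun j => hU₁ ▸ j.2.1
  have hone : ∀ (i : I) (j : J), classInner (indFun (W₁ ⊔ W₂) (al i.1 j.1)) (fun _ => 1) = 1 :=
    fun i j => inner_ind_al_one (hannI i) (hannJ j) i.2.2 j.2.2
  have hone' : ∀ (i : I) (j : J), classInner (fun _ => 1) (indFun (W₁ ⊔ W₂) (al i.1 j.1)) = 1 := by
    intro i j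
    rw [← classInner_conj_symm, hone, map_one]
  have h11 : classInner (fun _ : G => (1 : ℂ)) (fun _ => 1) = 1 := classInner_self_of_irr isIrr_one
  have hXX : ∀ i i' j j', classInner (X i j) (X i' j') =
      (if i = i' then 1 else 0) + (if j = j' then 1 else 0) +
        (if i = i' then 1 else 0) * (if j = j' then 1 else 0) := by
    intro i i' j j'
    rw [hX]
    simp only [classInner_sub_left, classInner_sub_right]
    rw [hone, hone', h11, inner_ind_al hW (hannI i) (hannJ j) (hannI i') (hannJ j'),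
      inner_al htop (hannI i) (hannI i') (hannJ j) (hannJ j') i.2.2 j.2.2 i'.2.2 j'.2.2]
    have e1 : (i.1 = i'.1) ↔ i = i' := Subtype.ext_iff.symm
    have e2 : (j.1 = j'.1) ↔ j = j' := Subtype.ext_iff.symm
    by_cases ha : i = i' <;> by_cases hb : j = j' <;> simp [ha, hb, e1, e2]
    all_goals norm_num
  have hsum : ∀ i i' j j', ((∑ e, β i j e * β i' j' e : ℤ) : ℂ) = classInner (X i j) (X i' j') := by
    intro i i' j j'
    rw [classInner_eq_sum (isGen_classFun (hXgen i j)), Int.cast_sum]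
    refine Finset.sum_congr rfl fun e _ => ?_
    rw [hβ, hβ, Int.cast_mul]
    simp
  have hint : ∀ i i' j j', ∑ e, β i j e * β i' j' e =
      (if i = i' then 1 else 0) + (if j = j' then 1 else 0) +
        (if i = i' then 1 else 0) * (if j = j' then 1 else 0) := by
    intro i i' j j'
    have h2 := hsum i i' j j'
    rw [hXX] at h2
    by_cases ha : i = i' <;> by_cases hb : j = j' <;> simp only [ha, hb, if_true, if_false] at h2 ⊢ <;>
      exact_mod_cast h2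
  -- degrees
  have hdeg : ∀ e : IrrCharacter G, ∃ d : ℤ, 0 < d ∧ (e : G → ℂ) 1 = d := by
    intro e
    obtain ⟨n, hn, hn2⟩ := irr_one_eq_nat e.2
    exact ⟨n, by exact_mod_cast hn, by rw [hn2]; simp⟩
  choose d hd0 hd using hdeg
  have hdX : ∀ i j, ∑ e, β i j e * d e = -1 := by
    intro i j
    have h2 := classFun_expand_apply (isGen_classFun (hXgen i j)) 1
    have h3 : X i j 1 = -1 := by
      rw [hX]
      simp only [Pi.sub_apply]
      rw [indFun_one_apply]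
      have : al i.1 j.1 (1 : ↥(W₁ ⊔ W₂)) = 0 := by simp [al]
      rw [this]; simp
    rw [h3] at h2
    have h4 : ((∑ e, β i j e * d e : ℤ) : ℂ) = ((-1 : ℤ) : ℂ) := by
      rw [Int.cast_sum]
      rw [Int.cast_neg, Int.cast_one, h2]
      refine Finset.sum_congr rfl fun e _ => ?_
      rw [hβ, hd, Int.cast_mul]
    exact_mod_cast h4
  have hNN : ∀ i j, ∑ e, β i j e * β i j e = 3 := by
    intro i j
    rw [hint, if_pos rfl, if_pos rfl]; norm_num
  obtain ⟨a, b, c, s, t, u, hinj, hs, ht, hu, hform⟩ := grid' β hNN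
    (fun i j j' hj => by
      have h2 : ∑ e, β i j e * β i j' e = 1 := by
        rw [hint, if_pos rfl, if_neg hj]; norm_num
      exact ⟨nonneg_of_degree hd0 (hNN i j) (hNN i j') h2 (by rw [hdX, hdX]), h2⟩)
    (fun i i' j hi => by
      have h2 : ∑ e, β i j e * β i' j e = 1 := by
        rw [hint, if_neg hi, if_pos rfl]; norm_num
      exact ⟨nonneg_of_degree hd0 (hNN i j) (hNN i' j) h2 (by rw [hdX, hdX]), h2⟩)
    (fun i i' j j' hi hj => by rw [hint, if_neg hi, if_neg hj]; norm_num)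
    (card_conditions hW hodd (by rw [← hU₂]; exact card_ann_ne hc U₂)
      (by rw [← hU₁]; exact card_ann_ne hc U₁))
  have hab : ∀ i j, a i ≠ b j := fun i j h => by
    have := hinj (a₁ := Sum.inl i) (a₂ := Sum.inr (Sum.inl j)) h
    simp at this
  have hac : ∀ i i' j, a i ≠ c i' j := fun i i' j h => by
    have := hinj (a₁ := Sum.inl i) (a₂ := Sum.inr (Sum.inr (i', j))) h
    simp at this
  have hbc : ∀ i j j', b j ≠ c i j' := fun i j j' h => by
    have := hinj (a₁ := Sum.inr (Sum.inl j)) (a₂ := Sum.inr (Sum.inr (i, j'))) h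
    simp at this
  -- the functions
  have hXform : ∀ i j, X i j = (s i : ℂ) • (a i : G → ℂ) + (t j : ℂ) • (b j : G → ℂ) +
      (u i j : ℂ) • (c i j : G → ℂ) := by
    intro i j
    conv_lhs => rw [classFun_expand (isGen_classFun (hXgen i j))]
    have h2 : ∀ e : IrrCharacter G, classInner (X i j) (e : G → ℂ) • (e : G → ℂ) =
        (if e = a i then (s i : ℂ) • (a i : G → ℂ) else 0) +
        (if e = b j then (t j : ℂ) • (b j : G → ℂ) else 0) +
        (if e = c i j then (u i j : ℂ) • (c i j : G → ℂ) else 0) := by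
      intro e
      rw [hβ, hform]
      push_cast
      rw [add_smul, add_smul]
      congr 1
      · congr 1
        · split_ifs with h
          · rw [h]
          · simp
        · split_ifs with h
          · rw [h]
          · simp
      · split_ifs with h
        · rw [h]
        · simp
    rw [Finset.sum_congr rfl (fun e _ => h2 e), Finset.sum_add_distrib, Finset.sum_add_distrib,
      Finset.sum_ite_eq', Finset.sum_ite_eq', Finset.sum_ite_eq']
    simp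
  -- none is principal
  have hβ1 : ∀ i j, β i j (oneIrr G) = 0 := by
    intro i j
    have h2 := hβ i j (oneIrr G)
    have h3 : ((oneIrr G : IrrCharacter G) : G → ℂ) = fun _ => 1 := rfl
    rw [h3, hX] at h2
    simp only [classInner_sub_left] at h2
    rw [hone, h11, sub_self] at h2
    exact_mod_cast h2.symm
  obtain ⟨i₀⟩ : Nonempty I := by
    by_contra h
    rw [not_nonempty_iff] at h
    have h2 := card_conditions hW hodd (m := Fintype.card I) (n := Fintype.card J)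
      (by rw [← hU₂]; exact card_ann_ne hc U₂) (by rw [← hU₁]; exact card_ann_ne hc U₁)
    have h3 : Fintype.card I = 0 := Fintype.card_eq_zero_iff.mpr h
    omega
  obtain ⟨j₀⟩ : Nonempty J := by
    by_contra h
    rw [not_nonempty_iff] at h
    have h2 := card_conditions hW hodd (m := Fintype.card I) (n := Fintype.card J)
      (by rw [← hU₂]; exact card_ann_ne hc U₂) (by rw [← hU₁]; exact card_ann_ne hc U₁)
    have h3 : Fintype.card J = 0 := Fintype.card_eq_zero_iff.mpr h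
    omega
  have s0 : ∀ i, s i ≠ 0 := fun i h => by rcases hs i with h2 | h2 <;> rw [h2] at h <;> norm_num at h
  have t0 : ∀ j, t j ≠ 0 := fun i h => by rcases ht i with h2 | h2 <;> rw [h2] at h <;> norm_num at h
  have u0 : ∀ i j, u i j ≠ 0 := fun i j h => by
    rcases hu i j with h2 | h2 <;> rw [h2] at h <;> norm_num at h
  have ha1 : ∀ i, a i ≠ oneIrr G := by
    intro i h
    have h2 := hform i j₀ (a i)
    rw [if_pos rfl, if_neg (hab i j₀), if_neg (hac i i j₀), h, hβ1] at h2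
    exact s0 i (by linarith)
  have hb1 : ∀ j, b j ≠ oneIrr G := by
    intro j h
    have h2 := hform i₀ j (b j)
    rw [if_neg (hab i₀ j).symm, if_pos rfl, if_neg (hbc i₀ j j), h, hβ1] at h2
    exact t0 j (by linarith)
  have hc1 : ∀ i j, c i j ≠ oneIrr G := by
    intro i j h
    have h2 := hform i j (c i j)
    rw [if_neg (hac i i j).symm, if_neg (hbc i j j).symm, if_pos rfl, h, hβ1] at h2
    exact u0 i j (by linarith)
  -- location maps
  obtain ⟨key, hkey⟩ : ∃ key : Option (I ⊕ J ⊕ (I × J)) → IrrCharacter G,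
      key = fun o => o.elim (oneIrr G) (Sum.elim a (Sum.elim b (fun p : I × J => c p.1 p.2))) :=
    ⟨_, rfl⟩
  have hkeyinj : Function.Injective key := by
    intro x y h
    rw [hkey] at h
    rcases x with _ | x <;> rcases y with _ | y
    · rfl
    · exfalso
      rcases y with i | j | ⟨i, j⟩
      · exact ha1 i h.symm
      · exact hb1 j h.symm
      · exact hc1 i j h.symm
    · exfalso
      rcases x with i | j | ⟨i, j⟩
      · exact ha1 i h
      · exact hb1 j h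
      · exact hc1 i j h
    · exact congrArg some (hinj h)
  obtain ⟨sg, hsg⟩ : ∃ sg : Option (I ⊕ J ⊕ (I × J)) → ℤ,
      sg = fun o => o.elim 1 (Sum.elim (fun i => - s i) (Sum.elim (fun j => - t j)
        (fun p : I × J => u p.1 p.2))) := ⟨_, rfl⟩
  have hsg1 : ∀ o, sg o = 1 ∨ sg o = -1 := by
    intro o
    rw [hsg]
    rcases o with _ | (i | j | ⟨i, j⟩)
    · exact Or.inl rfl
    · rcases hs i with h | h
      · right; show - s i = -1; rw [h]
      · left; show - s i = 1; rw [h]; norm_num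
    · rcases ht j with h | h
      · right; show - t j = -1; rw [h]
      · left; show - t j = 1; rw [h]; norm_num
    · exact hu i j
  have hfac : ∀ ω : ↥(W₁ ⊔ W₂) →* ℂˣ, ∃ φ ψ : ↥(W₁ ⊔ W₂) →* ℂˣ, IsAnn U₂ φ ∧ IsAnn U₁ ψ ∧
      ω = φ * ψ := by
    rw [hU₁, hU₂]
    exact dual_factor hc hinf htop
  have huniq : ∀ {φ φ' ψ ψ' : ↥(W₁ ⊔ W₂) →* ℂˣ}, IsAnn U₂ φ → IsAnn U₂ φ' → IsAnn U₁ ψ →
      IsAnn U₁ ψ' → φ * ψ = φ' * ψ' → φ = φ' ∧ ψ = ψ' := by
    rw [hU₁, hU₂]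
    exact fun h1 h2 h3 h4 h5 => dual_unique hc hinf htop h1 h2 h3 h4 h5
  choose P Q hP hQ hPQ using hfac
  obtain ⟨loc, hloc⟩ : ∃ loc : (↥(W₁ ⊔ W₂) →* ℂˣ) → Option (I ⊕ J ⊕ (I × J)), loc = fun ω =>
      if h1 : P ω = 1 then (if h2 : Q ω = 1 then none else some (Sum.inr (Sum.inl ⟨Q ω, hQ ω, h2⟩)))
      else (if h2 : Q ω = 1 then some (Sum.inl ⟨P ω, hP ω, h1⟩) else
        some (Sum.inr (Sum.inr (⟨P ω, hP ω, h1⟩, ⟨Q ω, hQ ω, h2⟩)))) := ⟨_, rfl⟩
  have one_mul' : ∀ ω : ↥(W₁ ⊔ W₂) →* ℂˣ, (1 : ↥(W₁ ⊔ W₂) →* ℂˣ) * ω = ω := by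
    intro ω; ext; simp
  have mul_one' : ∀ ω : ↥(W₁ ⊔ W₂) →* ℂˣ, ω * (1 : ↥(W₁ ⊔ W₂) →* ℂˣ) = ω := by
    intro ω; ext; simp
  have hlocinj : Function.Injective loc := by
    have hleft : ∀ ω, (loc ω).elim (1 : ↥(W₁ ⊔ W₂) →* ℂˣ)
        (Sum.elim (fun i : I => i.1) (Sum.elim (fun j : J => j.1) (fun p : I × J => p.1.1 * p.2.1))) =
        ω := by
      intro ω
      rw [hloc]
      simp only
      by_cases h1 : P ω = 1
      · by_cases h2 : Q ω = 1
        · rw [dif_pos h1, dif_pos h2, hPQ ω, h1, h2]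
          exact (one_mul' 1).symm
        · rw [dif_pos h1, dif_neg h2]
          show Q ω = ω
          conv_rhs => rw [hPQ ω, h1]
          exact (one_mul' _).symm
      · by_cases h2 : Q ω = 1
        · rw [dif_neg h1, dif_pos h2]
          show P ω = ω
          conv_rhs => rw [hPQ ω, h2]
          exact (mul_one' _).symm
        · rw [dif_neg h1, dif_neg h2]
          exact (hPQ ω).symm
    intro ω ω' h
    rw [← hleft ω, ← hleft ω', h]
  have hPQ1 : ∀ φ, IsAnn U₂ φ → P φ = φ ∧ Q φ = 1 := by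
    intro φ hφ
    obtain ⟨h1, h2⟩ := huniq (hP φ) hφ (hQ φ) (IsAnn.one U₁) (by rw [← hPQ φ, mul_one'])
    exact ⟨h1, h2⟩
  have hPQ2 : ∀ ψ, IsAnn U₁ ψ → P ψ = 1 ∧ Q ψ = ψ := by
    intro ψ hψ
    obtain ⟨h1, h2⟩ := huniq (hP ψ) (IsAnn.one U₂) (hQ ψ) hψ (by rw [← hPQ ψ, one_mul'])
    exact ⟨h1, h2⟩
  have hPQ3 : ∀ φ ψ, IsAnn U₂ φ → IsAnn U₁ ψ → P (φ * ψ) = φ ∧ Q (φ * ψ) = ψ := by
    intro φ ψ hφ hψ
    exact huniq (hP _) hφ (hQ _) hψ (hPQ _).symm
  have loc1 : loc 1 = none := by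
    rw [hloc]
    simp only
    rw [dif_pos (hPQ1 1 (IsAnn.one U₂)).1, dif_pos (hPQ1 1 (IsAnn.one U₂)).2]
  have locI : ∀ i : I, loc i.1 = some (Sum.inl i) := by
    intro i
    obtain ⟨h1, h2⟩ := hPQ1 i.1 i.2.1
    rw [hloc]
    simp only
    rw [dif_neg (by rw [h1]; exact i.2.2), dif_pos h2]
    simp only [h1]
    rfl
  have locJ : ∀ j : J, loc j.1 = some (Sum.inr (Sum.inl j)) := by
    intro j
    obtain ⟨h1, h2⟩ := hPQ2 j.1 j.2.1
    rw [hloc]
    simp only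
    rw [dif_pos h1, dif_neg (by rw [h2]; exact j.2.2)]
    simp only [h2]
    rfl
  have locIJ : ∀ (i : I) (j : J), loc (i.1 * j.1) = some (Sum.inr (Sum.inr (i, j))) := by
    intro i j
    obtain ⟨h1, h2⟩ := hPQ3 i.1 j.1 i.2.1 j.2.1
    rw [hloc]
    simp only
    rw [dif_neg (by rw [h1]; exact i.2.2), dif_neg (by rw [h2]; exact j.2.2)]
    simp only [h1, h2]
    rfl
  obtain ⟨χ, hχ⟩ : ∃ χ : (↥(W₁ ⊔ W₂) →* ℂˣ) → (G → ℂ), χ = fun ω =>
    (sg (loc ω) : ℂ) • (key (loc ω) : G → ℂ) := ⟨_, rfl⟩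
  have hirr : ∀ ω, IsIrrCharacter G (χ ω) ∨ IsIrrCharacter G (-χ ω) := by
    intro ω
    rw [hχ]
    simp only
    rcases hsg1 (loc ω) with h | h
    · left; rw [h]; simp; exact (key (loc ω)).2
    · right; rw [h]; simp; exact (key (loc ω)).2
  have horth : ∀ ω ω', classInner (χ ω) (χ ω') = if ω = ω' then 1 else 0 := by
    intro ω ω'
    rw [hχ]
    simp only [classInner_smul_left, classInner_smul_right]
    rw [classInner_irr']
    by_cases h : ω = ω'
    · subst h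
      rw [if_pos rfl, if_pos rfl]
      rcases hsg1 (loc ω) with h | h <;> rw [h] <;> simp
    · rw [if_neg h, if_neg (fun h' => h (hlocinj (hkeyinj h')))]
      simp
  have hmap1 : χ 1 = fun _ => 1 := by
    rw [hχ]
    simp only
    rw [loc1, hsg, hkey]
    funext g
    simp
  have hind : ∀ φ ψ : ↥(W₁ ⊔ W₂) →* ℂˣ, φ ≠ 1 → ψ ≠ 1 → IsAnn U₂ φ → IsAnn U₁ ψ →
      indFun (W₁ ⊔ W₂) (al φ ψ) = fun g => 1 - χ φ g - χ ψ g + χ (φ * ψ) g := by
    intro φ ψ h1 h2 h3 h4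
    have h5 := hXform ⟨φ, h3, h1⟩ ⟨ψ, h4, h2⟩
    have e1 : χ φ = -((s ⟨φ, h3, h1⟩ : ℂ) • (a ⟨φ, h3, h1⟩ : G → ℂ)) := by
      rw [hχ]
      simp only
      rw [locI ⟨φ, h3, h1⟩, hsg, hkey]
      simp
    have e2 : χ ψ = -((t ⟨ψ, h4, h2⟩ : ℂ) • (b ⟨ψ, h4, h2⟩ : G → ℂ)) := by
      rw [hχ]
      simp only
      rw [locJ ⟨ψ, h4, h2⟩, hsg, hkey]
      simp
    have e3 : χ (φ * ψ) = ((u ⟨φ, h3, h1⟩ ⟨ψ, h4, h2⟩ : ℂ) •
        (c ⟨φ, h3, h1⟩ ⟨ψ, h4, h2⟩ : G → ℂ)) := by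
      rw [hχ]
      simp only
      rw [locIJ ⟨φ, h3, h1⟩ ⟨ψ, h4, h2⟩, hsg, hkey]
      simp
    rw [hX] at h5
    simp only at h5
    funext g
    have h6 := congrFun h5 g
    simp only [Pi.sub_apply, Pi.add_apply, Pi.smul_apply, smul_eq_mul] at h6
    rw [e1, e2, e3]
    simp only [Pi.neg_apply, Pi.smul_apply, smul_eq_mul]
    linear_combination h6
  refine ⟨χ, hirr, ?_, hmap1, ?_, ?_⟩
  · intro ω ω'
    rw [horth]
    by_cases h : ω = ω' <;> simp [h]
  · intro ω w hw₁ hw₂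
    have hcf : IsClassFunction G (χ ω) := by
      rcases hirr ω with h | h
      · exact irr_classFun h
      · have := classFun_neg (irr_classFun h)
        rwa [neg_neg] at this
    have h0 := vanish_of_inner hc hinf (fun w : ↥(W₁ ⊔ W₂) => χ ω w - (ω w : ℂ)) ?_ (w₀ := w)
      (fun h => hw₁ (Subgroup.mem_subgroupOf.mp h)) (fun h => hw₂ (Subgroup.mem_subgroupOf.mp h))
    · exact sub_eq_zero.mp h0
    intro φ ψ h3 h4
    rw [← hU₂] at h3
    rw [← hU₁] at h4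
    by_cases h1 : φ = 1
    · subst h1
      have : al (1 : ↥(W₁ ⊔ W₂) →* ℂˣ) ψ = 0 := by funext w; simp [al]
      rw [this, classInner_zero_right]
    by_cases h2 : ψ = 1
    · subst h2
      have : al φ (1 : ↥(W₁ ⊔ W₂) →* ℂˣ) = 0 := by funext w; simp [al]
      rw [this, classInner_zero_right]
    have h5 : (fun w : ↥(W₁ ⊔ W₂) => χ ω w - (ω w : ℂ)) =
      (fun w : ↥(W₁ ⊔ W₂) => χ ω w) - hf ω := rfl
    rw [h5, classInner_sub_left, ← frobenius_reciprocity' (W₁ ⊔ W₂) (al φ ψ) hcf,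
      hind φ ψ h1 h2 h3 h4]
    have h6 : (fun g => 1 - χ φ g - χ ψ g + χ (φ * ψ) g) = χ 1 - χ φ - χ ψ + χ (φ * ψ) := by
      rw [hmap1]; rfl
    rw [h6, al_eq]
    simp only [classInner_add_right, classInner_sub_right, horth, inner_hf]
    ring
  · intro φ ψ h1 h2 h3 h4
    have h5 := hind φ ψ h1 h2 (by rw [hU₂]; exact isAnn_iff.mpr h3) (by rw [hU₁]; exact isAnn_iff.mpr h4)
    exact h5

end Cfsg.Agent.H11.PF
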