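import Cfsg.Agent.H11.PF17
import Cfsg.Agent.H3.Galois3
import Cfsg.Agent.H3.TICoh

/-!
PF section 3: uniqueness and Galois equivariance of the cyclic TI family.
-/
set_option autoImplicit false

namespace Cfsg.Agent.H11.PF

open Cfsg Cfsg.Agent.H3 Cfsg.Agent.H27 ComplexConjugate

universe u v w

section pm

variable {G : Type u} [Group G] [Fintype G]

theorem pm_self {f : G → ℂ} (hf : IsIrrCharacter G f ∨ IsIrrCharacter G (-f)) :
    classInner f f = 1 := by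
  rcases hf with h | h
  · exact classInner_self_of_irr h
  · have h1 := classInner_self_of_irr h
    rw [classInner_neg_left, classInner_neg_right, neg_neg] at h1
    exact h1

theorem pm_cases {f g : G → ℂ} (hf : IsIrrCharacter G f ∨ IsIrrCharacter G (-f))
    (hg : IsIrrCharacter G g ∨ IsIrrCharacter G (-g)) : f = g ∨ f = -g ∨ classInner f g = 0 := by
  classical
  rcases hf with h | h <;> rcases hg with h' | h'
  · have h1 := classInner_irr h h'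
    by_cases e : f = g
    · exact Or.inl e
    · rw [if_neg e] at h1
      exact Or.inr (Or.inr h1)
  · have h1 := classInner_irr h h'
    by_cases e : f = -g
    · exact Or.inr (Or.inl e)
    · rw [if_neg e, classInner_neg_right, neg_eq_zero] at h1
      exact Or.inr (Or.inr h1)
  · have h1 := classInner_irr h h'
    by_cases e : -f = g
    · exact Or.inr (Or.inl (neg_eq_iff_eq_neg.mp e))
    · rw [if_neg e, classInner_neg_left, neg_eq_zero] at h1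
      exact Or.inr (Or.inr h1)
  · have h1 := classInner_irr h h'
    by_cases e : -f = -g
    · exact Or.inl (neg_inj.mp e)
    · rw [if_neg e, classInner_neg_left, classInner_neg_right, neg_neg] at h1
      exact Or.inr (Or.inr h1)

theorem three_cases {x y z a : G → ℂ} (hx : IsIrrCharacter G x ∨ IsIrrCharacter G (-x))
    (hy : IsIrrCharacter G y ∨ IsIrrCharacter G (-y)) (hz : IsIrrCharacter G z ∨ IsIrrCharacter G (-z))
    (ha : IsIrrCharacter G a ∨ IsIrrCharacter G (-a)) (hxy : classInner x y = 0)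
    (hxz : classInner x z = 0) (hyz : classInner y z = 0)
    (h : classInner (z - x - y) a = -1) : x = a ∨ y = a ∨ z = -a := by
  rw [classInner_sub_left, classInner_sub_left] at h
  have saa := pm_self ha
  rcases pm_cases hx ha with h1 | h1 | h1
  · exact Or.inl h1
  · subst h1
    rw [classInner_neg_left, neg_eq_zero] at hxy hxz
    rw [classInner_neg_left, saa] at h
    have e1 : classInner y a = 0 := by
      rw [← classInner_conj_symm, hxy, map_zero]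
    have e2 : classInner z a = 0 := by
      rw [← classInner_conj_symm, hxz, map_zero]
    rw [e1, e2] at h
    norm_num at h
  · rw [h1] at h
    rcases pm_cases hy ha with h2 | h2 | h2
    · exact Or.inr (Or.inl h2)
    · subst h2
      rw [classInner_neg_left, neg_eq_zero] at hyz
      rw [classInner_neg_left, saa] at h
      have e2 : classInner z a = 0 := by
        rw [← classInner_conj_symm, hyz, map_zero]
      rw [e2] at h
      norm_num at h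
    · rw [h2] at h
      rcases pm_cases hz ha with h3 | h3 | h3
      · subst h3
        rw [saa] at h
        norm_num at h
      · exact Or.inr (Or.inr h3)
      · rw [h3] at h
        norm_num at h

end pm

variable {G : Type u} [Group G] [Fintype G] {W₁ W₂ : Subgroup G}

theorem inv_ne_self {W : Type u} [Group W] [Finite W]
    (hodd : Odd (Nat.card W)) {ψ : W →* ℂˣ} (h : ψ ≠ 1) : ψ⁻¹ ≠ ψ := by
  intro e
  apply h
  obtain ⟨k, hk⟩ := hodd
  ext w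
  have h0 : (ψ w)⁻¹ = ψ w := congrArg (fun f : W →* ℂˣ => f w) e
  have h2 : ψ w * ψ w = 1 := by
    conv_lhs => rw [← h0]
    rw [h0, ← mul_inv_cancel (ψ w), h0]
  have h1 : ψ w ^ (2 * k + 1) = 1 := by
    rw [← map_pow, ← hk, pow_card_eq_one', map_one]
  rw [pow_succ, pow_mul, sq, h2, one_pow, one_mul] at h1
  rw [h1]
  rfl

theorem exists_ne_one (hW : IsSelfNormalizingCyclic W₁ W₂) :
    (∃ φ : ↥(W₁ ⊔ W₂) →* ℂˣ, IsAnn (W₂.subgroupOf (W₁ ⊔ W₂)) φ ∧ φ ≠ 1) ∧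
    (∃ ψ : ↥(W₁ ⊔ W₂) →* ℂˣ, IsAnn (W₁.subgroupOf (W₁ ⊔ W₂)) ψ ∧ ψ ≠ 1) := by
  have hc := comm_of_selfnorm hW
  constructor
  · obtain ⟨⟨w, hw⟩, hw0⟩ := Subgroup.ne_bot_iff_exists_ne_one.mp hW.1
    have hw1 : w ≠ 1 := fun h => hw0 (Subtype.ext h)
    have h1 : (⟨w, Subgroup.mem_sup_left hw⟩ : ↥(W₁ ⊔ W₂)) ∉ W₂.subgroupOf (W₁ ⊔ W₂) := by
      intro h
      have h2 : w ∈ W₁ ⊓ W₂ := ⟨hw, Subgroup.mem_subgroupOf.mp h⟩
      rw [hW.2.2.1] at h2
      exact hw1 (Subgroup.mem_bot.mp h2)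
    obtain ⟨φ, h2, h3⟩ := exists_ann hc _ h1
    exact ⟨φ, h2, fun h => h3 (by rw [h]; rfl)⟩
  · obtain ⟨⟨w, hw⟩, hw0⟩ := Subgroup.ne_bot_iff_exists_ne_one.mp hW.2.1
    have hw1 : w ≠ 1 := fun h => hw0 (Subtype.ext h)
    have h1 : (⟨w, Subgroup.mem_sup_right hw⟩ : ↥(W₁ ⊔ W₂)) ∉ W₁.subgroupOf (W₁ ⊔ W₂) := by
      intro h
      have h2 : w ∈ W₁ ⊓ W₂ := ⟨Subgroup.mem_subgroupOf.mp h, hw⟩
      rw [hW.2.2.1] at h2
      exact hw1 (Subgroup.mem_bot.mp h2)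
    obtain ⟨φ, h2, h3⟩ := exists_ann hc _ h1
    exact ⟨φ, h2, fun h => h3 (by rw [h]; rfl)⟩

/-- two lines through the same point determine it. -/
theorem hub_unique {ι : Type v} {X X' : ι → G → ℂ}
    (hX : ∀ i, IsIrrCharacter G (X i) ∨ IsIrrCharacter G (-X i))
    (hX' : ∀ i, IsIrrCharacter G (X' i) ∨ IsIrrCharacter G (-X' i))
    (oX : ∀ i j, i ≠ j → classInner (X i) (X j) = 0)
    (oX' : ∀ i j, i ≠ j → classInner (X' i) (X' j) = 0) {p a b c d : ι}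
    (hpa : p ≠ a) (hpb : p ≠ b) (hpc : p ≠ c) (hpd : p ≠ d) (hab : a ≠ b) (hac : a ≠ c)
    (had : a ≠ d) (hbc : b ≠ c) (hbd : b ≠ d) (hcd : c ≠ d)
    (h1 : X b - X p - X a = X' b - X' p - X' a)
    (h2 : X d - X p - X c = X' d - X' p - X' c) : X' p = X p := by
  have e1 : classInner (X' b - X' p - X' a) (X p) = -1 := by
    rw [← h1, classInner_sub_left, classInner_sub_left, oX b p hpb.symm, oX a p hpa.symm,
      pm_self (hX p)]
    ring
  have e2 : classInner (X' d - X' p - X' c) (X p) = -1 := by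
    rw [← h2, classInner_sub_left, classInner_sub_left, oX d p hpd.symm, oX c p hpc.symm,
      pm_self (hX p)]
    ring
  have f1 := three_cases (hX' p) (hX' a) (hX' b) (hX p) (oX' p a hpa) (oX' p b hpb) (oX' a b hab) e1
  have f2 := three_cases (hX' p) (hX' c) (hX' d) (hX p) (oX' p c hpc) (oX' p d hpd) (oX' c d hcd) e2
  have key : ∀ i j, i ≠ j → ¬ ((X' i = X p ∨ X' i = - X p) ∧ (X' j = X p ∨ X' j = - X p)) := by
    rintro i j hij ⟨hi | hi, hj | hj⟩ <;>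
    · have := oX' i j hij
      rw [hi, hj] at this
      simp only [classInner_neg_left, classInner_neg_right, pm_self (hX p)] at this
      norm_num at this
  rcases f1 with f1 | f1 | f1
  · exact f1
  · rcases f2 with f2 | f2 | f2
    · exact f2
    · exact absurd ⟨Or.inl f1, Or.inl f2⟩ (key a c hac)
    · exact absurd ⟨Or.inl f1, Or.inr f2⟩ (key a d had)
  · rcases f2 with f2 | f2 | f2
    · exact f2
    · exact absurd ⟨Or.inr f1, Or.inl f2⟩ (key b c hbc)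
    · exact absurd ⟨Or.inr f1, Or.inr f2⟩ (key b d hbd)

theorem family_unique (hW : IsSelfNormalizingCyclic W₁ W₂) (hodd : Odd (Nat.card ↥(W₁ ⊔ W₂)))
    {χ χ' : (↥(W₁ ⊔ W₂) →* ℂˣ) → (G → ℂ)} (hχ : IsCyclicTIFamily W₁ W₂ χ)
    (hχ' : IsCyclicTIFamily W₁ W₂ χ') : χ' = χ := by
  classical
  have hc := comm_of_selfnorm hW
  have hinf := sub_inf hW.2.2.1
  have htop := sub_top (W₁ := W₁) (W₂ := W₂)
  have o : ∀ i j, i ≠ j → classInner (χ i) (χ j) = 0 := fun i j h => by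
    rw [hχ.orthonormal, if_neg h]
  have o' : ∀ i j, i ≠ j → classInner (χ' i) (χ' j) = 0 := fun i j h => by
    rw [hχ'.orthonormal, if_neg h]
  have line : ∀ φ ψ : ↥(W₁ ⊔ W₂) →* ℂˣ, IsAnn (W₂.subgroupOf (W₁ ⊔ W₂)) φ →
      IsAnn (W₁.subgroupOf (W₁ ⊔ W₂)) ψ → 
      χ (φ * ψ) - χ φ - χ ψ = χ' (φ * ψ) - χ' φ - χ' ψ := by
    intro φ ψ hφ hψ
    have h1 := ind_al_eq hχ hφ hψ
    rw [ind_al_eq hχ' hφ hψ, hχ.map_one, hχ'.map_one] at h1
    funext g
    have := congrFun h1 g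
    simp only [Pi.sub_apply, Pi.add_apply] at this ⊢
    linear_combination -this
  have ne1 : ∀ φ ψ : ↥(W₁ ⊔ W₂) →* ℂˣ, IsAnn (W₂.subgroupOf (W₁ ⊔ W₂)) φ →
      IsAnn (W₁.subgroupOf (W₁ ⊔ W₂)) ψ → φ ≠ 1 → φ ≠ ψ := by
    rintro φ ψ hφ hψ h1 rfl
    exact h1 (ann_both htop hψ hφ)
  have ne2 : ∀ φ ψ φ' ψ' : ↥(W₁ ⊔ W₂) →* ℂˣ, IsAnn (W₂.subgroupOf (W₁ ⊔ W₂)) φ →
      IsAnn (W₁.subgroupOf (W₁ ⊔ W₂)) ψ → IsAnn (W₂.subgroupOf (W₁ ⊔ W₂)) φ' →
      IsAnn (W₁.subgroupOf (W₁ ⊔ W₂)) ψ' → ¬ (φ = φ' ∧ ψ = ψ') → φ * ψ ≠ φ' * ψ' := by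
    intro φ ψ φ' ψ' a b c d e h
    exact e (dual_unique hc hinf htop a c b d h)
  have one_mul' : ∀ ω : ↥(W₁ ⊔ W₂) →* ℂˣ, 1 * ω = ω := by intro ω; ext w; simp
  have mul_one' : ∀ ω : ↥(W₁ ⊔ W₂) →* ℂˣ, ω * 1 = ω := by intro ω; ext w; simp
  obtain ⟨⟨φ₀, hφ₀, nφ₀⟩, ⟨ψ₀, hψ₀, nψ₀⟩⟩ := exists_ne_one hW
  have iφ₀ := inv_ne_self hodd nφ₀
  have iψ₀ := inv_ne_self hodd nψ₀
  have nφ₀' : φ₀⁻¹ ≠ 1 := by
    intro h
    apply nφ₀
    ext w
    have := congrArg (fun f : ↥(W₁ ⊔ W₂) →* ℂˣ => f w) h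
    simp only [MonoidHom.inv_apply, MonoidHom.one_apply, inv_eq_one] at this
    rw [this]; rfl
  have nψ₀' : ψ₀⁻¹ ≠ 1 := by
    intro h
    apply nψ₀
    ext w
    have := congrArg (fun f : ↥(W₁ ⊔ W₂) →* ℂˣ => f w) h
    simp only [MonoidHom.inv_apply, MonoidHom.one_apply, inv_eq_one] at this
    rw [this]; rfl
  have A : ∀ φ, IsAnn (W₂.subgroupOf (W₁ ⊔ W₂)) φ → φ ≠ 1 → χ' φ = χ φ := by
    intro φ hφ nφ
    refine hub_unique hχ.irr_or_neg hχ'.irr_or_neg o o' (p := φ) (a := ψ₀) (b := φ * ψ₀)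
      (c := ψ₀⁻¹) (d := φ * ψ₀⁻¹) (ne1 _ _ hφ hψ₀ nφ) ?_ (ne1 _ _ hφ hψ₀.inv nφ) ?_ ?_ iψ₀.symm ?_
      ?_ ?_ ?_ (line _ _ hφ hψ₀) (line _ _ hφ hψ₀.inv)
    · conv_lhs => rw [← mul_one' φ]
      exact ne2 _ _ _ _ hφ (IsAnn.one _) hφ hψ₀ (fun h => nψ₀ h.2.symm)
    · conv_lhs => rw [← mul_one' φ]
      exact ne2 _ _ _ _ hφ (IsAnn.one _) hφ hψ₀.inv (fun h => nψ₀' h.2.symm)
    · conv_lhs => rw [← one_mul' ψ₀]
      exact ne2 _ _ _ _ (IsAnn.one _) hψ₀ hφ hψ₀ (fun h => nφ h.1.symm)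
    · conv_lhs => rw [← one_mul' ψ₀]
      exact ne2 _ _ _ _ (IsAnn.one _) hψ₀ hφ hψ₀.inv (fun h => nφ h.1.symm)
    · conv_rhs => rw [← one_mul' ψ₀⁻¹]
      exact ne2 _ _ _ _ hφ hψ₀ (IsAnn.one _) hψ₀.inv (fun h => nφ h.1)
    · exact ne2 _ _ _ _ hφ hψ₀ hφ hψ₀.inv (fun h => iψ₀ h.2.symm)
    · conv_lhs => rw [← one_mul' ψ₀⁻¹]
      exact ne2 _ _ _ _ (IsAnn.one _) hψ₀.inv hφ hψ₀.inv (fun h => nφ h.1.symm)
  have B : ∀ ψ, IsAnn (W₁.subgroupOf (W₁ ⊔ W₂)) ψ → ψ ≠ 1 → χ' ψ = χ ψ := by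
    intro ψ hψ nψ
    have l1 := line _ _ hφ₀ hψ
    have l2 := line _ _ hφ₀.inv hψ
    refine hub_unique hχ.irr_or_neg hχ'.irr_or_neg o o' (p := ψ) (a := φ₀) (b := φ₀ * ψ)
      (c := φ₀⁻¹) (d := φ₀⁻¹ * ψ) (ne1 _ _ hφ₀ hψ nφ₀).symm ?_ (ne1 _ _ hφ₀.inv hψ nφ₀').symm ?_ ?_
      iφ₀.symm ?_ ?_ ?_ ?_ ?_ ?_
    · conv_lhs => rw [← one_mul' ψ]
      exact ne2 _ _ _ _ (IsAnn.one _) hψ hφ₀ hψ (fun h => nφ₀ h.1.symm)
    · conv_lhs => rw [← one_mul' ψ]
      exact ne2 _ _ _ _ (IsAnn.one _) hψ hφ₀.inv hψ (fun h => nφ₀' h.1.symm)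
    · conv_lhs => rw [← mul_one' φ₀]
      exact ne2 _ _ _ _ hφ₀ (IsAnn.one _) hφ₀ hψ (fun h => nψ h.2.symm)
    · conv_lhs => rw [← mul_one' φ₀]
      exact ne2 _ _ _ _ hφ₀ (IsAnn.one _) hφ₀.inv hψ (fun h => nψ h.2.symm)
    · conv_rhs => rw [← mul_one' φ₀⁻¹]
      exact ne2 _ _ _ _ hφ₀ hψ hφ₀.inv (IsAnn.one _) (fun h => nψ h.2)
    · exact ne2 _ _ _ _ hφ₀ hψ hφ₀.inv hψ (fun h => iφ₀ h.1.symm)
    · conv_lhs => rw [← mul_one' φ₀⁻¹]
      exact ne2 _ _ _ _ hφ₀.inv (IsAnn.one _) hφ₀.inv hψ (fun h => nψ h.2.symm)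
    · funext g
      have := congrFun l1 g
      simp only [Pi.sub_apply] at this ⊢
      linear_combination this
    · funext g
      have := congrFun l2 g
      simp only [Pi.sub_apply] at this ⊢
      linear_combination this
  funext ω
  obtain ⟨φ, ψ, hφ, hψ, rfl⟩ := dual_factor hc hinf htop ω
  have a : χ' φ = χ φ := by
    by_cases h : φ = 1
    · rw [h, hχ.map_one, hχ'.map_one]
    · exact A φ hφ h
  have b : χ' ψ = χ ψ := by
    by_cases h : ψ = 1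
    · rw [h, hχ.map_one, hχ'.map_one]
    · exact B ψ hψ h
  have l := line _ _ hφ hψ
  rw [a, b] at l
  funext g
  have := congrFun l g
  simp only [Pi.sub_apply] at this
  linear_combination -this

/-- Galois twist of the family. -/
theorem family_galois {χ : (↥(W₁ ⊔ W₂) →* ℂˣ) → (G → ℂ)} (hχ : IsCyclicTIFamily W₁ W₂ χ)
    (σ : ℂ ≃+* ℂ) :
    IsCyclicTIFamily W₁ W₂ (fun ω g =>
      σ (χ ((Units.map (σ.symm : ℂ →* ℂ)).comp ω) g)) := by
  classical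
  have inj : ∀ ω ω' : ↥(W₁ ⊔ W₂) →* ℂˣ, (Units.map (σ.symm : ℂ →* ℂ)).comp ω =
      (Units.map (σ.symm : ℂ →* ℂ)).comp ω' → ω = ω' := by
    intro ω ω' h
    ext w
    have := congrArg (fun f : ↥(W₁ ⊔ W₂) →* ℂˣ => ((f w : ℂˣ) : ℂ)) h
    exact σ.symm.injective this
  have pm : ∀ ω : ↥(W₁ ⊔ W₂) →* ℂˣ, IsIrrCharacter G (fun g => σ (χ ω g)) ∨
      IsIrrCharacter G (-(fun g => σ (χ ω g))) := by
    intro ω
    rcases hχ.irr_or_neg ω with h | h
    · exact Or.inl (isIrr_ringEquiv h σ)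
    · right
      have := isIrr_ringEquiv h σ
      convert this using 1
      funext g
      simp
  refine ⟨fun ω => pm _, ?_, ?_, ?_, ?_⟩
  · intro ω ω'
    by_cases e : ω = ω'
    · rw [if_pos e, e]
      exact pm_self (pm _)
    · rw [if_neg e]
      have h1 : (Units.map (σ.symm : ℂ →* ℂ)).comp ω ≠ (Units.map (σ.symm : ℂ →* ℂ)).comp ω' :=
        fun h => e (inj _ _ h)
      have h2 := hχ.orthonormal ((Units.map (σ.symm : ℂ →* ℂ)).comp ω)
        ((Units.map (σ.symm : ℂ →* ℂ)).comp ω')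
      rw [if_neg h1] at h2
      rcases pm_cases (pm ((Units.map (σ.symm : ℂ →* ℂ)).comp ω))
        (pm ((Units.map (σ.symm : ℂ →* ℂ)).comp ω')) with h3 | h3 | h3
      · have h4 : χ ((Units.map (σ.symm : ℂ →* ℂ)).comp ω) =
            χ ((Units.map (σ.symm : ℂ →* ℂ)).comp ω') := by
          funext g
          exact σ.injective (congrFun h3 g)
        rw [h4, pm_self (hχ.irr_or_neg _)] at h2
        norm_num at h2
      · have h4 : χ ((Units.map (σ.symm : ℂ →* ℂ)).comp ω) =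
            -χ ((Units.map (σ.symm : ℂ →* ℂ)).comp ω') := by
          funext g
          apply σ.injective
          rw [Pi.neg_apply, map_neg]
          exact congrFun h3 g
        rw [h4, classInner_neg_left, pm_self (hχ.irr_or_neg _)] at h2
        norm_num at h2
      · exact h3
  · have h1 : (Units.map (σ.symm : ℂ →* ℂ)).comp (1 : ↥(W₁ ⊔ W₂) →* ℂˣ) = 1 := by
      ext w; simp
    show (fun g => σ (χ ((Units.map (σ.symm : ℂ →* ℂ)).comp (1 : ↥(W₁ ⊔ W₂) →* ℂˣ)) g)) = _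
    rw [h1, hχ.map_one]
    funext g
    exact map_one σ
  · intro ω w h1 h2
    show σ (χ ((Units.map (σ.symm : ℂ →* ℂ)).comp ω) w) = _
    rw [hχ.eq_on _ w h1 h2]
    exact σ.apply_symm_apply _
  · intro φ ψ h1 h2 h3 h4
    have k1 : (Units.map (σ.symm : ℂ →* ℂ)).comp φ ≠ 1 := by
      intro h
      apply h1
      apply inj
      rw [h]
      ext w; simp
    have k2 : (Units.map (σ.symm : ℂ →* ℂ)).comp ψ ≠ 1 := by
      intro h
      apply h2
      apply inj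
      rw [h]
      ext w; simp
    have k3 := hχ.induced_eq _ _ k1 k2 (fun w hw => by
        rw [MonoidHom.comp_apply, h3 w hw, map_one]) (fun w hw => by
        rw [MonoidHom.comp_apply, h4 w hw, map_one])
    have k4 : (Units.map (σ.symm : ℂ →* ℂ)).comp φ * (Units.map (σ.symm : ℂ →* ℂ)).comp ψ =
        (Units.map (σ.symm : ℂ →* ℂ)).comp (φ * ψ) := by
      ext w; simp
    rw [k4] at k3
    have k5 : indFun (W₁ ⊔ W₂) (fun w => 1 - (φ w : ℂ) - (ψ w : ℂ) + (φ w : ℂ) * (ψ w : ℂ)) =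
        fun g => σ (indFun (W₁ ⊔ W₂) (fun w => 1 - (((Units.map (σ.symm : ℂ →* ℂ)).comp φ) w : ℂ)
          - (((Units.map (σ.symm : ℂ →* ℂ)).comp ψ) w : ℂ) + 
          (((Units.map (σ.symm : ℂ →* ℂ)).comp φ) w : ℂ) *
            (((Units.map (σ.symm : ℂ →* ℂ)).comp ψ) w : ℂ)) g) := by
      funext g
      unfold indFun
      rw [map_mul, map_inv₀, map_natCast, map_sum]
      congr 1
      refine Finset.sum_congr rfl fun x _ => ?_
      unfold extendByZero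
      refine Eq.trans ?_ (Function.apply_extend (σ : ℂ → ℂ) _ _ _).symm
      congr 1
      · funext w
        simp
      · funext w
        simp
    rw [k5, k3]
    funext g
    rw [map_add, map_sub, map_sub, map_one]

/-- `σ (χ ω g) = χ (σ ∘ ω) g`. -/
theorem family_galois_apply (hW : IsSelfNormalizingCyclic W₁ W₂)
    (hodd : Odd (Nat.card ↥(W₁ ⊔ W₂))) {χ : (↥(W₁ ⊔ W₂) →* ℂˣ) → (G → ℂ)}
    (hχ : IsCyclicTIFamily W₁ W₂ χ) (σ : ℂ ≃+* ℂ) (ω : ↥(W₁ ⊔ W₂) →* ℂˣ) (g : G) :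
    σ (χ ω g) = χ ((Units.map (σ : ℂ →* ℂ)).comp ω) g := by
  have h := family_unique hW hodd hχ (family_galois hχ σ)
  have h1 := congrFun (congrFun h ((Units.map (σ : ℂ →* ℂ)).comp ω)) g
  rw [← h1]
  have h2 : (Units.map (σ.symm : ℂ →* ℂ)).comp ((Units.map (σ : ℂ →* ℂ)).comp ω) = ω := by
    ext w; simp
  show _ = σ (χ ((Units.map (σ.symm : ℂ →* ℂ)).comp ((Units.map (σ : ℂ →* ℂ)).comp ω)) g)
  rw [h2]

/-- `χ ω (g ^ k) = χ (ω ^ k) g` for `k` prime to `|G|`. -/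
theorem family_pow (hW : IsSelfNormalizingCyclic W₁ W₂)
    (hodd : Odd (Nat.card ↥(W₁ ⊔ W₂))) {χ : (↥(W₁ ⊔ W₂) →* ℂˣ) → (G → ℂ)}
    (hχ : IsCyclicTIFamily W₁ W₂ χ) (ω : ↥(W₁ ⊔ W₂) →* ℂˣ) (g : G) {k : ℕ}
    (hk : k.Coprime (Nat.card G)) : χ ω (g ^ k) = χ (ω ^ k) g := by
  have hn : Nat.card G ≠ 0 := Nat.card_pos.ne'
  obtain ⟨σ, hσ⟩ := exists_ringEquiv_pow hn hk
  have h1 := family_galois_apply hW hodd hχ σ ω g
  have h2 : (Units.map (σ : ℂ →* ℂ)).comp ω = ω ^ k := by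
    ext w
    show σ (ω w : ℂ) = _
    rw [hσ]
    · simp
    · rw [← Units.val_pow_eq_pow_val, ← map_pow]
      have : w ^ Nat.card G = 1 := by
        apply Subtype.ext
        exact pow_card_eq_one' (x := (w : G))
      rw [this, map_one]
      rfl
  rw [h2] at h1
  rw [← h1]
  rcases hχ.irr_or_neg ω with h | h
  · exact (char_galois_apply (irr_isChar h) (σ : ℂ →+* ℂ) hn hσ (pow_card_eq_one' (x := g))).symm
  · have h3 := char_galois_apply (irr_isChar h) (σ : ℂ →+* ℂ) hn hσ (pow_card_eq_one' (x := g))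
    simp only [Pi.neg_apply, map_neg, neg_inj] at h3
    exact h3.symm

end Cfsg.Agent.H11.PF
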