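import Cfsg.Agent.H11.PF1
import Cfsg.Agent.H3.DetExt
import Cfsg.Agent.H3.Gallagher
import Cfsg.Agent.H27.Kernel
import Cfsg.Agent.H3.Integral

/-!
PF section 1: inertia factor abelian.
-/
set_option autoImplicit false

namespace Cfsg.Agent.H11.PF

open Cfsg Cfsg.Agent.H3 Cfsg.Agent.H27 ComplexConjugate

universe u v

variable {G : Type u} [Group G] [Fintype G] {N : Subgroup G} (hN : N.Normal)

include hN in
theorem over_eq_twist [Fintype N] (hab : ∀ x y : G, x * y * x⁻¹ * y⁻¹ ∈ N) {ψ ψ' : G → ℂ}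
    (hψ : IsIrrCharacter G ψ) (hψ' : IsIrrCharacter G ψ')
    (h : classInner (fun n : N => ψ' n) (fun n : N => ψ n) ≠ 0) :
    ∃ μ : G →* ℂˣ, (∀ n : N, μ n = 1) ∧ ψ' = fun g => (μ g : ℂ) * ψ g := by
  classical
  haveI := hN
  by_contra hcon
  push Not at hcon
  apply h
  haveI : IsMulCommutative (G ⧸ N) := by
    refine ⟨⟨fun a b => ?_⟩⟩
    induction a using QuotientGroup.induction_on with | _ x =>
    induction b using QuotientGroup.induction_on with | _ y =>
    rw [← QuotientGroup.mk_mul, ← QuotientGroup.mk_mul, QuotientGroup.eq]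
    have := hab y⁻¹ x⁻¹
    simpa [mul_assoc] using this
  haveI : Fintype (IrrCharacter (G ⧸ N)) := Fintype.ofFinite _
  have h1 : ∀ β : IrrCharacter (G ⧸ N),
      classInner ψ' (fun g => (β : G ⧸ N → ℂ) (QuotientGroup.mk g) * ψ g) = 0 := by
    intro β
    have hβ1 : (β : G ⧸ N → ℂ) 1 = 1 := irr_degree_one_of_comm β.2
    obtain ⟨ν, hν⟩ := exists_hom_of_one (irr_isChar β.2) hβ1
    have hirr := isIrr_mul_hom hψ (ν.comp (QuotientGroup.mk' N))
    have e1 : (fun g => (((ν.comp (QuotientGroup.mk' N)) g : ℂˣ) : ℂ) * ψ g) =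
        fun g => (β : G ⧸ N → ℂ) (QuotientGroup.mk g) * ψ g := by
      funext g
      rw [hν]; rfl
    rw [← e1]
    refine classInner_of_irr_ne hψ' hirr ?_
    refine hcon _ ?_
    intro n
    show ν (QuotientGroup.mk (n : G)) = 1
    rw [(QuotientGroup.eq_one_iff (n : G)).mpr n.2, map_one]
  have h2 : ∑ β : IrrCharacter (G ⧸ N),
      classInner ψ' (fun g => (β : G ⧸ N → ℂ) (QuotientGroup.mk g) * ψ g) = 0 :=
    Finset.sum_eq_zero fun β _ => h1 β
  have h3 : ∀ g : G, ∑ β : IrrCharacter (G ⧸ N), (β : G ⧸ N → ℂ) (QuotientGroup.mk g) =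
      if g ∈ N then (Nat.card (G ⧸ N) : ℂ) else 0 := by
    intro g
    have := sum_degree_mul (G := G ⧸ N) (QuotientGroup.mk g)
    rw [Finset.sum_congr rfl (g := fun β : IrrCharacter (G ⧸ N) =>
      (β : G ⧸ N → ℂ) (QuotientGroup.mk g)) (fun β _ => by
        rw [irr_degree_one_of_comm β.2, one_mul])] at this
    rw [this]
    simp only [QuotientGroup.eq_one_iff]
  have h4 : ∑ β : IrrCharacter (G ⧸ N),
      classInner ψ' (fun g => (β : G ⧸ N → ℂ) (QuotientGroup.mk g) * ψ g) =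
      (Nat.card G : ℂ)⁻¹ * ∑ g : G, ψ' g * conj (ψ g) *
        conj (∑ β : IrrCharacter (G ⧸ N), (β : G ⧸ N → ℂ) (QuotientGroup.mk g)) := by
    simp only [classInner]
    rw [← Finset.mul_sum, Finset.sum_comm]
    congr 1
    refine Finset.sum_congr rfl fun g _ => ?_
    rw [map_sum, Finset.mul_sum]
    refine Finset.sum_congr rfl fun β _ => ?_
    rw [map_mul]; ring
  rw [h2] at h4
  have hG : (Nat.card G : ℂ) ≠ 0 := card_ne_zeroC
  have h5 := (mul_eq_zero.mp h4.symm).resolve_left (inv_ne_zero hG)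
  have h6 : ∑ g : G, ψ' g * conj (ψ g) *
        conj (∑ β : IrrCharacter (G ⧸ N), (β : G ⧸ N → ℂ) (QuotientGroup.mk g)) =
      (Nat.card (G ⧸ N) : ℂ) * ∑ n : N, ψ' n * conj (ψ n) := by
    have h7 : ∀ g : G, ψ' g * conj (ψ g) *
        conj (∑ β : IrrCharacter (G ⧸ N), (β : G ⧸ N → ℂ) (QuotientGroup.mk g)) =
        extendByZero N (fun _ => (Nat.card (G ⧸ N) : ℂ)) g * (ψ' g * conj (ψ g)) := by
      intro g
      rw [h3]
      by_cases hg : g ∈ N
      · rw [extendByZero_mem N _ hg, if_pos hg]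
        simp [mul_comm]
      · rw [extendByZero_not_mem N _ hg, if_neg hg]
        simp
    rw [Finset.sum_congr rfl (fun g _ => h7 g), sum_extendByZero_mul, Finset.mul_sum]
  rw [h6] at h5
  have h8 : (Nat.card (G ⧸ N) : ℂ) ≠ 0 := by exact_mod_cast Nat.card_pos.ne'
  have h9 := (mul_eq_zero.mp h5).resolve_left h8
  rw [classInner, h9, mul_zero]

include hN in
/-- If `G/N` is abelian, `θ ∈ Irr N` is invariant and `ψ` lies over `θ` with `ψ_N = e θ`, then
`θ^G = e ∑ ψ'`. -/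
theorem ind_invariant_abelian [Fintype N] (hab : ∀ x y : G, x * y * x⁻¹ * y⁻¹ ∈ N) {θ : N → ℂ}
    (hθ : IsIrrCharacter N θ) (hinv : ∀ g : G, cj hN g θ = θ) {ψ : G → ℂ}
    (hψ : IsIrrCharacter G ψ) (e : ℕ) (he : 0 < e) (hres : ∀ n : N, ψ n = (e : ℂ) * θ n) :
    ∃ C : Finset (G → ℂ), (∀ χ ∈ C, IsIrrCharacter G χ ∧ (∀ n : N, χ n = (e : ℂ) * θ n)) ∧
      indFun N θ = (e : ℂ) • ∑ χ ∈ C, χ ∧ e ^ 2 * C.card = N.index := by
  classical
  haveI : Fintype (IrrCharacter G) := Fintype.ofFinite _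
  have he0 : (e : ℂ) ≠ 0 := by exact_mod_cast he.ne'
  have hψθ : (fun n : N => ψ n) = (e : ℂ) • θ := by
    funext n; rw [hres]; rfl
  -- all characters over θ restrict to e θ
  have key : ∀ χ : IrrCharacter G, classInner (indFun N θ) (χ : G → ℂ) ≠ 0 →
      ∀ n : N, (χ : G → ℂ) n = (e : ℂ) * θ n := by
    intro χ hχ n
    rw [frobenius_reciprocity N θ (irr_classFun χ.2)] at hχ
    have h1 : classInner (fun n : N => (χ : G → ℂ) n) (fun n : N => ψ n) ≠ 0 := by
      rw [hψθ, classInner_smul_right]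
      exact mul_ne_zero (by simpa using he0) (classInner_ne_zero_symm hχ)
    obtain ⟨μ, hμ, hμψ⟩ := over_eq_twist hN hab hψ χ.2 h1
    rw [hμψ]
    simp only
    rw [hμ n, hres]; simp
  have hcoef : ∀ χ : IrrCharacter G, classInner (indFun N θ) (χ : G → ℂ) ≠ 0 →
      classInner (indFun N θ) (χ : G → ℂ) = e := by
    intro χ hχ
    rw [frobenius_reciprocity N θ (irr_classFun χ.2)]
    have : (fun n : N => (χ : G → ℂ) n) = (e : ℂ) • θ := by
      funext n; rw [key χ hχ n]; rfl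
    rw [this, classInner_smul_right, classInner_self_of_irr hθ]
    simp
  let S : Finset (IrrCharacter G) :=
    Finset.univ.filter (fun χ => classInner (indFun N θ) (χ : G → ℂ) ≠ 0)
  have hS : ∀ χ, χ ∈ S ↔ classInner (indFun N θ) (χ : G → ℂ) ≠ 0 := by
    intro χ; simp [S]
  have hinj : Function.Injective (fun χ : IrrCharacter G => (χ : G → ℂ)) :=
    Subtype.val_injective
  refine ⟨S.image (fun χ : IrrCharacter G => (χ : G → ℂ)), ?_, ?_, ?_⟩
  · intro χ hχ
    obtain ⟨χ', h1, rfl⟩ := Finset.mem_image.mp hχ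
    exact ⟨χ'.2, key χ' ((hS χ').mp h1)⟩
  · rw [Finset.sum_image (fun a _ b _ h => hinj h), Finset.smul_sum]
    conv_lhs => rw [classFun_expand (indFun_classFun N θ)]
    symm
    refine Finset.sum_subset_zero_on_sdiff (Finset.subset_univ _) ?_ ?_
    · intro χ hχ
      have : classInner (indFun N θ) (χ : G → ℂ) = 0 := by
        by_contra h0
        exact (Finset.mem_sdiff.mp hχ).2 ((hS χ).mpr h0)
      rw [this, zero_smul]
    · intro χ hχ
      rw [hcoef χ ((hS χ).mp hχ)]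
  · rw [Finset.card_image_of_injective _ hinj]
    have h1 := norm_ind_invariant hN hθ hinv
    rw [classInner_eq_sum (indFun_classFun N θ)] at h1
    have h2 : ∑ χ : IrrCharacter G, classInner (indFun N θ) (χ : G → ℂ) *
        conj (classInner (indFun N θ) (χ : G → ℂ)) = ∑ χ ∈ S, (e : ℂ) ^ 2 := by
      symm
      refine Finset.sum_subset_zero_on_sdiff (Finset.subset_univ _) ?_ ?_
      · intro χ hχ
        have : classInner (indFun N θ) (χ : G → ℂ) = 0 := by
          by_contra h0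
          exact (Finset.mem_sdiff.mp hχ).2 ((hS χ).mpr h0)
        rw [this, zero_mul]
      · intro χ hχ
        rw [hcoef χ ((hS χ).mp hχ)]
        simp [sq]
    rw [h2, Finset.sum_const, nsmul_eq_mul] at h1
    have h3 : S.card * e ^ 2 = N.index := by exact_mod_cast h1
    rw [mul_comm]; exact h3

/-- transfer to the inertia group inside a bigger group -/
theorem ind_abelian_inertia {H T : Subgroup G} (hH : H.Normal) {θ : H → ℂ}
    (hθ : IsIrrCharacter H θ) (hT : T = inertia hH θ) (hHT : H ≤ T)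
    (hab : ∀ x ∈ T, ∀ y ∈ T, x * y * x⁻¹ * y⁻¹ ∈ H) (e : ℕ) (he : 0 < e) {ψ : T → ℂ}
    (hψ : IsIrrCharacter T ψ) (hres : ∀ n : H, ψ ⟨n, hHT n.2⟩ = (e : ℂ) * θ n) :
    ∃ C : Finset (G → ℂ), (∀ χ ∈ C, IsIrrCharacter G χ) ∧
      e ^ 2 * C.card = H.relIndex T ∧ indFun H θ = (e : ℂ) • ∑ χ ∈ C, χ ∧
      ∀ χ ∈ C, χ 1 = (T.index : ℂ) * e * θ 1 := by
  classical
  haveI : Fintype T := Fintype.ofFinite T
  haveI : Fintype H := Fintype.ofFinite H
  haveI : Fintype (H.subgroupOf T) := Fintype.ofFinite _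
  have he0 : (e : ℂ) ≠ 0 := by exact_mod_cast he.ne'
  let ε : H.subgroupOf T ≃* H := Subgroup.subgroupOfEquivOfLe hHT
  have hN : (H.subgroupOf T).Normal := hH.subgroupOf T
  have hθ' : IsIrrCharacter (H.subgroupOf T) (fun x => θ (ε x)) :=
    (isIrr_comp_equiv_iff ε).mpr hθ
  have hinv : ∀ g : T, cj hN g (fun x => θ (ε x)) = fun x => θ (ε x) := by
    intro g
    funext x
    have hg : (g : G) ∈ inertia hH θ := hT ▸ g.2
    rw [mem_inertia'] at hg
    exact hg (ε x)
  obtain ⟨C, hC1, hC2, hC3⟩ := ind_invariant_abelian hN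
    (fun x y => by
      rw [Subgroup.mem_subgroupOf]
      exact hab x x.2 y y.2) hθ' hinv hψ e he (fun n => hres (ε n))
  have hover : ∀ χ ∈ C, classInner (fun n : H => χ ⟨(n : G), hHT n.2⟩) θ ≠ 0 := by
    intro χ hχ
    have h1 := (hC1 χ hχ).2
    have : (fun n : H => χ ⟨(n : G), hHT n.2⟩) = (e : ℂ) • θ := by
      funext n
      have := h1 (ε.symm n)
      have e2 : ((ε.symm n : H.subgroupOf T) : T) = ⟨(n : G), hHT n.2⟩ := rfl
      rw [e2] at this
      rw [this]
      simp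
    rw [this, classInner_smul_left, classInner_self_of_irr hθ, mul_one]
    exact he0
  have hinj : Set.InjOn (fun χ : T → ℂ => indFun T χ) (C : Set (T → ℂ)) := by
    intro a ha b hb h
    exact corr_inj hH hHT hθ hT (hC1 a ha).1 (hover a ha) (hC1 b hb).1 (hover b hb) h
  refine ⟨C.image (fun χ => indFun T χ), ?_, ?_, ?_, ?_⟩
  · intro χ hχ
    obtain ⟨χ', h1, rfl⟩ := Finset.mem_image.mp hχ
    exact corr_irr hH hHT hθ hT (hC1 χ' h1).1 (hover χ' h1)
  · rw [Finset.card_image_of_injOn hinj, hC3]; rfl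
  · rw [Finset.sum_image hinj, ← indFun_trans H T hHT θ]
    have e3 : (fun x : H.subgroupOf T => θ ⟨(x : T), Subgroup.mem_subgroupOf.mp x.2⟩) =
      fun x => θ (ε x) := rfl
    rw [e3, hC2, indFun_smul, indFun_sum]
  · intro χ hχ
    obtain ⟨χ', h1, rfl⟩ := Finset.mem_image.mp hχ
    rw [indFun_one_apply]
    have h2 := (hC1 χ' h1).2 1
    have e4 : ((ε.symm 1 : H.subgroupOf T) : T) = 1 := by simp
    have h3 : χ' 1 = (e : ℂ) * θ 1 := by
      have := h2
      simpa using this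
    rw [h3, mul_assoc]

/-- existence of a character over θ and its multiplicity -/
theorem exists_over_inertia {H T : Subgroup G} (hH : H.Normal) {θ : H → ℂ}
    (hθ : IsIrrCharacter H θ) (hT : T = inertia hH θ) (hHT : H ≤ T) :
    ∃ (e : ℕ) (ψ : T → ℂ), 0 < e ∧ IsIrrCharacter T ψ ∧
      ∀ n : H, ψ ⟨n, hHT n.2⟩ = (e : ℂ) * θ n := by
  classical
  haveI : Fintype T := Fintype.ofFinite T
  haveI : Fintype H := Fintype.ofFinite H
  haveI : Fintype (H.subgroupOf T) := Fintype.ofFinite _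
  let ε : H.subgroupOf T ≃* H := Subgroup.subgroupOfEquivOfLe hHT
  have hN : (H.subgroupOf T).Normal := hH.subgroupOf T
  have hθ' : IsIrrCharacter (H.subgroupOf T) (fun x => θ (ε x)) :=
    (isIrr_comp_equiv_iff ε).mpr hθ
  have hinv : ∀ g : T, cj hN g (fun x => θ (ε x)) = fun x => θ (ε x) := by
    intro g
    funext x
    have hg : (g : G) ∈ inertia hH θ := hT ▸ g.2
    rw [mem_inertia'] at hg
    exact hg (ε x)
  have h00 := irr_one_ne_zero hθ'
  obtain ⟨ψ, hψ⟩ := exists_constituent (isChar_ind (H.subgroupOf T) (irr_isChar hθ'))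
    (ind_ne_zero (G := T) (H.subgroupOf T) h00)
  have h1 : classInner (fun x : H.subgroupOf T => (ψ : T → ℂ) x) (fun x => θ (ε x)) ≠ 0 := by
    rw [frobenius_reciprocity _ _ (irr_classFun ψ.2)] at hψ
    exact classInner_ne_zero_symm hψ
  have h2 := clifford_invariant hN ψ.2 hθ' hinv h1
  obtain ⟨e, he⟩ := classInner_char_nat (isChar_restrict (H.subgroupOf T) (irr_isChar ψ.2))
    (irr_isChar hθ')
  rw [he] at h2 h1
  refine ⟨e, ψ, ?_, ψ.2, ?_⟩
  · rcases Nat.eq_zero_or_pos e with h | h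
    · subst h; simp at h1
    · exact h
  · intro n
    have := congrFun h2 (ε.symm n)
    have e2 : ((ε.symm n : H.subgroupOf T) : T) = ⟨(n : G), hHT n.2⟩ := rfl
    simp only [e2, Pi.smul_apply, smul_eq_mul, MulEquiv.apply_symm_apply] at this
    exact this

include hN in
theorem coprime_ext {θ : N → ℂ} (hθ : IsIrrCharacter N θ) (hinv : ∀ g : G, cj hN g θ = θ)
    (hcop : Nat.Coprime (Nat.card N) N.index) :
    ∃ χ : G → ℂ, IsIrrCharacter G χ ∧ ∀ n : N, χ n = θ n := by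
  obtain ⟨d, hd0, hd⟩ := irr_one_eq_nat hθ
  have hdvd : d ∣ Nat.card N := irr_degree_dvd_card hθ hd
  have hcd : Nat.Coprime N.index d := (Nat.Coprime.coprime_dvd_left hdvd hcop).symm
  obtain ⟨μ, hμ⟩ := exists_hf_det (irr_isChar hθ)
  have hμinv : ∀ g : G, cj hN g (hf μ) = hf μ := by
    intro g
    rw [← hμ, ← detChar_invariant hN (irr_isChar hθ) g, hinv g]
  have hcμ : Nat.Coprime N.index (orderOf μ) :=
    (Nat.Coprime.coprime_dvd_left (orderOf_hom_dvd_card μ) hcop).symm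
  obtain ⟨μ', h1, -⟩ := lin_extends hN μ hμinv hcμ
  exact (det_extends_iff hN hθ hinv hd hcd).mpr ⟨μ', fun n => by rw [h1 n, hμ]⟩

theorem exists_ext_inertia {H T : Subgroup G} (hH : H.Normal) {θ : H → ℂ}
    (hθ : IsIrrCharacter H θ) (hT : T = inertia hH θ) (hHT : H ≤ T)
    (hcop : Nat.Coprime (Nat.card H) (H.relIndex T)) :
    ∃ ψ : T → ℂ, IsIrrCharacter T ψ ∧ ∀ n : H, ψ ⟨n, hHT n.2⟩ = θ n := by
  classical
  haveI : Fintype T := Fintype.ofFinite T
  haveI : Fintype H := Fintype.ofFinite H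
  haveI : Fintype (H.subgroupOf T) := Fintype.ofFinite _
  let ε : H.subgroupOf T ≃* H := Subgroup.subgroupOfEquivOfLe hHT
  have hN : (H.subgroupOf T).Normal := hH.subgroupOf T
  have hθ' : IsIrrCharacter (H.subgroupOf T) (fun x => θ (ε x)) :=
    (isIrr_comp_equiv_iff ε).mpr hθ
  have hinv : ∀ g : T, cj hN g (fun x => θ (ε x)) = fun x => θ (ε x) := by
    intro g
    funext x
    have hg : (g : G) ∈ inertia hH θ := hT ▸ g.2
    rw [mem_inertia'] at hg
    exact hg (ε x)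
  obtain ⟨χ, h1, h2⟩ := coprime_ext hN hθ' hinv (by
    rw [Nat.card_congr ε.toEquiv]
    exact hcop)
  refine ⟨χ, h1, fun n => ?_⟩
  have := h2 (ε.symm n)
  have e2 : ((ε.symm n : H.subgroupOf T) : T) = ⟨(n : G), hHT n.2⟩ := rfl
  simp only [e2, MulEquiv.apply_symm_apply] at this
  exact this

end Cfsg.Agent.H11.PF
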