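import Cfsg.Agent.H11.PF19

/-!
PF section 3: integrality of the values of the cyclic TI family.
-/
set_option autoImplicit false

namespace Cfsg.Agent.H11.PF

open Cfsg Cfsg.Agent.H3 Cfsg.Agent.H27 ComplexConjugate

universe u v w

/-- lifting a unit residue. -/
theorem exists_coprime_modEq {d n k₀ : ℕ} (hn : n ≠ 0) (hd : d ∣ n) (h : k₀.Coprime d) :
    ∃ k : ℕ, k.Coprime n ∧ k ≡ k₀ [MOD d] := by
  haveI : NeZero n := ⟨hn⟩
  haveI : NeZero d := ⟨fun h0 => hn (by rw [h0, zero_dvd_iff] at hd; exact hd)⟩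
  obtain ⟨v, hv⟩ := ZMod.unitsMap_surjective hd (ZMod.unitOfCoprime k₀ h)
  refine ⟨(v : ZMod n).val, ZMod.val_coe_unit_coprime v, ?_⟩
  rw [← ZMod.natCast_eq_natCast_iff]
  have h1 := congrArg (fun u : (ZMod d)ˣ => (u : ZMod d)) hv
  simp only [ZMod.coe_unitOfCoprime] at h1
  rw [← h1, ZMod.unitsMap_val, ZMod.natCast_val]

variable {G : Type u} [Group G] [Fintype G] {W₁ W₂ : Subgroup G}

theorem family_integral (hW : IsSelfNormalizingCyclic W₁ W₂)
    (hodd : Odd (Nat.card ↥(W₁ ⊔ W₂))) {χ : (↥(W₁ ⊔ W₂) →* ℂˣ) → (G → ℂ)}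
    (hχ : IsCyclicTIFamily W₁ W₂ χ) (ω : ↥(W₁ ⊔ W₂) →* ℂˣ) (g : G)
    (hg : Nat.Coprime (orderOf g) (orderOf ω)) : ∃ n : ℤ, χ ω g = n := by
  have hn : Nat.card G ≠ 0 := Nat.card_pos.ne'
  have hg0 : orderOf g ≠ 0 := (orderOf_pos g).ne'
  have hd1 : orderOf g ∣ Nat.card G := orderOf_dvd_natCard g
  have hd2 : orderOf ω ∣ Nat.card G := by
    refine dvd_trans ?_ (Subgroup.card_subgroup_dvd_card (W₁ ⊔ W₂))
    rw [orderOf_dvd_iff_pow_eq_one]
    ext w
    rw [MonoidHom.pow_apply, ← map_pow, pow_card_eq_one', map_one]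
    rfl
  have hd : orderOf g * orderOf ω ∣ Nat.card G := hg.mul_dvd_of_dvd_of_dvd hd1 hd2
  have key : ∀ m ∈ cop (orderOf g), χ ω (g ^ m) = χ ω g := by
    intro m hm
    have hm' := (mem_cop.mp hm).2
    obtain ⟨l, hl1, hl2⟩ := Nat.chineseRemainder hg m 1
    have c1 : l.Coprime (orderOf g) := by
      rw [Nat.Coprime, Nat.ModEq.gcd_eq hl1]
      exact hm'
    have c2 : l.Coprime (orderOf ω) := by
      rw [Nat.Coprime, Nat.ModEq.gcd_eq hl2]
      exact Nat.coprime_one_left _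
    obtain ⟨k, hk1, hk2⟩ := exists_coprime_modEq hn hd (Nat.Coprime.mul_right c1 c2)
    have e1 : g ^ m = g ^ k := by
      rw [pow_eq_pow_iff_modEq]
      exact (Nat.ModEq.of_dvd (dvd_mul_right _ _) hk2 |>.trans hl1).symm
    have e2 : ω ^ k = ω := by
      have h3 : k ≡ 1 [MOD orderOf ω] := (Nat.ModEq.of_dvd (dvd_mul_left _ _) hk2).trans hl2
      have h4 := (pow_eq_pow_iff_modEq (x := ω) (n := k) (m := 1)).mpr h3
      ext w
      have h5 := congrArg (fun f : ↥(W₁ ⊔ W₂) →* ℂˣ => ((f w : ℂˣ) : ℂ)) h4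
      rw [pow_one] at h5
      exact h5
    rw [e1, family_pow hW hodd hχ ω g hk1, e2]
  have hne : ((cop (orderOf g)).card : ℂ) ≠ 0 := by
    exact_mod_cast (Finset.card_pos.mpr (cop_nonempty hg0)).ne'
  have hint : IsIntegral ℤ (χ ω g) := by
    rcases hχ.irr_or_neg ω with h | h
    · exact char_isIntegral (irr_isChar h) g
    · have h1 := char_isIntegral (irr_isChar h) g
      rw [Pi.neg_apply] at h1
      have h2 := h1.neg
      rwa [neg_neg] at h2
  have hrat : ∃ q : ℚ, ∑ m ∈ cop (orderOf g), χ ω (g ^ m) = (q : ℂ) := by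
    rcases hχ.irr_or_neg ω with h | h
    · exact sum_char_pow_rat (irr_isChar h) hg0 (pow_orderOf_eq_one g)
    · obtain ⟨q, hq⟩ := sum_char_pow_rat (irr_isChar h) hg0 (pow_orderOf_eq_one g)
      refine ⟨-q, ?_⟩
      simp only [Pi.neg_apply, Finset.sum_neg_distrib] at hq
      push_cast
      rw [← hq, neg_neg]
  obtain ⟨q, hq⟩ := hrat
  rw [Finset.sum_congr rfl key, Finset.sum_const, nsmul_eq_mul] at hq
  have h1 : χ ω g = ((q / (cop (orderOf g)).card : ℚ) : ℂ) := by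
    push_cast
    rw [← hq]
    field_simp
  rw [h1] at hint
  obtain ⟨n, hn⟩ := exists_int_of_isIntegral_rat hint
  exact ⟨n, by rw [h1, hn]; simp⟩

end Cfsg.Agent.H11.PF
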