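import Cfsg.Agent.H11.PF1
import Cfsg.Agent.H3.Burnside
import Cfsg.Agent.H3.Proj
import Cfsg.Agent.H3.Integral
import Cfsg.Agent.H27.Kernel
import Cfsg.Agent.H27.Galois

/-!
PF section 1: degree bounds, Galois twists, congruences.
-/
set_option autoImplicit false

namespace Cfsg.Agent.H11.PF

open Cfsg Cfsg.Agent.H3 Cfsg.Agent.H27 ComplexConjugate

universe u v

theorem norm_of_central_mod_ker {K : Type u} [Group K] [Finite K] {ξ : K → ℂ}
    (hξ : IsIrrCharacter K ξ) (d : K) (hd : ∀ c : K, ξ (d * c * d⁻¹ * c⁻¹) = ξ 1) :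
    ‖ξ d‖ = ‖ξ 1‖ := by
  obtain ⟨n, ρ, hρ, rfl⟩ := hξ
  haveI := hρ
  have h1 : ∀ c : K, ρ (d * c * d⁻¹ * c⁻¹) = 1 := by
    intro c
    apply rep_eq_one_of_char_eq
    rw [hd c, Representation.char_one]
  have h2 : ∀ c : K, ρ d * ρ c = ρ c * ρ d := by
    intro c
    have : d * c = (d * c * d⁻¹ * c⁻¹) * (c * d) := by group
    rw [← map_mul, this, map_mul, h1, one_mul, map_mul]
  let T : Representation.IntertwiningMap ρ ρ :=
    ⟨ρ d, fun g => h2 g⟩
  obtain ⟨z, hz⟩ := (Representation.IsIrreducible.algebraMap_intertwiningMap_bijective_of_isAlgClosed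
    (ρ := ρ)).2 T
  have hz' : ρ d = z • LinearMap.id := by
    have := congrArg (fun x : Representation.IntertwiningMap ρ ρ => x.toLinearMap) hz
    rw [Representation.IntertwiningMap.algebraMap_apply] at this
    exact this.symm
  have h3 := (rep_norm_eq_iff_scalar ρ d).mpr ⟨z, hz'⟩
  rw [Representation.char_one]
  simp only [Complex.norm_natCast]
  exact h3

theorem ker_constituent {K : Type u} [Group K] [Fintype K] {θ ξ : K → ℂ} (hθ : IsCharacter K θ)
    (hξ : IsIrrCharacter K ξ) (hne : classInner θ ξ ≠ 0) {b : K} (hb : θ b = θ 1) :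
    ξ b = ξ 1 := by
  have hη := isChar_sub_irr hθ hξ hne
  have hle : ∀ χ : K → ℂ, IsCharacter K χ → (χ b).re ≤ (χ 1).re := by
    intro χ hχ
    obtain ⟨n, hn⟩ := char_one_eq_nat hχ
    have h5 := norm_char_le hχ b
    have h6 := char_one_norm hχ
    rw [hn] at h6
    rw [← h6] at h5
    rw [hn]
    refine (Complex.re_le_norm _).trans (h5.trans ?_)
    simp
  have h1 := hle _ hη
  simp only [Pi.sub_apply, Complex.sub_re, hb] at h1
  exact eq_one_of_re (irr_isChar hξ) b (by linarith)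

theorem degree_bound {G : Type u} [Group G] [Finite G] (ψ : G → ℂ) (hψ : IsIrrCharacter G ψ)
    (B C D : Subgroup G) (hDC : D ≤ C)
    (hcent : ∀ d ∈ D, ∀ c ∈ C, d * c * d⁻¹ * c⁻¹ ∈ B) (hker : ∀ b ∈ B, ψ b = ψ 1) :
    ‖ψ 1‖ ^ 2 * (Nat.card C : ℝ) * (Nat.card D : ℝ) ≤ (Nat.card G : ℝ) ^ 2 := by
  classical
  haveI : Fintype G := Fintype.ofFinite G
  haveI : Fintype C := Fintype.ofFinite C
  haveI : Fintype D := Fintype.ofFinite D
  have hres : IsCharacter C (fun c : C => ψ c) := isChar_restrict C (irr_isChar hψ)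
  have h0 : (fun c : C => ψ c) ≠ 0 := by
    intro h
    have := congrFun h 1
    exact irr_one_ne_zero hψ (by simpa using this)
  obtain ⟨ξ, hξ⟩ := exists_constituent hres h0
  obtain ⟨m, hm0, hm⟩ := irr_one_eq_nat hψ
  obtain ⟨k, hk0, hk⟩ := irr_one_eq_nat ξ.2
  -- degree
  have h1 : m ≤ C.index * k := by
    refine char_degree_le_of_inner_ne_zero (isChar_ind C (irr_isChar ξ.2)) hψ ?_
      (by rw [indFun_one_apply, hk]; push_cast; rfl) hm
    apply classInner_ne_zero_symm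
    rw [frobenius_reciprocity' C _ (irr_classFun hψ)]
    exact hξ
  -- central elements
  have h2 : ∀ d : D, ‖(ξ : C → ℂ) ⟨d, hDC d.2⟩‖ = k := by
    intro d
    rw [norm_of_central_mod_ker ξ.2 ⟨d, hDC d.2⟩, hk]
    · simp
    · intro c
      refine ker_constituent hres ξ.2 hξ ?_
      exact hker _ (hcent d d.2 c c.2)
  have h3 : ∑ c : C, ‖(ξ : C → ℂ) c‖ ^ 2 = (Nat.card C : ℝ) := by
    have := classInner_self_of_irr ξ.2
    rw [classInner] at this
    have hC : (Nat.card C : ℂ) ≠ 0 := card_ne_zeroC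
    rw [inv_mul_eq_iff_eq_mul₀ hC, mul_one] at this
    have h4 : ∑ c : C, (ξ : C → ℂ) c * conj ((ξ : C → ℂ) c) =
        ((∑ c : C, ‖(ξ : C → ℂ) c‖ ^ 2 : ℝ) : ℂ) := by
      rw [Complex.ofReal_sum]
      refine Finset.sum_congr rfl fun c _ => ?_
      rw [Complex.mul_conj, Complex.normSq_eq_norm_sq]
    rw [h4] at this
    exact_mod_cast this
  have h4 : (Nat.card D : ℝ) * (k : ℝ) ^ 2 ≤ (Nat.card C : ℝ) := by
    rw [← h3]
    have hinj : Function.Injective (fun d : D => (⟨d, hDC d.2⟩ : C)) := by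
      intro a b h
      exact Subtype.ext (congrArg (fun c : C => (c : G)) h)
    calc (Nat.card D : ℝ) * (k : ℝ) ^ 2 = ∑ d : D, ‖(ξ : C → ℂ) ⟨d, hDC d.2⟩‖ ^ 2 := by
          rw [Finset.sum_congr rfl (g := fun _ => (k : ℝ) ^ 2) (fun d _ => by rw [h2 d]),
            Finset.sum_const, Finset.card_univ, nsmul_eq_mul, Nat.card_eq_fintype_card]
      _ = ∑ c ∈ Finset.univ.image (fun d : D => (⟨d, hDC d.2⟩ : C)), ‖(ξ : C → ℂ) c‖ ^ 2 := by
          rw [Finset.sum_image (fun a _ b _ h => hinj h)]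
      _ ≤ _ := Finset.sum_le_sum_of_subset_of_nonneg (Finset.subset_univ _)
          (fun _ _ _ => by positivity)
  have h5 : (m : ℝ) ≤ (C.index : ℝ) * k := by exact_mod_cast h1
  have h6 : (C.index : ℝ) * (Nat.card C : ℝ) = Nat.card G := by
    exact_mod_cast C.index_mul_card
  rw [hm, Complex.norm_natCast]
  calc (m : ℝ) ^ 2 * (Nat.card C : ℝ) * (Nat.card D : ℝ)
      ≤ ((C.index : ℝ) * k) ^ 2 * (Nat.card C : ℝ) * (Nat.card D : ℝ) := by
        gcongr
    _ = (C.index : ℝ) ^ 2 * (Nat.card C : ℝ) * ((Nat.card D : ℝ) * (k : ℝ) ^ 2) := by ring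
    _ ≤ (C.index : ℝ) ^ 2 * (Nat.card C : ℝ) * (Nat.card C : ℝ) := by
        gcongr
    _ = (Nat.card G : ℝ) ^ 2 := by rw [← h6]; ring

/-- S1493 -/
theorem galois_twist {G : Type u} [Group G] [Finite G] (a b k : ℕ) (hab : Nat.card G = a * b)
    (hcop : Nat.Coprime a b) (hk : Nat.Coprime k a) (χ : G → ℂ) (hχ : IsCharacter G χ) :
    ∃ χ' : G → ℂ, IsCharacter G χ' ∧ (IsIrrCharacter G χ → IsIrrCharacter G χ') ∧
      (∀ g : G, orderOf g ∣ a → χ' g = χ (g ^ k)) ∧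
      (∀ g : G, Nat.Coprime (orderOf g) a → χ' g = χ g) := by
  obtain ⟨l, hl1, hl2⟩ := Nat.chineseRemainder hcop k 1
  have hla : Nat.Coprime l a := by
    rw [Nat.Coprime, Nat.ModEq.gcd_eq hl1]
    exact hk
  have hlb : Nat.Coprime l b := by
    rw [Nat.Coprime, Nat.ModEq.gcd_eq hl2]
    exact Nat.coprime_one_left b
  have hlG : Nat.Coprime l (Nat.card G) := by
    rw [hab]; exact Nat.Coprime.mul_right hla hlb
  refine ⟨fun g => χ (g ^ l), isChar_pow_coprime hχ hlG, fun h => isIrr_pow_coprime h hlG,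
    ?_, ?_⟩
  · intro g hg
    have : g ^ l = g ^ k := by
      rw [pow_eq_pow_iff_modEq]
      exact Nat.ModEq.of_dvd hg hl1
    simp only [this]
  · intro g hg
    have h1 : orderOf g ∣ a * b := hab ▸ orderOf_dvd_natCard g
    have h2 : orderOf g ∣ b := hg.dvd_of_dvd_mul_left h1
    have : g ^ l = g ^ 1 := by
      rw [pow_eq_pow_iff_modEq]
      exact Nat.ModEq.of_dvd h2 hl2
    simp only [this, pow_one]

/-- S1495 -/
theorem prime_dvd_of_eq (p : ℕ) (hp : p.Prime) (n : ℤ) (ω : ℂ) (hω : IsIntegral ℤ ω)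
    (h : (n : ℂ) = (1 - Complex.exp (2 * Real.pi * Complex.I / p)) * ω) : (p : ℤ) ∣ n := by
  have hprim : IsPrimitiveRoot (Complex.exp (2 * Real.pi * Complex.I / p)) p :=
    Complex.isPrimitiveRoot_exp p hp.ne_zero
  obtain ⟨ε, hε⟩ : ∃ ε, ε = Complex.exp (2 * Real.pi * Complex.I / p) := ⟨_, rfl⟩
  rw [← hε] at h hprim
  have hεint : IsIntegral ℤ ε := hprim.isIntegral hp.pos
  obtain ⟨q, rfl⟩ : ∃ q, p = q + 1 := ⟨p - 1, (Nat.succ_pred_prime hp).symm⟩
  -- (1-ε)/(1-ε^(k+1)) is integral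
  have hu : ∀ k : ℕ, ∃ u : ℂ, k ∈ Finset.range q → IsIntegral ℤ u ∧ (1 - ε) = (1 - ε ^ (k + 1)) * u := by
    intro k
    by_cases hk : k ∈ Finset.range q
    · rw [Finset.mem_range] at hk
      have hcop : Nat.Coprime (k + 1) (q + 1) := by
        refine Nat.Coprime.symm ((Nat.Prime.coprime_iff_not_dvd hp).mpr fun hd => ?_)
        exact absurd (Nat.le_of_dvd (Nat.succ_pos k) hd) (by omega)
      obtain ⟨m, hm⟩ := Nat.exists_mul_mod_eq_one_of_coprime hcop (by have := hp.two_le; omega)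
      refine ⟨∑ i ∈ Finset.range m, (ε ^ (k + 1)) ^ i, fun _ => ⟨?_, ?_⟩⟩
      · exact IsIntegral.sum _ fun i _ => (hεint.pow _).pow _
      · rw [mul_neg_geom_sum, ← pow_mul]
        have : ε ^ ((k + 1) * m) = ε := by
          have h7 := pow_mod_orderOf ε ((k + 1) * m)
          rw [← hprim.eq_orderOf, hm.2, pow_one] at h7
          exact h7.symm
        rw [this]
    · exact ⟨0, fun h => absurd h hk⟩
  choose u hu using hu
  have h1 : (1 - ε) ^ q = ((q + 1 : ℕ) : ℂ) * ∏ k ∈ Finset.range q, u k := by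
    have h2 : (1 - ε) ^ q = ∏ k ∈ Finset.range q, ((1 - ε ^ (k + 1)) * u k) := by
      rw [Finset.prod_congr rfl (g := fun _ => (1 - ε)) (fun k hk => ((hu k hk).2).symm)]
      simp
    rw [h2, Finset.prod_mul_distrib, hprim.prod_one_sub_pow_eq_order]
    push_cast; rfl
  have h3 : ((n ^ q : ℤ) : ℂ) / ((q + 1 : ℕ) : ℤ) = (∏ k ∈ Finset.range q, u k) * ω ^ q := by
    have h4 : (((q + 1 : ℕ) : ℤ) : ℂ) ≠ 0 := by exact_mod_cast Nat.succ_ne_zero q
    rw [div_eq_iff h4]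
    push_cast
    rw [h, mul_pow, h1]
    push_cast; ring
  have h5 : (((q + 1 : ℕ) : ℤ)) ∣ n ^ q := by
    refine int_dvd_of_isIntegral (by exact_mod_cast Nat.succ_ne_zero q) ?_
    rw [h3]
    exact (IsIntegral.prod _ fun k hk => (hu k hk).1).mul (hω.pow q)
  exact Int.Prime.dvd_pow' hp h5

theorem gen_congr_abelian {A : Type u} [Group A] [Finite A] [IsMulCommutative A] {χ : A → ℂ}
    (hχ : IsGeneralizedCharacter A χ) (p : ℕ) (hp : p.Prime) (x y : A) (hx : x ^ p = 1) :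
    ∃ ω : ℂ, IsIntegral ℤ ω ∧
      χ (x * y) - χ y = (1 - Complex.exp (2 * Real.pi * Complex.I / p)) * ω := by
  classical
  haveI : Fintype A := Fintype.ofFinite A
  haveI : Fintype (IrrCharacter A) := Fintype.ofFinite _
  obtain ⟨m, -, hm⟩ := gen_expand hχ
  have hprim : IsPrimitiveRoot (Complex.exp (2 * Real.pi * Complex.I / p)) p :=
    Complex.isPrimitiveRoot_exp p hp.ne_zero
  obtain ⟨ε, hε⟩ : ∃ ε, ε = Complex.exp (2 * Real.pi * Complex.I / p) := ⟨_, rfl⟩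
  rw [← hε] at hprim ⊢
  have hεint : IsIntegral ℤ ε := hprim.isIntegral hp.pos
  have h1 : ∀ ψ : IrrCharacter A, ∃ ω : ℂ, IsIntegral ℤ ω ∧
      (ψ : A → ℂ) (x * y) - (ψ : A → ℂ) y = (1 - ε) * ω := by
    intro ψ
    obtain ⟨μ, hμ⟩ := exists_hom_of_one (irr_isChar ψ.2) (irr_degree_one_of_comm ψ.2)
    have h2 : ((μ x : ℂˣ) : ℂ) ^ p = 1 := by
      rw [← Units.val_pow_eq_pow_val, ← map_pow, hx]; simp
    haveI : NeZero p := ⟨hp.ne_zero⟩
    obtain ⟨k, hk, hk2⟩ := hprim.eq_pow_of_pow_eq_one h2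
    refine ⟨-(∑ i ∈ Finset.range k, ε ^ i) * (ψ : A → ℂ) y, ?_, ?_⟩
    · exact ((IsIntegral.sum _ fun i _ => hεint.pow _).neg).mul (char_isIntegral (irr_isChar ψ.2) y)
    · rw [hμ, hμ, map_mul, Units.val_mul, ← hk2]
      have := mul_neg_geom_sum ε k
      linear_combination (μ y : ℂ) * this
  choose w hw using h1
  refine ⟨∑ ψ : IrrCharacter A, (m ψ : ℂ) * w ψ, ?_, ?_⟩
  · refine IsIntegral.sum _ fun ψ _ => IsIntegral.mul ?_ (hw ψ).1
    have : ((m ψ : ℤ) : ℂ) = algebraMap ℤ ℂ (m ψ) := rfl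
    rw [this]
    exact isIntegral_algebraMap
  · rw [Finset.mul_sum]
    conv_lhs => rw [hm]
    simp only [Finset.sum_apply, Pi.smul_apply, smul_eq_mul]
    rw [← Finset.sum_sub_distrib]
    refine Finset.sum_congr rfl fun ψ _ => ?_
    rw [← mul_sub, (hw ψ).2]; ring

/-- S1494 -/
theorem gen_congr {G : Type u} [Group G] [Finite G] {χ : G → ℂ}
    (hχ : IsGeneralizedCharacter G χ) (p : ℕ) (hp : p.Prime) (x y : G) (hx : x ^ p = 1)
    (hxy : x * y = y * x) :
    ∃ ω : ℂ, IsIntegral ℤ ω ∧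
      χ (x * y) - χ y = (1 - Complex.exp (2 * Real.pi * Complex.I / p)) * ω := by
  let A : Subgroup G := Subgroup.closure ({x, y} : Set G)
  haveI : IsMulCommutative A := by
    refine Subgroup.isMulCommutative_closure ?_
    rintro a (rfl | rfl) b (rfl | rfl)
    · rfl
    · exact hxy
    · exact hxy.symm
    · rfl
  have hxA : x ∈ A := Subgroup.subset_closure (by simp)
  have hyA : y ∈ A := Subgroup.subset_closure (by simp)
  obtain ⟨ω, h1, h2⟩ := gen_congr_abelian (isGen_restrict A hχ) p hp ⟨x, hxA⟩ ⟨y, hyA⟩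
    (Subtype.ext hx)
  exact ⟨ω, h1, h2⟩

end Cfsg.Agent.H11.PF
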