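import Cfsg.Agent.H1.SchurZassenhausConj
import Cfsg.Prelude.Def_OddOrderChar
import Cfsg.Prelude.Def_OddOrderLocal

/-!
PF section 1, 2: group-theoretic facts behind the Dade setup.
-/
set_option autoImplicit false

namespace Cfsg.Agent.H11.PF

open Cfsg Cfsg.Agent.H1
open scoped Pointwise

universe u v

variable {G : Type u} [Group G] [Finite G]

theorem conj_coset_normal (N : Subgroup G) [hN : N.Normal] (g : G)
    (hcop : Nat.Coprime (orderOf g) (Nat.card N)) (htop : Subgroup.zpowers g ⊔ N = ⊤) (h : G)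
    (hh : h ∈ N) :
    ∃ x ∈ N, ∃ c ∈ N, c * g = g * c ∧ x * (h * g) * x⁻¹ = c * g := by
  have hinf : N ⊓ Subgroup.zpowers g = ⊥ := by
    apply Subgroup.inf_eq_bot_of_coprime
    rw [Nat.card_zpowers]
    exact hcop.symm
  have hidx : N.index = orderOf g := by
    have h1 : N.relIndex (Subgroup.zpowers g ⊔ N) = N.relIndex (Subgroup.zpowers g) :=
      Subgroup.relIndex_sup_right _ _
    rw [htop, Subgroup.relIndex_top_right] at h1
    rw [h1, Subgroup.relIndex]
    have : N.subgroupOf (Subgroup.zpowers g) = ⊥ := by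
      rw [Subgroup.subgroupOf_eq_bot]
      exact disjoint_iff.mpr hinf
    rw [this, Subgroup.index_bot, Nat.card_zpowers]
  have hcop' : (Nat.card N).Coprime N.index := by rw [hidx]; exact hcop.symm
  have hn : 0 < orderOf g := orderOf_pos g
  -- modulo N, h * g = g
  have hmodpow : ∀ k : ℕ, ∃ u ∈ N, (h * g) ^ k = u * g ^ k := by
    intro k
    have h1 : QuotientGroup.mk' N ((h * g) ^ k) = QuotientGroup.mk' N (g ^ k) := by
      rw [map_pow, map_mul, map_pow]
      have : QuotientGroup.mk' N h = 1 := (QuotientGroup.eq_one_iff h).mpr hh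
      rw [this, one_mul]
    refine ⟨(h * g) ^ k * (g ^ k)⁻¹, ?_, by group⟩
    rw [← QuotientGroup.ker_mk' N, MonoidHom.mem_ker, map_mul, map_inv, h1, mul_inv_cancel]
  obtain ⟨m, hm1, hm2⟩ := Nat.chineseRemainder hcop 1 0
  -- z = (hg)^m
  have hzn : ((h * g) ^ m) ^ orderOf g = 1 := by
    obtain ⟨u, hu, hu2⟩ := hmodpow (orderOf g)
    rw [pow_orderOf_eq_one, mul_one] at hu2
    rw [← pow_mul, mul_comm, pow_mul, hu2]
    have h2 : Nat.card N ∣ m := (Nat.modEq_zero_iff_dvd).mp hm2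
    obtain ⟨t, ht⟩ := h2
    have h3 : u ^ Nat.card N = 1 := by
      have := pow_card_eq_one' (x := (⟨u, hu⟩ : N))
      exact congrArg Subtype.val this
    rw [ht, pow_mul, h3, one_pow]
  have hz : ∃ u ∈ N, (h * g) ^ m = u * g := by
    obtain ⟨u, hu, hu2⟩ := hmodpow m
    refine ⟨u, hu, ?_⟩
    rw [hu2]
    congr 1
    have : g ^ m = g ^ 1 := by
      rw [pow_eq_pow_iff_modEq]; exact hm1
    rw [this, pow_one]
  obtain ⟨z, hzdef⟩ : ∃ z, z = (h * g) ^ m := ⟨_, rfl⟩
  rw [← hzdef] at hzn hz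
  obtain ⟨u, hu, hzu⟩ := hz
  -- order of z
  have hordz : orderOf z = orderOf g := by
    refine Nat.dvd_antisymm (orderOf_dvd_of_pow_eq_one hzn) ?_
    have h1 : QuotientGroup.mk' N z = QuotientGroup.mk' N g := by
      rw [hzu, map_mul]
      have : QuotientGroup.mk' N u = 1 := (QuotientGroup.eq_one_iff u).mpr hu
      rw [this, one_mul]
    have h2 : g ^ orderOf z ∈ N := by
      rw [← QuotientGroup.ker_mk' N, MonoidHom.mem_ker, map_pow, ← h1, ← map_pow,
        pow_orderOf_eq_one, map_one]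
    have h3 : g ^ orderOf z ∈ N ⊓ Subgroup.zpowers g :=
      Subgroup.mem_inf.mpr ⟨h2, Subgroup.pow_mem _ (Subgroup.mem_zpowers g) _⟩
    rw [hinf, Subgroup.mem_bot] at h3
    exact orderOf_dvd_of_pow_eq_one h3
  have hsolv : Group.IsSolvable (G ⧸ N) := by
    haveI : IsCyclic (G ⧸ N) := by
      refine ⟨QuotientGroup.mk g, fun x => ?_⟩
      induction x using QuotientGroup.induction_on with | _ x =>
      have hx : x ∈ Subgroup.zpowers g ⊔ N := by rw [htop]; trivial
      obtain ⟨a, ha, b, hb, rfl⟩ := (Subgroup.mem_sup_of_normal_right).mp hx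
      obtain ⟨k, rfl⟩ := Subgroup.mem_zpowers_iff.mp ha
      refine ⟨k, ?_⟩
      show (QuotientGroup.mk g : G ⧸ N) ^ k = _
      rw [QuotientGroup.mk_mul, (QuotientGroup.eq_one_iff b).mpr hb, mul_one,
        QuotientGroup.mk_zpow]
    infer_instance
  obtain ⟨x, hx, hxe⟩ := sz_conj_mem N hcop' (Or.inr hsolv) (Subgroup.zpowers z)
    (Subgroup.zpowers g) (by rw [Nat.card_zpowers, hordz, hidx]) (by rw [Nat.card_zpowers, hidx])
  have h1 : x * z * x⁻¹ ∈ Subgroup.zpowers g := by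
    rw [← hxe]
    have := Subgroup.smul_mem_pointwise_smul z (MulAut.conj x) (Subgroup.zpowers z)
      (Subgroup.mem_zpowers z)
    simpa using this
  have h2 : x * z * x⁻¹ = g := by
    have h3 : x * z * x⁻¹ * g⁻¹ ∈ N := by
      rw [hzu]
      have : x * (u * g) * x⁻¹ * g⁻¹ = x * u * (g * x⁻¹ * g⁻¹) := by group
      rw [this]
      exact N.mul_mem (N.mul_mem hx hu) (hN.conj_mem _ (N.inv_mem hx) g)
    have h4 : x * z * x⁻¹ * g⁻¹ ∈ N ⊓ Subgroup.zpowers g :=
      Subgroup.mem_inf.mpr ⟨h3, Subgroup.mul_mem _ h1 (Subgroup.inv_mem _ (Subgroup.mem_zpowers g))⟩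
    rw [hinf, Subgroup.mem_bot] at h4
    exact mul_inv_eq_one.mp h4
  refine ⟨x, hx, x * (h * g) * x⁻¹ * g⁻¹, ?_, ?_, by group⟩
  · have : x * (h * g) * x⁻¹ * g⁻¹ = x * h * (g * x⁻¹ * g⁻¹) := by group
    rw [this]
    exact N.mul_mem (N.mul_mem hx hh) (hN.conj_mem _ (N.inv_mem hx) g)
  · have hcom : Commute (x * (h * g) * x⁻¹) g := by
      have h5 : Commute (h * g) z := by rw [hzdef]; exact (Commute.refl _).pow_right m
      have h6 : x * (h * g) * x⁻¹ * (x * z * x⁻¹) = x * z * x⁻¹ * (x * (h * g) * x⁻¹) → 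
          Commute (x * (h * g) * x⁻¹) g := by
        intro h; rw [h2] at h; exact h
      apply h6
      calc x * (h * g) * x⁻¹ * (x * z * x⁻¹) = x * ((h * g) * z) * x⁻¹ := by group
        _ = x * (z * (h * g)) * x⁻¹ := by rw [h5.eq]
        _ = _ := by group
    calc x * (h * g) * x⁻¹ * g⁻¹ * g = x * (h * g) * x⁻¹ := by group
      _ = g * (x * (h * g) * x⁻¹) * g⁻¹ := by rw [← hcom.eq]; group
      _ = _ := by group

/-- S1496 -/
theorem conj_coset (H : Subgroup G) (g : G) (hg : g ∈ Subgroup.normalizer (H : Set G))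
    (hcop : Nat.Coprime (orderOf g) (Nat.card H)) (h : G) (hh : h ∈ H) :
    ∃ x ∈ H, ∃ c ∈ H, c * g = g * c ∧ x * (h * g) * x⁻¹ = c * g := by
  let K : Subgroup G := Subgroup.zpowers g ⊔ H
  have hHK : H ≤ K := le_sup_right
  have hgK : g ∈ K := (le_sup_left : Subgroup.zpowers g ≤ K) (Subgroup.mem_zpowers g)
  have hKn : K ≤ Subgroup.normalizer (H : Set G) := by
    refine sup_le ?_ Subgroup.le_normalizer
    rw [Subgroup.zpowers_le]; exact hg
  haveI hN : (H.subgroupOf K).Normal := Subgroup.normal_subgroupOf_of_le_normalizer hKn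
  have hcard : Nat.card (H.subgroupOf K) = Nat.card H :=
    Nat.card_congr (Subgroup.subgroupOfEquivOfLe hHK).toEquiv
  obtain ⟨x, hx, c, hc, h1, h2⟩ := conj_coset_normal (H.subgroupOf K) ⟨g, hgK⟩
    (by rw [hcard, ← Subgroup.orderOf_coe]; exact hcop)
    (by
      rw [eq_top_iff]
      rintro ⟨y, hy⟩ -
      have h3 : K = ((Subgroup.zpowers (⟨g, hgK⟩ : K)) ⊔ H.subgroupOf K).map K.subtype := by
        rw [Subgroup.map_sup, MonoidHom.map_zpowers, Subgroup.subgroupOf_map_subtype,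
          inf_eq_left.mpr hHK]
        rfl
      have h4 : y ∈ ((Subgroup.zpowers (⟨g, hgK⟩ : K)) ⊔ H.subgroupOf K).map K.subtype := by
        rw [← h3]; exact hy
      obtain ⟨w, hw, hw2⟩ := Subgroup.mem_map.mp h4
      have : w = ⟨y, hy⟩ := Subtype.ext hw2
      rwa [← this])
    ⟨h, hHK hh⟩ hh
  exact ⟨x, hx, c, hc, congrArg Subtype.val h1, congrArg Subtype.val h2⟩

end Cfsg.Agent.H11.PF
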