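import Cfsg.Agent.H11.PF4
import Cfsg.Agent.H3.Ind

/-!
PF section 2: the Dade setup, group theory and inner products.
-/
set_option autoImplicit false

namespace Cfsg.Agent.H11.PF

open Cfsg ComplexConjugate
open scoped Pointwise

universe u v

variable {G : Type u} [Group G] {A : Set G} {L : Subgroup G} {H : G → Subgroup G}

theorem mem_cent_single {a c : G} : c ∈ Subgroup.centralizer ({a} : Set G) ↔ a * c = c * a := by
  rw [Subgroup.mem_centralizer_iff]; simp

/-- S1497 -/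
theorem ti_iff_dade (hA : A.Nonempty) (h1 : (1 : G) ∉ A) (L : Subgroup G) :
    (IsTISubset A ∧ Subgroup.normalizer A = L) ↔ DadeHypothesis A L (fun _ => ⊥) := by
  constructor
  · rintro ⟨hTI, rfl⟩
    have key : ∀ g : G, ∀ a ∈ A, g * a * g⁻¹ ∈ A → g ∈ Subgroup.normalizer A := by
      intro g a ha hga
      by_contra hg
      have := hTI g hg a ha hga
      rw [this] at ha
      exact h1 ha
    refine ⟨h1, ?_, ?_, ?_, ?_, ?_, ?_, ?_, ?_⟩
    · intro a ha
      exact key a a ha (by simpa using ha)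
    · intro x hx a ha
      exact (Subgroup.mem_set_normalizer_iff.mp hx a).mp ha
    · intro a ha g hg
      exact ⟨g, key g a ha hg, rfl⟩
    · intro a _; exact bot_le
    · intro a _ c _ u hu
      rw [Subgroup.mem_bot] at hu ⊢
      rw [hu]; group
    · intro a _; exact bot_inf_eq _
    · intro a ha
      rw [bot_sup_eq, inf_eq_right]
      intro c hc
      refine key c a ha ?_
      have : c * a * c⁻¹ = a := by
        rw [← mem_cent_single.mp hc]; group
      rw [this]; exact ha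
    · intro a _ b _
      simp
  · intro hD
    have key : ∀ g : G, ∀ a ∈ A, g * a * g⁻¹ ∈ A → g ∈ L := by
      intro g a ha hga
      obtain ⟨x, hx, hxa⟩ := hD.fusion a ha g hga
      have h2 : x⁻¹ * g ∈ Subgroup.centralizer ({a} : Set G) := by
        rw [mem_cent_single]
        calc a * (x⁻¹ * g) = x⁻¹ * (x * a * x⁻¹) * g := by group
          _ = x⁻¹ * (g * a * g⁻¹) * g := by rw [hxa]
          _ = x⁻¹ * g * a := by group
      have h3 := hD.sup_eq a ha
      rw [bot_sup_eq] at h3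
      rw [← h3] at h2
      have h4 := (Subgroup.mem_inf.mp h2).1
      have : g = x * (x⁻¹ * g) := by group
      rw [this]
      exact L.mul_mem hx h4
    have hn : Subgroup.normalizer A = L := by
      ext g
      constructor
      · intro hg
        obtain ⟨a, ha⟩ := hA
        exact key g a ha ((Subgroup.mem_set_normalizer_iff.mp hg a).mp ha)
      · intro hg
        rw [Subgroup.mem_set_normalizer_iff]
        intro a
        constructor
        · intro ha; exact hD.conj_mem g hg a ha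
        · intro ha
          have := hD.conj_mem g⁻¹ (L.inv_mem hg) _ ha
          have e : g⁻¹ * (g * a * g⁻¹) * g⁻¹⁻¹ = a := by group
          rwa [e] at this
    refine ⟨?_, hn⟩
    intro g hg x hx hgx
    exact absurd (hn ▸ key g x hx hgx) hg

variable (hD : DadeHypothesis A L H)
include hD

theorem le_norm_H {a : G} (ha : a ∈ A) :
    Subgroup.centralizer ({a} : Set G) ≤ Subgroup.normalizer (H a : Set G) := by
  intro c hc
  rw [Subgroup.mem_normalizer_iff]
  intro h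
  constructor
  · intro hh; exact hD.conj_mem_H a ha c hc h hh
  · intro hh
    have := hD.conj_mem_H a ha c⁻¹ (Subgroup.inv_mem _ hc) _ hh
    have e : c⁻¹ * (c * h * c⁻¹) * c⁻¹⁻¹ = h := by group
    rwa [e] at this

theorem decomp {a : G} (ha : a ∈ A) {c : G} (hc : c ∈ Subgroup.centralizer ({a} : Set G)) :
    ∃ h ∈ H a, ∃ l ∈ L ⊓ Subgroup.centralizer ({a} : Set G), c = h * l := by
  rw [← hD.sup_eq a ha] at hc
  have h1 := Subgroup.coe_mul_of_right_le_normalizer_left (H a)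
    (L ⊓ Subgroup.centralizer ({a} : Set G)) (inf_le_right.trans (le_norm_H hD ha))
  have h2 : c ∈ ((H a : Set G) * ((L ⊓ Subgroup.centralizer ({a} : Set G) : Subgroup G) : Set G)) := by
    rw [← h1]; exact hc
  obtain ⟨h, hh, l, hl, rfl⟩ := Set.mem_mul.mp h2
  exact ⟨h, hh, l, hl, rfl⟩

variable [Finite G]

theorem mem_H_of_coprime {a : G} (ha : a ∈ A) {u : G}
    (hu : u ∈ Subgroup.centralizer ({a} : Set G)) {n : ℕ} (hn : u ^ n = 1)
    (hcop : Nat.Coprime n (Nat.card ↥(L ⊓ Subgroup.centralizer ({a} : Set G)))) : u ∈ H a := by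
  obtain ⟨h, hh, l, hl, rfl⟩ := decomp hD ha hu
  have hpow : ∀ k : ℕ, ∃ v ∈ H a, (h * l) ^ k = v * l ^ k := by
    intro k
    induction k with
    | zero => exact ⟨1, (H a).one_mem, by simp⟩
    | succ k ih =>
      obtain ⟨v, hv, hv2⟩ := ih
      have hlk : l ^ k ∈ Subgroup.centralizer ({a} : Set G) :=
        Subgroup.pow_mem _ (Subgroup.mem_inf.mp hl).2 k
      refine ⟨v * (l ^ k * h * (l ^ k)⁻¹), (H a).mul_mem hv (hD.conj_mem_H a ha _ hlk h hh), ?_⟩
      rw [pow_succ, hv2, pow_succ]; group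
  obtain ⟨v, hv, hv2⟩ := hpow n
  rw [hn] at hv2
  have h1 : l ^ n ∈ H a ⊓ (L ⊓ Subgroup.centralizer ({a} : Set G)) := by
    refine Subgroup.mem_inf.mpr ⟨?_, Subgroup.pow_mem _ hl n⟩
    have : l ^ n = v⁻¹ := by
      rw [eq_inv_iff_mul_eq_one]
      have h2 : l ^ n = v⁻¹ := (inv_eq_of_mul_eq_one_right hv2.symm).symm
      rw [h2]; group
    rw [this]; exact (H a).inv_mem hv
  rw [hD.inf_eq_bot a ha, Subgroup.mem_bot] at h1
  have h3 : l ^ Nat.card ↥(L ⊓ Subgroup.centralizer ({a} : Set G)) = 1 := by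
    have := pow_card_eq_one' (x := (⟨l, hl⟩ : ↥(L ⊓ Subgroup.centralizer ({a} : Set G))))
    exact congrArg Subtype.val this
  have h4 : l = 1 := by
    have := Nat.eq_one_of_dvd_coprimes hcop (orderOf_dvd_of_pow_eq_one h1)
      (orderOf_dvd_of_pow_eq_one h3)
    exact orderOf_eq_one_iff.mp this
  rw [h4, mul_one]; exact hh

omit [Finite G] in
theorem conj_cent {a g c : G} (hc : c ∈ Subgroup.centralizer ({a} : Set G)) :
    g * c * g⁻¹ ∈ Subgroup.centralizer ({g * a * g⁻¹} : Set G) := by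
  rw [mem_cent_single] at hc ⊢
  calc g * a * g⁻¹ * (g * c * g⁻¹) = g * (a * c) * g⁻¹ := by group
    _ = g * (c * a) * g⁻¹ := by rw [hc]
    _ = _ := by group

theorem H_conj_mem {a : G} (ha : a ∈ A) {g : G} (hg : g * a * g⁻¹ ∈ A) {u : G} (hu : u ∈ H a) :
    g * u * g⁻¹ ∈ H (g * a * g⁻¹) := by
  refine mem_H_of_coprime hD hg (conj_cent hD (hD.le_centralizer a ha hu))
    (n := Nat.card (H a)) ?_ (hD.coprime a ha _ hg)
  have h1 : u ^ Nat.card (H a) = 1 := by
    have := pow_card_eq_one' (x := (⟨u, hu⟩ : H a))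
    exact congrArg Subtype.val this
  rw [conj_pow, h1]; group

theorem H_conj_iff {a : G} (ha : a ∈ A) {g : G} (hg : g * a * g⁻¹ ∈ A) {u : G} :
    g * u * g⁻¹ ∈ H (g * a * g⁻¹) ↔ u ∈ H a := by
  constructor
  · intro h
    have h2 : g⁻¹ * (g * a * g⁻¹) * g⁻¹⁻¹ = a := by group
    have h1 := H_conj_mem hD hg (g := g⁻¹) (by rw [h2]; exact ha) h
    rw [h2] at h1
    have h3 : g⁻¹ * (g * u * g⁻¹) * g⁻¹⁻¹ = u := by group
    rwa [h3] at h1
  · exact H_conj_mem hD ha hg

theorem H_conj_eq {a : G} (ha : a ∈ A) {g : G} (hg : g * a * g⁻¹ ∈ A) :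
    H (g * a * g⁻¹) = (H a).map (MulAut.conj g).toMonoidHom := by
  ext x
  rw [Subgroup.mem_map]
  constructor
  · intro hx
    refine ⟨g⁻¹ * x * g, ?_, by simp [mul_assoc]⟩
    rw [← H_conj_iff hD ha hg]
    have : g * (g⁻¹ * x * g) * g⁻¹ = x := by group
    rwa [this]
  · rintro ⟨u, hu, rfl⟩
    exact H_conj_mem hD ha hg hu

theorem card_H_conj {a : G} (ha : a ∈ A) {g : G} (hg : g * a * g⁻¹ ∈ A) :
    Nat.card (H (g * a * g⁻¹)) = Nat.card (H a) := by
  rw [H_conj_eq hD ha hg]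
  exact Subgroup.card_map_of_injective (MulEquiv.injective _)

theorem exists_pow {a b : G} (ha : a ∈ A) (hb : b ∈ A) :
    ∃ m : ℕ, (∀ u ∈ H a, (a * u) ^ m = a) ∧ (∀ v ∈ H b, (b * v) ^ m = b) := by
  have hc := hD.coprime
  have hcop : Nat.Coprime
      (Nat.card ↥(L ⊓ Subgroup.centralizer ({a} : Set G)) *
        Nat.card ↥(L ⊓ Subgroup.centralizer ({b} : Set G)))
      (Nat.card (H a) * Nat.card (H b)) := by
    refine Nat.Coprime.mul_left (Nat.Coprime.mul_right ?_ ?_) (Nat.Coprime.mul_right ?_ ?_)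
    · exact (hc a ha a ha).symm
    · exact (hc b hb a ha).symm
    · exact (hc a ha b hb).symm
    · exact (hc b hb b hb).symm
  obtain ⟨m, hm1, hm2⟩ := Nat.chineseRemainder hcop 1 0
  have key : ∀ c : G, c ∈ A → Nat.card ↥(L ⊓ Subgroup.centralizer ({c} : Set G)) ∣
      Nat.card ↥(L ⊓ Subgroup.centralizer ({a} : Set G)) *
        Nat.card ↥(L ⊓ Subgroup.centralizer ({b} : Set G)) →
      Nat.card (H c) ∣ Nat.card (H a) * Nat.card (H b) → ∀ u ∈ H c, (c * u) ^ m = c := by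
    intro c hc1 h1 h2 u hu
    have hcomm : Commute c u := mem_cent_single.mp (hD.le_centralizer c hc1 hu)
    rw [hcomm.mul_pow]
    have h3 : u ^ m = 1 := by
      have h4 : Nat.card (H c) ∣ m := h2.trans (Nat.modEq_zero_iff_dvd.mp hm2)
      obtain ⟨t, rfl⟩ := h4
      have := pow_card_eq_one' (x := (⟨u, hu⟩ : H c))
      have h5 : u ^ Nat.card (H c) = 1 := congrArg Subtype.val this
      rw [pow_mul, h5, one_pow]
    have h4 : c ^ m = c := by
      have h5 : c ∈ L ⊓ Subgroup.centralizer ({c} : Set G) :=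
        Subgroup.mem_inf.mpr ⟨hD.subset hc1, by rw [mem_cent_single]⟩
      have h6 : orderOf c ∣ Nat.card ↥(L ⊓ Subgroup.centralizer ({c} : Set G)) := by
        have := orderOf_dvd_natCard (⟨c, h5⟩ : ↥(L ⊓ Subgroup.centralizer ({c} : Set G)))
        rwa [← Subgroup.orderOf_coe] at this
      have h7 : c ^ m = c ^ 1 := by
        rw [pow_eq_pow_iff_modEq]
        exact Nat.ModEq.of_dvd (h6.trans h1) hm1
      rw [h7, pow_one]
    rw [h3, h4, mul_one]
  exact ⟨m, key a ha (dvd_mul_right _ _) (dvd_mul_right _ _),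
    key b hb (dvd_mul_left _ _) (dvd_mul_left _ _)⟩

theorem conj_part {a b : G} (ha : a ∈ A) (hb : b ∈ A) {u v : G} (hu : u ∈ H a) (hv : v ∈ H b)
    {g : G} (h : g * (a * u) * g⁻¹ = b * v) : g * a * g⁻¹ = b := by
  obtain ⟨m, h1, h2⟩ := exists_pow hD ha hb
  rw [← h2 v hv, ← h, conj_pow, h1 u hu]

/-- S1499, second part -/
theorem normalizer_coset {a : G} (ha : a ∈ A) :
    Subgroup.normalizer ((fun u : G => a * u) '' (H a : Set G)) =
      Subgroup.centralizer ({a} : Set G) := by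
  ext g
  constructor
  · intro hg
    have h1 : a ∈ (fun u : G => a * u) '' (H a : Set G) := ⟨1, (H a).one_mem, mul_one a⟩
    obtain ⟨v, hv, hv2⟩ := (Subgroup.mem_set_normalizer_iff.mp hg a).mp h1
    have h2 := conj_part hD ha ha (H a).one_mem hv (g := g) (by rw [mul_one]; exact hv2.symm)
    rw [mem_cent_single]
    calc a * g = (g * a * g⁻¹) * g := by rw [h2]
      _ = g * a := by group
  · intro hg
    have hg2 : ∀ c ∈ Subgroup.centralizer ({a} : Set G), ∀ x, x ∈ (fun u : G => a * u) '' (H a : Set G) →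
        c * x * c⁻¹ ∈ (fun u : G => a * u) '' (H a : Set G) := by
      rintro c hc x ⟨u, hu, rfl⟩
      refine ⟨c * u * c⁻¹, hD.conj_mem_H a ha c hc u hu, ?_⟩
      show a * (c * u * c⁻¹) = c * (a * u) * c⁻¹
      calc a * (c * u * c⁻¹) = (a * c) * u * c⁻¹ := by group
        _ = (c * a) * u * c⁻¹ := by rw [mem_cent_single.mp hc]
        _ = _ := by group
    rw [Subgroup.mem_set_normalizer_iff]
    intro x
    constructor
    · exact hg2 g hg x
    · intro hx
      have := hg2 g⁻¹ (Subgroup.inv_mem _ hg) _ hx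
      have e : g⁻¹ * (g * x * g⁻¹) * g⁻¹⁻¹ = x := by group
      rwa [e] at this

/-- the Dade map value -/
theorem dade_apply {α : L → ℂ} (hα : IsClassFunction L α) {a : L} (ha : (a : G) ∈ A) {g x u : G}
    (hu : u ∈ H (a : G)) (h : x * g * x⁻¹ = a * u) : dadeIsometry A L H α g = α a := by
  have hex : ∃ a : ↥L, (a : G) ∈ A ∧ ∃ x : G, ∃ u ∈ H (a : G), x * g * x⁻¹ = (a : G) * u :=
    ⟨a, ha, x, u, hu, h⟩
  unfold dadeIsometry
  rw [dif_pos hex]
  obtain ⟨h1, y, v, hv, hy⟩ := Classical.choose_spec hex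
  generalize Classical.choose hex = b at h1 hv hy
  have h2 : (y * x⁻¹) * (a * u) * (y * x⁻¹)⁻¹ = b * v := by
    rw [← hy, ← h]; group
  have h3 := conj_part hD ha h1 hu hv h2
  obtain ⟨l, hl, hl2⟩ := hD.fusion a ha (y * x⁻¹) (by rw [h3]; exact h1)
  have h4 : b = (⟨l, hl⟩ : L) * a * (⟨l, hl⟩ : L)⁻¹ := by
    apply Subtype.ext
    rw [← h3, ← hl2]; rfl
  rw [h4, hα]

omit [Finite G] in
theorem dade_zero {α : L → ℂ} {g : G}
    (h : ¬ ∃ a : ↥L, (a : G) ∈ A ∧ ∃ x : G, ∃ u ∈ H (a : G), x * g * x⁻¹ = (a : G) * u) :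
    dadeIsometry A L H α g = 0 := by
  unfold dadeIsometry
  rw [dif_neg h]

theorem dade_classFun {α : L → ℂ} (hα : IsClassFunction L α) :
    IsClassFunction G (dadeIsometry A L H α) := by
  intro g y
  by_cases h : ∃ a : ↥L, (a : G) ∈ A ∧ ∃ x : G, ∃ u ∈ H (a : G), x * g * x⁻¹ = (a : G) * u
  · obtain ⟨a, ha, x, u, hu, hx⟩ := h
    rw [dade_apply hD hα ha hu hx, dade_apply hD hα ha hu (x := x * y⁻¹) (g := y * g * y⁻¹)]
    rw [← hx]; group
  · rw [dade_zero hD h, dade_zero hD]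
    rintro ⟨a, ha, x, u, hu, hx⟩
    apply h
    refine ⟨a, ha, x * y, u, hu, ?_⟩
    rw [← hx]; group

/-- Counting: the number of `x` with `x⁻¹ a x ∈ A`. -/
theorem card_conj_mem {a : G} (ha : a ∈ A) :
    Nat.card {x : G // x⁻¹ * a * x ∈ A} = Nat.card (H a) * Nat.card L := by
  rw [← Nat.card_prod]
  symm
  refine Nat.card_congr (Equiv.ofBijective (fun p : H a × L =>
    (⟨(p.1 : G) * p.2, ?_⟩ : {x : G // x⁻¹ * a * x ∈ A})) ⟨?_, ?_⟩)
  · have h1 : (p.1 : G)⁻¹ * a * p.1 = a := by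
      have := mem_cent_single.mp (hD.le_centralizer a ha p.1.2)
      rw [mul_assoc, this]; group
    have h2 : ((p.1 : G) * p.2)⁻¹ * a * (p.1 * p.2) = (p.2 : G)⁻¹ * ((p.1 : G)⁻¹ * a * p.1) * p.2 := by
      group
    rw [h2, h1]
    have := hD.conj_mem (p.2 : G)⁻¹ (L.inv_mem p.2.2) a ha
    rwa [inv_inv] at this
  · rintro ⟨h, l⟩ ⟨h', l'⟩ heq
    have h1 : (h : G) * l = h' * l' := congrArg Subtype.val heq
    have h2 : (h' : G)⁻¹ * h = l' * (l : G)⁻¹ := by
      rw [inv_mul_eq_iff_eq_mul, ← mul_assoc, ← h1]; group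
    have h3 : (h' : G)⁻¹ * h ∈ H a ⊓ (L ⊓ Subgroup.centralizer ({a} : Set G)) := by
      have h4 : (h' : G)⁻¹ * h ∈ H a := (H a).mul_mem ((H a).inv_mem h'.2) h.2
      refine Subgroup.mem_inf.mpr ⟨h4, Subgroup.mem_inf.mpr ⟨?_, hD.le_centralizer a ha h4⟩⟩
      rw [h2]; exact L.mul_mem l'.2 (L.inv_mem l.2)
    rw [hD.inf_eq_bot a ha, Subgroup.mem_bot] at h3
    have h5 : (h : G) = h' := (inv_mul_eq_one.mp h3).symm
    have h6 : (l : G) = l' := by
      rw [h5] at h1
      exact mul_left_cancel h1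
    exact Prod.ext (Subtype.ext h5) (Subtype.ext h6)
  · rintro ⟨x, hx⟩
    obtain ⟨l, hl, hl2⟩ := hD.fusion a ha x⁻¹ (by rw [inv_inv]; exact hx)
    have h1 : x * l ∈ Subgroup.centralizer ({a} : Set G) := by
      rw [mem_cent_single]
      calc a * (x * l) = x * (x⁻¹ * a * x⁻¹⁻¹) * l := by group
        _ = x * (l * a * l⁻¹) * l := by rw [hl2]
        _ = x * l * a := by group
    obtain ⟨h, hh, l', hl', heq⟩ := decomp hD ha h1
    refine ⟨(⟨h, hh⟩, ⟨l' * l⁻¹, L.mul_mem (Subgroup.mem_inf.mp hl').1 (L.inv_mem hl)⟩), ?_⟩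
    apply Subtype.ext
    show h * (l' * l⁻¹) = x
    rw [← mul_assoc, ← heq]; group

theorem conj_part' {a b : G} (ha : a ∈ A) (hb : b ∈ A) {u v : G} (hu : u ∈ H a) (hv : v ∈ H b)
    {g : G} (h : g * (a * u) * g⁻¹ = b * v) : g * a * g⁻¹ = b ∧ g * u * g⁻¹ = v := by
  have h1 := conj_part hD ha hb hu hv h
  refine ⟨h1, ?_⟩
  have h2 : g * (a * u) * g⁻¹ = b * (g * u * g⁻¹) := by rw [← h1]; group
  rw [h2] at h
  exact mul_left_cancel h

open Classical in
/-- Pointwise weight formula over the Dade support. -/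
theorem dade_weight [Fintype G] [Fintype L] (F : G → ℂ)
    (hF0 : ∀ g, (¬ ∃ a : ↥L, (a : G) ∈ A ∧ ∃ x : G, ∃ u ∈ H (a : G), x * g * x⁻¹ = (a : G) * u) →
      F g = 0) (g : G) :
    ∑ x : G, ∑ a : L, (if (a : G) ∈ A ∧ (a : G)⁻¹ * (x⁻¹ * g * x) ∈ H (a : G) then
      (Nat.card (H a) : ℂ)⁻¹ * F g else 0) = (Nat.card L : ℂ) * F g := by
  -- the kernel
  obtain ⟨K, hK⟩ : ∃ K : G → G → L → ℂ, K = fun (g x : G) (a : L) =>
      if (a : G) ∈ A ∧ (a : G)⁻¹ * (x⁻¹ * g * x) ∈ H (a : G) then (Nat.card (H a) : ℂ)⁻¹ * F g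
      else 0 := ⟨_, rfl⟩
  have hKpos : ∀ (g x : G) (a : L), (a : G) ∈ A → (a : G)⁻¹ * (x⁻¹ * g * x) ∈ H (a : G) →
      K g x a = (Nat.card (H a) : ℂ)⁻¹ * F g := by
    intro g x a h1 h2
    rw [hK]
    exact if_pos ⟨h1, h2⟩
  have hKneg : ∀ (g x : G) (a : L), ¬ ((a : G) ∈ A ∧ (a : G)⁻¹ * (x⁻¹ * g * x) ∈ H (a : G)) →
      K g x a = 0 := by
    intro g x a h1
    rw [hK]
    exact if_neg h1
  have h1 : ∀ g : G, ∑ x : G, ∑ a : L, K g x a = (Nat.card L : ℂ) * F g := by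
    intro g
    by_cases hg : ∃ a : ↥L, (a : G) ∈ A ∧ ∃ x : G, ∃ u ∈ H (a : G), x * g * x⁻¹ = (a : G) * u
    · obtain ⟨a₀, ha₀, x₀, u₀, hu₀, hx₀⟩ := hg
      have hH0 : (Nat.card (H a₀) : ℂ) ≠ 0 := by exact_mod_cast Nat.card_pos.ne'
      have h2 : ∀ x : G, ∑ a : L, K g x a =
          if (x₀ * x)⁻¹ * a₀ * (x₀ * x) ∈ A then (Nat.card (H a₀) : ℂ)⁻¹ * F g else 0 := by
        intro x
        have hgx : g = x₀⁻¹ * (a₀ * u₀) * x₀ := by rw [← hx₀]; group
        have key : ∀ a : L, (a : G) ∈ A → (a : G)⁻¹ * (x⁻¹ * g * x) ∈ H (a : G) →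
            (x₀ * x)⁻¹ * a₀ * (x₀ * x) = a := by
          intro a ha hau
          have := conj_part hD ha₀ ha hu₀ hau (g := (x₀ * x)⁻¹) (by rw [hgx]; group)
          rw [← this]; group
        split_ifs with hx
        · -- the unique a
          have hmem : (x₀ * x)⁻¹ * a₀ * (x₀ * x) ∈ L := hD.subset hx
          rw [Finset.sum_eq_single (⟨_, hmem⟩ : L)]
          · have hx' : (x₀ * x)⁻¹ * a₀ * (x₀ * x)⁻¹⁻¹ ∈ A := by rw [inv_inv]; exact hx
            have h3 := H_conj_mem hD ha₀ hx' hu₀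
            have h4 := card_H_conj hD ha₀ hx'
            rw [inv_inv] at h3 h4
            have h5 : ((x₀ * x)⁻¹ * a₀ * (x₀ * x))⁻¹ * (x⁻¹ * g * x) = (x₀ * x)⁻¹ * u₀ * (x₀ * x) := by
              rw [hgx]; group
            rw [hKpos g x ⟨_, hmem⟩ hx (by rw [h5]; exact h3)]
            show (Nat.card (H ((x₀ * x)⁻¹ * a₀ * (x₀ * x))) : ℂ)⁻¹ * _ = _
            rw [h4]
          · intro b _ hb
            apply hKneg
            rintro ⟨hb1, hb2⟩
            apply hb
            exact Subtype.ext (key b hb1 hb2).symm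
          · intro h; exact absurd (Finset.mem_univ _) h
        · refine Finset.sum_eq_zero fun a _ => ?_
          apply hKneg
          rintro ⟨ha1, ha2⟩
          apply hx
          rw [key a ha1 ha2]; exact ha1
      rw [Finset.sum_congr rfl (fun x _ => h2 x)]
      have h7 := Equiv.sum_comp (Equiv.mulLeft x₀)
        (fun x => if x⁻¹ * (a₀ : G) * x ∈ A then (Nat.card (H a₀) : ℂ)⁻¹ * F g else 0)
      have h8 : (∑ x : G, if (x₀ * x)⁻¹ * (a₀ : G) * (x₀ * x) ∈ A then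
          (Nat.card (H a₀) : ℂ)⁻¹ * F g else 0) =
          ∑ x : G, if x⁻¹ * (a₀ : G) * x ∈ A then (Nat.card (H a₀) : ℂ)⁻¹ * F g else 0 := h7
      rw [h8]
      rw [← Finset.sum_filter, Finset.sum_const, nsmul_eq_mul]
      have h6 := card_conj_mem hD ha₀
      rw [Nat.card_eq_fintype_card, Fintype.card_subtype] at h6
      rw [h6]
      push_cast
      field_simp
    · rw [hF0 g hg, mul_zero]
      refine Finset.sum_eq_zero fun x _ => Finset.sum_eq_zero fun a _ => ?_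
      apply hKneg
      rintro ⟨ha1, ha2⟩
      apply hg
      exact ⟨a, ha1, x⁻¹, _, ha2, by group⟩
  have h2 := h1 g
  rw [hK] at h2
  exact h2

open Classical in
/-- Weighted double counting over the Dade support. -/
theorem dade_sum [Fintype G] [Fintype L] (F : G → ℂ) (hF : IsClassFunction G F)
    (hF0 : ∀ g, (¬ ∃ a : ↥L, (a : G) ∈ A ∧ ∃ x : G, ∃ u ∈ H (a : G), x * g * x⁻¹ = (a : G) * u) →
      F g = 0) :
    (Nat.card L : ℂ) * ∑ g : G, F g = (Nat.card G : ℂ) *
      ∑ a : L, if (a : G) ∈ A then (Nat.card (H a) : ℂ)⁻¹ *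
        ∑ u : G, if u ∈ H (a : G) then F (a * u) else 0 else 0 := by
  -- the kernel
  obtain ⟨K, hK⟩ : ∃ K : G → G → L → ℂ, K = fun (g x : G) (a : L) =>
      if (a : G) ∈ A ∧ (a : G)⁻¹ * (x⁻¹ * g * x) ∈ H (a : G) then (Nat.card (H a) : ℂ)⁻¹ * F g
      else 0 := ⟨_, rfl⟩
  have hKpos : ∀ (g x : G) (a : L), (a : G) ∈ A → (a : G)⁻¹ * (x⁻¹ * g * x) ∈ H (a : G) →
      K g x a = (Nat.card (H a) : ℂ)⁻¹ * F g := by
    intro g x a h1 h2
    rw [hK]
    exact if_pos ⟨h1, h2⟩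
  have hKneg : ∀ (g x : G) (a : L), ¬ ((a : G) ∈ A ∧ (a : G)⁻¹ * (x⁻¹ * g * x) ∈ H (a : G)) →
      K g x a = 0 := by
    intro g x a h1
    rw [hK]
    exact if_neg h1
  have h1 : ∀ g : G, ∑ x : G, ∑ a : L, K g x a = (Nat.card L : ℂ) * F g := by
    intro g
    rw [hK]
    exact dade_weight hD F hF0 g
  have h2 : ∑ g : G, ∑ x : G, ∑ a : L, K g x a = (Nat.card L : ℂ) * ∑ g : G, F g := by
    rw [Finset.mul_sum]
    exact Finset.sum_congr rfl fun g _ => h1 g
  rw [← h2]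
  rw [Finset.sum_congr rfl (fun g _ => Finset.sum_comm)]
  rw [Finset.sum_comm, Finset.mul_sum]
  refine Finset.sum_congr rfl fun a _ => ?_
  rw [Finset.sum_comm]
  have h3 : ∀ x : G, ∑ g : G, K g x a = if (a : G) ∈ A then (Nat.card (H a) : ℂ)⁻¹ *
        ∑ u : G, if u ∈ H (a : G) then F (a * u) else 0 else 0 := by
    intro x
    split_ifs with ha
    · rw [Finset.mul_sum]
      rw [← Equiv.sum_comp ((Equiv.mulLeft (x * a)).trans (Equiv.mulRight x⁻¹)) (fun g => K g x a)]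
      refine Finset.sum_congr rfl fun u _ => ?_
      simp only [Equiv.trans_apply, Equiv.coe_mulLeft, Equiv.coe_mulRight]
      have e1 : (a : G)⁻¹ * (x⁻¹ * (x * a * u * x⁻¹) * x) = u := by group
      have e2 : F (x * a * u * x⁻¹) = F (a * u) := by
        have := hF (a * u) x
        rw [← this]; congr 1; group
      by_cases hu : u ∈ H (a : G)
      · rw [hKpos _ x a ha (by rw [e1]; exact hu), if_pos hu, e2]
      · rw [hKneg _ x a (fun h => hu (by rw [← e1]; exact h.2)), if_neg hu, mul_zero]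
    · exact Finset.sum_eq_zero fun g _ => hKneg _ _ _ (fun h => ha h.1)
  rw [Finset.sum_congr rfl (fun x _ => h3 x), Finset.sum_const, Finset.card_univ, nsmul_eq_mul,
    ← Nat.card_eq_fintype_card]

open Classical in
/-- S1500, second part. -/
theorem dade_inner [Fintype G] [Fintype L] (α : L → ℂ) (hα : IsClassFunction L α)
    (hαA : ∀ x : L, (x : G) ∉ A → α x = 0) (χ : G → ℂ) (hχ : IsClassFunction G χ) (ψ : L → ℂ)
    (hψ : ∀ a : L, (a : G) ∈ A → ψ a = (Nat.card (H a) : ℂ)⁻¹ *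
      ∑ u : G, if u ∈ H (a : G) then χ (a * u) else 0) :
    classInner (dadeIsometry A L H α) χ = classInner α ψ := by
  have hG : (Nat.card G : ℂ) ≠ 0 := by exact_mod_cast Nat.card_pos.ne'
  have hL : (Nat.card L : ℂ) ≠ 0 := by exact_mod_cast Nat.card_pos.ne'
  have hcf := dade_classFun hD hα
  have h1 := dade_sum hD (fun g => dadeIsometry A L H α g * conj (χ g))
    (fun g h => by show _ * _ = _ * _; rw [hcf g h, hχ g h])
    (fun g hg => by show _ * _ = _; rw [dade_zero hD hg, zero_mul])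
  rw [classInner, classInner]
  have h2 : ∑ g : G, dadeIsometry A L H α g * conj (χ g) =
      (Nat.card G : ℂ) * ((Nat.card L : ℂ)⁻¹ * ∑ a : L, α a * conj (ψ a)) := by
    have h3 : ∑ g : G, dadeIsometry A L H α g * conj (χ g) =
        (Nat.card L : ℂ)⁻¹ * ((Nat.card L : ℂ) * ∑ g : G, dadeIsometry A L H α g * conj (χ g)) := by
      rw [inv_mul_cancel_left₀ hL]
    rw [h3, h1, mul_left_comm]
    congr 2
    refine Finset.sum_congr rfl fun (a : L) _ => ?_
    split_ifs with ha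
    · rw [hψ a ha, map_mul, map_inv₀, map_natCast, map_sum, mul_left_comm (α a), Finset.mul_sum _ _ (α a)]
      refine congrArg _ (Finset.sum_congr rfl fun u _ => ?_)
      split_ifs with hu
      · rw [dade_apply hD hα ha hu (x := 1) (g := a * u) (by group)]
      · simp
    · rw [hαA a ha, zero_mul]
  rw [h2, inv_mul_cancel_left₀ hG]

end Cfsg.Agent.H11.PF
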