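import Cfsg.Agent.H11.PF5
import Cfsg.Agent.H3.Core3

/-!
PF section 2: the Dade map sends virtual characters to virtual characters.
-/
set_option autoImplicit false

namespace Cfsg.Agent.H11.PF

open Cfsg Cfsg.Agent.H3 ComplexConjugate
open scoped Pointwise

universe u v

theorem sum_stab_int {K : Type u} {X : Type v} [Group K] [Fintype K] [MulAction K X] [Fintype X]
    (n : X → ℤ) (hn : ∀ (k : K) (x : X), n (k • x) = n x) :
    ∃ m : ℤ, ∑ x : X, (Nat.card (MulAction.stabilizer K x) : ℤ) * n x = (Nat.card K : ℤ) * m := by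
  classical
  haveI : Fintype (MulAction.orbitRel.Quotient K X) := Fintype.ofFinite _
  refine ⟨∑ ω : MulAction.orbitRel.Quotient K X, n ω.out, ?_⟩
  rw [Finset.mul_sum, ← Finset.sum_fiberwise Finset.univ
    (fun x : X => (Quotient.mk'' x : MulAction.orbitRel.Quotient K X))]
  refine Finset.sum_congr rfl fun ω _ => ?_
  obtain ⟨x₀, hx₀⟩ : ∃ x₀, x₀ = ω.out := ⟨_, rfl⟩
  rw [← hx₀]
  have hmem : ∀ x : X, (Quotient.mk'' x : MulAction.orbitRel.Quotient K X) = ω ↔
      x ∈ MulAction.orbit K x₀ := by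
    intro x
    rw [hx₀, ← MulAction.orbitRel_apply]
    letI : Setoid X := MulAction.orbitRel K X
    constructor
    · intro h
      rw [← h]
      exact Setoid.symm (Quotient.mk_out x)
    · intro h
      rw [← Quotient.out_eq ω]
      exact Quotient.sound h
  have h1 : ∀ x ∈ Finset.univ.filter (fun x : X =>
      (Quotient.mk'' x : MulAction.orbitRel.Quotient K X) = ω),
      (Nat.card (MulAction.orbit K x₀) : ℤ) * ((Nat.card (MulAction.stabilizer K x) : ℤ) * n x) =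
        (Nat.card K : ℤ) * n x₀ := by
    intro x hx
    have hx' := (hmem x).mp (Finset.mem_filter.mp hx).2
    have h2 : MulAction.orbit K x = MulAction.orbit K x₀ := MulAction.orbit_eq_iff.mpr hx'
    obtain ⟨k, hk⟩ := hx'
    have h3 : n x = n x₀ := by rw [← hk]; exact hn k x₀
    have h4 : Nat.card (MulAction.orbit K x) * Nat.card (MulAction.stabilizer K x) = Nat.card K := by
      have := MulAction.card_orbit_mul_card_stabilizer_eq_card_group K x
      simpa only [Nat.card_eq_fintype_card] using this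
    rw [h2] at h4
    rw [h3, ← mul_assoc, ← h4]
    push_cast; ring
  have h5 : (Nat.card (MulAction.orbit K x₀) : ℤ) ≠ 0 := by
    have : Nonempty (MulAction.orbit K x₀) := ⟨⟨x₀, MulAction.mem_orbit_self x₀⟩⟩
    exact_mod_cast Nat.card_pos.ne'
  apply mul_left_cancel₀ h5
  rw [Finset.mul_sum, Finset.sum_congr rfl h1, Finset.sum_const, nsmul_eq_mul]
  congr 1
  have h6 : (Finset.univ.filter (fun x : X =>
      (Quotient.mk'' x : MulAction.orbitRel.Quotient K X) = ω)).card =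
      Nat.card (MulAction.orbit K x₀) := by
    rw [Nat.card_eq_fintype_card, ← Fintype.card_subtype]
    exact Fintype.card_congr (Equiv.subtypeEquivRight hmem)
  rw [h6]

/-- counting on a coset of a coprimely acted subgroup. -/
theorem coset_weight {G : Type u} [Group G] [Fintype G] (P : G → ℂ) (hP : IsClassFunction G P)
    (K : Subgroup G) [Fintype K] (l : G) (hl : l ∈ Subgroup.normalizer (K : Set G))
    (hcop : Nat.Coprime (orderOf l) (Nat.card K))
    [Fintype ↥(K ⊓ Subgroup.centralizer ({l} : Set G))] :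
    (Nat.card ↥(K ⊓ Subgroup.centralizer ({l} : Set G)) : ℂ) * ∑ u : K, P (u * l) =
      (Nat.card K : ℂ) * ∑ c : ↥(K ⊓ Subgroup.centralizer ({l} : Set G)), P (c * l) := by
  classical
  obtain ⟨C, hC⟩ : ∃ C : Subgroup G, C = K ⊓ Subgroup.centralizer ({l} : Set G) := ⟨_, rfl⟩
  have hnorm : ∀ k : K, l * (k : G)⁻¹ * l⁻¹ ∈ K := fun k =>
    (Subgroup.mem_normalizer_iff.mp hl _).mp (K.inv_mem k.2)
  let φ : K × ↥(K ⊓ Subgroup.centralizer ({l} : Set G)) → K := fun p =>
    ⟨(p.1 : G) * (p.2 : G) * (l * (p.1 : G)⁻¹ * l⁻¹),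
      K.mul_mem (K.mul_mem p.1.2 (Subgroup.mem_inf.mp p.2.2).1) (hnorm p.1)⟩
  have hφ : ∀ p, (φ p : G) * l = p.1 * (p.2 * l) * (p.1 : G)⁻¹ := by
    intro p
    show (p.1 : G) * (p.2 : G) * (l * (p.1 : G)⁻¹ * l⁻¹) * l = _
    group
  have h1 : ∑ p : K × ↥(K ⊓ Subgroup.centralizer ({l} : Set G)), P (φ p * l) =
      (Nat.card K : ℂ) * ∑ c : ↥(K ⊓ Subgroup.centralizer ({l} : Set G)), P (c * l) := by
    rw [Fintype.sum_prod_type]
    rw [Finset.sum_congr rfl (g := fun _ =>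
      ∑ c : ↥(K ⊓ Subgroup.centralizer ({l} : Set G)), P (c * l))
      (fun k _ => Finset.sum_congr rfl fun c _ => by rw [hφ, hP])]
    rw [Finset.sum_const, Finset.card_univ, nsmul_eq_mul, Nat.card_eq_fintype_card]
  rw [← h1, ← Finset.sum_fiberwise Finset.univ φ, Finset.mul_sum]
  refine Finset.sum_congr rfl fun u _ => ?_
  rw [Finset.sum_congr rfl (g := fun _ => P (u * l))
    (fun p hp => by rw [(Finset.mem_filter.mp hp).2]), Finset.sum_const, nsmul_eq_mul]
  congr 1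
  rw [← Fintype.card_subtype, ← Nat.card_eq_fintype_card]
  -- the fibre
  obtain ⟨x, hx, c₀, hc₀, hcl, hxu⟩ := conj_coset K l hl hcop u u.2
  have hc₀' : c₀ ∈ K ⊓ Subgroup.centralizer ({l} : Set G) :=
    Subgroup.mem_inf.mpr ⟨hc₀, mem_cent_single.mpr hcl.symm⟩
  have hul : (u : G) * l = x⁻¹ * (c₀ * l) * x := by rw [← hxu]; group
  congr 1
  refine Nat.card_congr (Equiv.ofBijective (fun d : ↥(K ⊓ Subgroup.centralizer ({l} : Set G)) =>
    (⟨(⟨x⁻¹ * d, K.mul_mem (K.inv_mem hx) (Subgroup.mem_inf.mp d.2).1⟩,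
      ⟨(d : G)⁻¹ * c₀ * d, Subgroup.mul_mem _ (Subgroup.mul_mem _ (Subgroup.inv_mem _ d.2) hc₀')
        d.2⟩), ?_⟩ : {p // φ p = u})) ⟨?_, ?_⟩)
  · apply Subtype.ext
    have h2 := hφ (⟨x⁻¹ * d, K.mul_mem (K.inv_mem hx) (Subgroup.mem_inf.mp d.2).1⟩,
      ⟨(d : G)⁻¹ * c₀ * d, Subgroup.mul_mem _ (Subgroup.mul_mem _ (Subgroup.inv_mem _ d.2) hc₀')
        d.2⟩)
    apply mul_right_cancel (b := l)
    rw [h2, hul]
    have h3 : l * (d : G) = d * l := mem_cent_single.mp (Subgroup.mem_inf.mp d.2).2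
    show x⁻¹ * d * ((d : G)⁻¹ * c₀ * d * l) * (x⁻¹ * (d : G))⁻¹ = x⁻¹ * (c₀ * l) * x
    calc x⁻¹ * d * ((d : G)⁻¹ * c₀ * d * l) * (x⁻¹ * (d : G))⁻¹
        = x⁻¹ * c₀ * (d * l) * (d : G)⁻¹ * x := by group
      _ = x⁻¹ * c₀ * (l * d) * (d : G)⁻¹ * x := by rw [h3]
      _ = _ := by group
  · intro d d' h
    have h2 := congrArg (fun p : {p // φ p = u} => ((p.1.1 : K) : G)) h
    exact Subtype.ext (mul_left_cancel (a := x⁻¹) h2)
  · rintro ⟨⟨k, c⟩, hp⟩
    have h2 : (k : G) * (c * l) * (k : G)⁻¹ = x⁻¹ * (c₀ * l) * x := by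
      rw [← hul, ← hp, hφ]
    -- d = x k centralizes l
    have h3 : (x * k) * (c * l) * (x * k : G)⁻¹ = c₀ * l := by
      calc (x * k) * (c * l) * (x * k : G)⁻¹ = x * ((k : G) * (c * l) * (k : G)⁻¹) * x⁻¹ := by group
        _ = _ := by rw [h2]; group
    obtain ⟨m, hm1, hm2⟩ := Nat.chineseRemainder hcop 1 0
    have hpow : ∀ c ∈ K ⊓ Subgroup.centralizer ({l} : Set G), (c * l) ^ m = l := by
      intro c hc
      have hcomm : Commute c l := (mem_cent_single.mp (Subgroup.mem_inf.mp hc).2).symm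
      rw [hcomm.mul_pow]
      have h4 : c ^ m = 1 := by
        obtain ⟨t, rfl⟩ := Nat.modEq_zero_iff_dvd.mp hm2
        have := pow_card_eq_one' (x := (⟨c, (Subgroup.mem_inf.mp hc).1⟩ : K))
        have h5 : c ^ Nat.card K = 1 := congrArg Subtype.val this
        rw [pow_mul, h5, one_pow]
      have h5 : l ^ m = l ^ 1 := by
        rw [pow_eq_pow_iff_modEq]; exact hm1
      rw [h4, h5, one_mul, pow_one]
    have h4 : (x * k) * l * (x * k : G)⁻¹ = l := by
      have h5 := congrArg (· ^ m) h3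
      simp only [conj_pow] at h5
      rw [hpow c c.2, hpow c₀ hc₀'] at h5
      exact h5
    have hd : x * k ∈ K ⊓ Subgroup.centralizer ({l} : Set G) := by
      refine Subgroup.mem_inf.mpr ⟨K.mul_mem hx k.2, mem_cent_single.mpr ?_⟩
      calc l * (x * k) = ((x * k) * l * (x * k : G)⁻¹) * (x * k) := by rw [h4]
        _ = _ := by group
    refine ⟨⟨x * k, hd⟩, ?_⟩
    apply Subtype.ext
    apply Prod.ext
    · apply Subtype.ext
      show x⁻¹ * (x * k) = k
      group
    · apply Subtype.ext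
      show (x * k : G)⁻¹ * c₀ * (x * k) = c
      have h5 : c₀ = (x * k) * (c * l) * (x * k : G)⁻¹ * l⁻¹ := by rw [h3]; group
      have h6 : (x * k : G)⁻¹ * l⁻¹ * (x * k) = l⁻¹ := by
        calc (x * k : G)⁻¹ * l⁻¹ * (x * k) = (x * k : G)⁻¹ * ((x * k) * l * (x * k : G)⁻¹)⁻¹ * (x * k) := by rw [h4]
          _ = _ := by group
      rw [h5]
      calc (x * k : G)⁻¹ * ((x * k) * (c * l) * (x * k : G)⁻¹ * l⁻¹) * (x * k)
          = c * l * ((x * k : G)⁻¹ * l⁻¹ * (x * k)) := by group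
        _ = c := by rw [h6]; group

end Cfsg.Agent.H11.PF
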