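import Cfsg.Agent.H11.PF6

/-!
PF section 2: the Dade map sends virtual characters to virtual characters.
-/
set_option autoImplicit false

namespace Cfsg.Agent.H11.PF

open Cfsg Cfsg.Agent.H3 ComplexConjugate
open scoped Pointwise

universe u v

variable {G : Type u} [Group G] {A : Set G} {L : Subgroup G} {H : G → Subgroup G}

/-- Intersection of the `H b`. -/
def HB (H : G → Subgroup G) (B : Finset L) : Subgroup G := ⨅ b ∈ B, H (b : G)

theorem mem_HB {B : Finset L} {u : G} : u ∈ HB H B ↔ ∀ b ∈ B, u ∈ H (b : G) := by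
  simp [HB, Subgroup.mem_iInf]

/-- Normalizer of `B` in `L`. -/
def NB (B : Finset L) : Subgroup L := Subgroup.normalizer (B : Set L)

theorem mem_NB {B : Finset L} {l : L} : l ∈ NB B ↔ ∀ b, b ∈ B ↔ l * b * l⁻¹ ∈ B := by
  rw [NB, Subgroup.mem_set_normalizer_iff]
  rfl

/-- The group `H(B) N_L(B)`. -/
def MB (H : G → Subgroup G) (B : Finset L) : Subgroup G := HB H B ⊔ (NB B).map L.subtype

variable [Finite G] (hD : DadeHypothesis A L H) {B : Finset L} (hBA : ∀ b ∈ B, (b : G) ∈ A)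
include hD hBA

theorem NB_normalizes {l : L} (hl : l ∈ NB B) {u : G} (hu : u ∈ HB H B) :
    (l : G) * u * (l : G)⁻¹ ∈ HB H B := by
  rw [mem_HB] at hu ⊢
  intro b hb
  have h1 : l⁻¹ * b * l ∈ B := by
    rw [mem_NB] at hl
    rw [hl]
    have : l * (l⁻¹ * b * l) * l⁻¹ = b := by group
    rwa [this]
  have h2 : (b : G) = l * ((l⁻¹ * b * l : L) : G) * (l : G)⁻¹ := by
    push_cast; group
  have h3 := H_conj_mem hD (hBA _ h1) (g := l) (by rw [← h2]; exact hBA b hb) (hu _ h1)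
  rwa [← h2] at h3

theorem NB_le_normalizer : (NB B).map L.subtype ≤ Subgroup.normalizer (HB H B : Set G) := by
  rintro _ ⟨l, hl, rfl⟩
  rw [Subgroup.mem_normalizer_iff]
  intro u
  constructor
  · exact NB_normalizes hD hBA hl
  · intro hu
    have := NB_normalizes hD hBA ((NB B).inv_mem hl) hu
    have e : ((l⁻¹ : L) : G) * (L.subtype l * u * (L.subtype l)⁻¹) * ((l⁻¹ : L) : G)⁻¹ = u := by
      show ((l⁻¹ : L) : G) * ((l : G) * u * (l : G)⁻¹) * ((l⁻¹ : L) : G)⁻¹ = u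
      push_cast; group
    rwa [e] at this

omit [Finite G] in
theorem HB_inf (hne : B.Nonempty) {u : G} (hu : u ∈ HB H B) (huL : u ∈ L) : u = 1 := by
  obtain ⟨b, hb⟩ := hne
  have h1 := mem_HB.mp hu b hb
  have h2 : u ∈ H (b : G) ⊓ (L ⊓ Subgroup.centralizer ({(b : G)} : Set G)) :=
    Subgroup.mem_inf.mpr ⟨h1, Subgroup.mem_inf.mpr ⟨huL, hD.le_centralizer b (hBA b hb) h1⟩⟩
  rwa [hD.inf_eq_bot b (hBA b hb), Subgroup.mem_bot] at h2

theorem mem_MB_iff {y : G} : y ∈ MB H B ↔ ∃ l ∈ NB B, y * (l : G)⁻¹ ∈ HB H B := by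
  have h1 := Subgroup.coe_mul_of_right_le_normalizer_left (HB H B) ((NB B).map L.subtype)
    (NB_le_normalizer hD hBA)
  constructor
  · intro hy
    have h2 : y ∈ ((HB H B : Set G) * (((NB B).map L.subtype : Subgroup G) : Set G)) := by
      rw [← h1]; exact hy
    obtain ⟨h, hh, _, ⟨l, hl, rfl⟩, rfl⟩ := Set.mem_mul.mp h2
    refine ⟨l, hl, ?_⟩
    show h * (l : G) * (l : G)⁻¹ ∈ _
    rw [mul_inv_cancel_right]; exact hh
  · rintro ⟨l, hl, hy⟩
    have h3 : y = (y * (l : G)⁻¹) * l := by group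
    rw [h3]
    exact (MB H B).mul_mem ((le_sup_left : HB H B ≤ MB H B) hy)
      ((le_sup_right : (NB B).map L.subtype ≤ MB H B) ⟨l, hl, rfl⟩)

omit [Finite G] in
theorem NB_unique (hne : B.Nonempty) {y : G} {l l' : L}
    (h : y * (l : G)⁻¹ ∈ HB H B) (h' : y * (l' : G)⁻¹ ∈ HB H B) : l = l' := by
  have h1 : (y * (l : G)⁻¹)⁻¹ * (y * (l' : G)⁻¹) ∈ HB H B :=
    (HB H B).mul_mem ((HB H B).inv_mem h) h'
  have h2 : (y * (l : G)⁻¹)⁻¹ * (y * (l' : G)⁻¹) = ((l * l'⁻¹ : L) : G) := by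
    push_cast; group
  rw [h2] at h1
  have h3 := HB_inf hD hBA hne h1 (l * l'⁻¹).2
  have h4 : l * l'⁻¹ = 1 := Subtype.ext h3
  exact mul_inv_eq_one.mp h4

theorem exists_MB_hom (hne : B.Nonempty) :
    ∃ f : MB H B →* L, ∀ y : MB H B, f y ∈ NB B ∧ (y : G) * (f y : G)⁻¹ ∈ HB H B := by
  have h1 : ∀ y : MB H B, ∃ l : L, l ∈ NB B ∧ (y : G) * (l : G)⁻¹ ∈ HB H B := fun y =>
    (mem_MB_iff hD hBA).mp y.2
  choose f hf1 hf2 using h1
  refine ⟨MonoidHom.mk' f ?_, fun y => ⟨hf1 y, hf2 y⟩⟩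
  intro y z
  refine NB_unique hD hBA hne (hf2 (y * z)) ?_
  have h2 : ((y * z : MB H B) : G) * ((f y * f z : L) : G)⁻¹ =
      ((y : G) * (f y : G)⁻¹) * ((f y : G) * ((z : G) * (f z : G)⁻¹) * (f y : G)⁻¹) := by
    push_cast; group
  rw [h2]
  exact (HB H B).mul_mem (hf2 y) (NB_normalizes hD hBA (hf1 y) (hf2 z))

theorem card_MB (hne : B.Nonempty) :
    Nat.card (MB H B) = Nat.card (HB H B) * Nat.card (NB B) := by
  rw [← Nat.card_prod]
  symm
  refine Nat.card_congr (Equiv.ofBijective (fun p : HB H B × NB B =>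
    (⟨(p.1 : G) * ((p.2 : L) : G), (mem_MB_iff hD hBA).mpr ⟨p.2, p.2.2, by
      rw [mul_inv_cancel_right]; exact p.1.2⟩⟩ : MB H B)) ⟨?_, ?_⟩)
  · rintro ⟨h, l⟩ ⟨h', l'⟩ heq
    have h1 : (h : G) * ((l : L) : G) = h' * ((l' : L) : G) := congrArg Subtype.val heq
    have h2 : (l : L) = l' := by
      refine NB_unique hD hBA hne (y := (h : G) * ((l : L) : G)) ?_ ?_
      · rw [mul_inv_cancel_right]; exact h.2
      · rw [h1, mul_inv_cancel_right]; exact h'.2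
    have h3 : (h : G) = h' := by
      rw [h2] at h1
      exact mul_right_cancel h1
    exact Prod.ext (Subtype.ext h3) (Subtype.ext h2)
  · rintro ⟨y, hy⟩
    obtain ⟨l, hl, hy2⟩ := (mem_MB_iff hD hBA).mp hy
    refine ⟨(⟨_, hy2⟩, ⟨l, hl⟩), ?_⟩
    apply Subtype.ext
    show y * (l : G)⁻¹ * l = y
    group

open Classical in
theorem ind_MB [Fintype G] [Fintype L] (hne : B.Nonempty) (α : L → ℂ) (f : MB H B →* L)
    (hf : ∀ y : MB H B, f y ∈ NB B ∧ (y : G) * (f y : G)⁻¹ ∈ HB H B) (g : G) :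
    (Nat.card (NB B) : ℂ) * indFun (MB H B) (fun y => α (f y)) g =
      (Nat.card (HB H B) : ℂ)⁻¹ * ∑ x : G, ∑ l : L,
        if l ∈ NB B ∧ (x⁻¹ * g * x) * (l : G)⁻¹ ∈ HB H B then α l else 0 := by
  have h1 : ∀ y : G, extendByZero (MB H B) (fun y => α (f y)) y =
      ∑ l : L, if l ∈ NB B ∧ y * (l : G)⁻¹ ∈ HB H B then α l else 0 := by
    intro y
    by_cases hy : y ∈ MB H B
    · rw [extendByZero_mem _ _ hy, Finset.sum_eq_single (f ⟨y, hy⟩)]
      · rw [if_pos (hf ⟨y, hy⟩)]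
      · intro l _ hl
        rw [if_neg]
        rintro ⟨h2, h3⟩
        exact hl (NB_unique hD hBA hne h3 (hf ⟨y, hy⟩).2)
      · intro h; exact absurd (Finset.mem_univ _) h
    · rw [extendByZero_not_mem _ _ hy]
      symm
      refine Finset.sum_eq_zero fun l _ => ?_
      rw [if_neg]
      rintro ⟨h2, h3⟩
      exact hy ((mem_MB_iff hD hBA).mpr ⟨l, h2, h3⟩)
  have hH : (Nat.card (HB H B) : ℂ) ≠ 0 := by exact_mod_cast Nat.card_pos.ne'
  have hN : (Nat.card (NB B) : ℂ) ≠ 0 := by exact_mod_cast Nat.card_pos.ne'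
  rw [indFun, card_MB hD hBA hne]
  simp only [h1]
  push_cast
  field_simp

end Cfsg.Agent.H11.PF
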