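import Cfsg.Agent.H11.PF7

/-!
PF section 2: the Dade map sends virtual characters to virtual characters.
-/
set_option autoImplicit false

namespace Cfsg.Agent.H11.PF

open Cfsg Cfsg.Agent.H3 ComplexConjugate
open scoped Pointwise

universe u v

section

variable {G : Type u} [Group G] [Fintype G]

open Classical in
/-- number of conjugations sending `g` to `y` -/
noncomputable def Pc (g y : G) : ℂ := ∑ x : G, if x⁻¹ * g * x = y then 1 else 0

theorem Pc_classFun (g : G) : IsClassFunction G (Pc g) := by
  classical
  intro y h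
  unfold Pc
  rw [← Equiv.sum_comp (Equiv.mulRight h⁻¹)]
  refine Finset.sum_congr rfl fun x _ => ?_
  simp only [Equiv.coe_mulRight]
  congr 1
  apply propext
  constructor
  · intro h1
    have : h⁻¹ * ((x * h⁻¹)⁻¹ * g * (x * h⁻¹)) * h = h⁻¹ * (h * y * h⁻¹) * h := by rw [h1]
    calc x⁻¹ * g * x = h⁻¹ * ((x * h⁻¹)⁻¹ * g * (x * h⁻¹)) * h := by group
      _ = _ := by rw [this]; group
  · intro h1
    calc (x * h⁻¹)⁻¹ * g * (x * h⁻¹) = h * (x⁻¹ * g * x) * h⁻¹ := by group
      _ = _ := by rw [h1]

open Classical in
theorem sum_Pc (g : G) (K : Subgroup G) [Fintype K] (l : G) :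
    ∑ x : G, (if (x⁻¹ * g * x) * l⁻¹ ∈ K then (1 : ℂ) else 0) = ∑ u : K, Pc g (u * l) := by
  unfold Pc
  rw [Finset.sum_comm]
  refine Finset.sum_congr rfl fun x _ => ?_
  split_ifs with h
  · rw [Finset.sum_eq_single (⟨_, h⟩ : K)]
    · rw [if_pos]; group
    · intro b _ hb
      rw [if_neg]
      intro h2
      apply hb
      apply Subtype.ext
      show (b : G) = x⁻¹ * g * x * l⁻¹
      rw [h2]; group
    · intro h; exact absurd (Finset.mem_univ _) h
  · symm
    refine Finset.sum_eq_zero fun u _ => ?_
    rw [if_neg]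
    intro h2
    apply h
    rw [h2]
    have : (u : G) * l * l⁻¹ = u := by group
    rw [this]; exact u.2

open Classical in
/-- averaged count -/
noncomputable def Wt (g : G) (K : Subgroup G) (l : G) : ℂ :=
  (Nat.card K : ℂ)⁻¹ * ∑ x : G, if (x⁻¹ * g * x) * l⁻¹ ∈ K then 1 else 0

theorem Wt_eq (g : G) (K : Subgroup G) (l : G) (hl : l ∈ Subgroup.normalizer (K : Set G))
    (hcop : Nat.Coprime (orderOf l) (Nat.card K)) :
    Wt g K l = Wt g (K ⊓ Subgroup.centralizer ({l} : Set G)) l := by
  classical
  haveI : Fintype K := Fintype.ofFinite K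
  haveI : Fintype ↥(K ⊓ Subgroup.centralizer ({l} : Set G)) := Fintype.ofFinite _
  have h1 := coset_weight (Pc g) (Pc_classFun g) K l hl hcop
  have h2 : (Nat.card K : ℂ) ≠ 0 := by exact_mod_cast Nat.card_pos.ne'
  have h3 : (Nat.card ↥(K ⊓ Subgroup.centralizer ({l} : Set G)) : ℂ) ≠ 0 := by
    exact_mod_cast Nat.card_pos.ne'
  unfold Wt
  rw [sum_Pc, sum_Pc]
  field_simp
  linear_combination h1

end

variable {G : Type u} [Group G] {A : Set G} {L : Subgroup G} {H : G → Subgroup G}

section

variable [Fintype G] (hD : DadeHypothesis A L H)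
include hD

theorem HB_insert [DecidableEq L] {B : Finset L} (hne : B.Nonempty) (hBA : ∀ b ∈ B, (b : G) ∈ A)
    {l : L} (hl : (l : G) ∈ A) :
    HB H (insert l B) = HB H B ⊓ Subgroup.centralizer ({(l : G)} : Set G) := by
  ext u
  rw [Subgroup.mem_inf, mem_HB, mem_HB]
  constructor
  · intro h
    exact ⟨fun b hb => h b (Finset.mem_insert_of_mem hb),
      hD.le_centralizer l hl (h l (Finset.mem_insert_self l B))⟩
  · rintro ⟨h1, h2⟩ b hb
    rcases Finset.mem_insert.mp hb with rfl | hb
    · obtain ⟨c, hc⟩ := hne
      refine mem_H_of_coprime hD hl h2 (n := Nat.card (H (c : G))) ?_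
        (hD.coprime c (hBA c hc) _ hl)
      have := pow_card_eq_one' (x := (⟨u, h1 c hc⟩ : H (c : G)))
      exact congrArg Subtype.val this
    · exact h1 b hb

theorem Wt_HB [DecidableEq L] {B : Finset L} (hne : B.Nonempty) (hBA : ∀ b ∈ B, (b : G) ∈ A)
    {l : L} (hl : (l : G) ∈ A) (hlB : l ∈ NB B) (g : G) :
    Wt g (HB H B) (l : G) = Wt g (HB H (insert l B)) (l : G) := by
  rw [HB_insert hD hne hBA hl]
  refine Wt_eq g _ _ ?_ ?_
  · exact NB_le_normalizer hD hBA ⟨l, hlB, rfl⟩
  · obtain ⟨b, hb⟩ := hne
    have h1 : Nat.card (HB H B) ∣ Nat.card (H (b : G)) :=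
      Subgroup.card_dvd_of_le fun u hu => mem_HB.mp hu b hb
    have h2 : orderOf (l : G) ∣ Nat.card ↥(L ⊓ Subgroup.centralizer ({(l : G)} : Set G)) := by
      have h3 : (l : G) ∈ L ⊓ Subgroup.centralizer ({(l : G)} : Set G) :=
        Subgroup.mem_inf.mpr ⟨l.2, by rw [mem_cent_single]⟩
      have := orderOf_dvd_natCard (⟨(l : G), h3⟩ : ↥(L ⊓ Subgroup.centralizer ({(l : G)} : Set G)))
      rwa [← Subgroup.orderOf_coe] at this
    exact (Nat.Coprime.coprime_dvd_left h2
      (Nat.Coprime.coprime_dvd_right h1 (hD.coprime b (hBA b hb) l hl).symm))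

omit hD [Fintype G] in
theorem NB_toggle [DecidableEq L] {B : Finset L} {l : L} (h : l ∈ NB B) :
    l ∈ NB (if l ∈ B then B.erase l else insert l B) := by
  rw [mem_NB] at h ⊢
  intro b
  have h1 : l * b * l⁻¹ = l ↔ b = l := by
    constructor
    · intro h2
      have : b = l⁻¹ * (l * b * l⁻¹) * l := by group
      rw [this, h2]; group
    · rintro rfl; group
  split_ifs with hl
  · rw [Finset.mem_erase, Finset.mem_erase, ← h b, Ne, Ne, h1]
  · rw [Finset.mem_insert, Finset.mem_insert, ← h b, h1]

open Classical in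
/-- The alternating sum formula. -/
theorem dade_formula [Fintype L] (α : L → ℂ) (hα : IsClassFunction L α)
    (hαA : ∀ x : L, (x : G) ∉ A → α x = 0) (g : G) :
    (Nat.card L : ℂ) * dadeIsometry A L H α g =
      ∑ B ∈ (Finset.univ : Finset (Finset L)).filter (fun B : Finset L => B.Nonempty ∧ ∀ b ∈ B, (b : G) ∈ A),
        (-1) ^ (B.card + 1) * ∑ l : L, if l ∈ NB B then α l * Wt g (HB H B) (l : G) else 0 := by
  obtain ⟨S, hS⟩ : ∃ S, S = (Finset.univ : Finset (Finset L)).filter
    (fun B : Finset L => B.Nonempty ∧ ∀ b ∈ B, (b : G) ∈ A) := ⟨_, rfl⟩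
  rw [← hS]
  have hmemS : ∀ B, B ∈ S ↔ B.Nonempty ∧ ∀ b ∈ B, (b : G) ∈ A := by
    intro B; rw [hS]; simp
  have h1 : ∀ B ∈ S, (-1 : ℂ) ^ (B.card + 1) *
      ∑ l : L, (if l ∈ NB B then α l * Wt g (HB H B) (l : G) else 0) =
      ∑ l : L, if (l : G) ∈ A then α l * (if l ∈ NB B then (-1 : ℂ) ^ (B.card + 1) *
        Wt g (HB H (insert l B)) (l : G) else 0) else 0 := by
    intro B hB
    obtain ⟨hne, hBA⟩ := (hmemS B).mp hB
    rw [Finset.mul_sum]
    refine Finset.sum_congr rfl fun l _ => ?_
    by_cases hlA : (l : G) ∈ A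
    · rw [if_pos hlA]
      by_cases hlN : l ∈ NB B
      · rw [if_pos hlN, if_pos hlN, Wt_HB hD hne hBA hlA hlN g]; ring
      · rw [if_neg hlN, if_neg hlN]; ring
    · rw [if_neg hlA, hαA l hlA]; simp
  rw [Finset.sum_congr rfl h1, Finset.sum_comm]
  -- inner sums
  have h2 : ∀ l : L, (l : G) ∈ A → ∑ B ∈ S, (if l ∈ NB B then (-1 : ℂ) ^ (B.card + 1) *
        Wt g (HB H (insert l B)) (l : G) else 0) = Wt g (H (l : G)) (l : G) := by
    intro l hlA
    have hlS : ({l} : Finset L) ∈ S := by
      rw [hmemS]
      refine ⟨Finset.singleton_nonempty l, ?_⟩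
      intro b hb
      rw [Finset.mem_singleton] at hb
      rw [hb]; exact hlA
    rw [← Finset.add_sum_erase S _ hlS]
    have h3 : l ∈ NB ({l} : Finset L) := by
      rw [mem_NB]
      intro b
      rw [Finset.mem_singleton, Finset.mem_singleton]
      constructor
      · rintro rfl; group
      · intro h2
        have : b = l⁻¹ * (l * b * l⁻¹) * l := by group
        rw [this, h2]; group
    have h4 : HB H (insert l ({l} : Finset L)) = H (l : G) := by
      ext u
      rw [mem_HB]
      simp
    rw [if_pos h3, h4]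
    have h5 : ∑ B ∈ S.erase {l}, (if l ∈ NB B then (-1 : ℂ) ^ (B.card + 1) *
        Wt g (HB H (insert l B)) (l : G) else 0) = 0 := by
      refine Finset.sum_involution
        (fun B _ => if l ∈ B then B.erase l else insert l B) ?_ ?_ ?_ ?_
      · intro B hB
        by_cases hN : l ∈ NB B
        · have hN' := NB_toggle hN
          rw [if_pos hN, if_pos hN']
          have h6 : insert l (if l ∈ B then B.erase l else insert l B) = insert l B := by
            split_ifs with hl
            · rw [Finset.insert_erase hl, Finset.insert_eq_of_mem hl]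
            · rw [Finset.insert_idem]
          rw [h6]
          have h7 : (-1 : ℂ) ^ ((if l ∈ B then B.erase l else insert l B).card + 1) =
              - (-1 : ℂ) ^ (B.card + 1) := by
            split_ifs with hl
            · have := Finset.card_erase_add_one hl
              rw [← this, pow_succ, pow_succ]; ring
            · rw [Finset.card_insert_of_notMem hl, pow_succ]; ring
          rw [h7]; ring
        · have hN' : l ∉ NB (if l ∈ B then B.erase l else insert l B) := by
            intro h
            apply hN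
            have := NB_toggle h
            have e : (if l ∈ (if l ∈ B then B.erase l else insert l B) then
              (if l ∈ B then B.erase l else insert l B).erase l else
              insert l (if l ∈ B then B.erase l else insert l B)) = B := by
              by_cases hl : l ∈ B
              · simp [hl, Finset.insert_erase]
              · simp [hl, Finset.erase_insert]
            rwa [e] at this
          rw [if_neg hN, if_neg hN', add_zero]
      · intro B hB _ heq
        by_cases hl : l ∈ B
        · rw [if_pos hl] at heq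
          have := Finset.notMem_erase l B
          rw [heq] at this; exact this hl
        · rw [if_neg hl] at heq
          exact hl (heq ▸ Finset.mem_insert_self l B)
      · intro B hB
        rw [Finset.mem_erase, hmemS] at hB
        obtain ⟨hB1, hB2, hB3⟩ := hB
        rw [Finset.mem_erase, hmemS]
        by_cases hl : l ∈ B
        · rw [if_pos hl]
          refine ⟨?_, ?_, ?_⟩
          · intro h
            have := Finset.notMem_erase l B
            rw [h] at this
            exact this (Finset.mem_singleton_self l)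
          · rw [Finset.nonempty_iff_ne_empty]
            intro h
            apply hB1
            have := Finset.insert_erase hl
            rw [h] at this
            rw [← this]; rfl
          · intro b hb
            exact hB3 b (Finset.mem_of_mem_erase hb)
        · rw [if_neg hl]
          refine ⟨?_, Finset.insert_nonempty l B, ?_⟩
          · intro h
            obtain ⟨b, hb⟩ := hB2
            have : b ∈ ({l} : Finset L) := h ▸ Finset.mem_insert_of_mem hb
            rw [Finset.mem_singleton] at this
            exact hl (this ▸ hb)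
          · intro b hb
            rcases Finset.mem_insert.mp hb with rfl | hb
            · exact hlA
            · exact hB3 b hb
      · intro B hB
        by_cases hl : l ∈ B
        · simp [hl, Finset.insert_erase]
        · simp [hl, Finset.erase_insert]
    rw [h5, add_zero, Finset.card_singleton]
    norm_num
  have h3 : ∀ l : L, ∑ B ∈ S, (if (l : G) ∈ A then α l * (if l ∈ NB B then
      (-1 : ℂ) ^ (B.card + 1) * Wt g (HB H (insert l B)) (l : G) else 0) else 0) =
      if (l : G) ∈ A then α l * Wt g (H (l : G)) (l : G) else 0 := by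
    intro l
    by_cases hlA : (l : G) ∈ A
    · simp only [if_pos hlA]
      rw [← Finset.mul_sum, h2 l hlA]
    · simp only [if_neg hlA]
      exact Finset.sum_const_zero
  rw [Finset.sum_congr rfl (fun l _ => h3 l)]
  rw [← dade_weight hD (dadeIsometry A L H α) (fun g hg => dade_zero hD hg) g, Finset.sum_comm]
  refine Finset.sum_congr rfl fun l _ => ?_
  by_cases hlA : (l : G) ∈ A
  · rw [if_pos hlA, Wt, Finset.mul_sum, Finset.mul_sum]
    refine Finset.sum_congr rfl fun x _ => ?_
    have h4 : ((l : G)⁻¹ * (x⁻¹ * g * x) ∈ H (l : G)) ↔ ((x⁻¹ * g * x) * (l : G)⁻¹ ∈ H (l : G)) := by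
      have h5 : ∀ u : G, u ∈ H (l : G) → (l : G) * u * (l : G)⁻¹ = u := by
        intro u hu
        rw [mem_cent_single.mp (hD.le_centralizer l hlA hu)]; group
      constructor
      · intro h
        have h6 := h5 _ h
        have h7 : (x⁻¹ * g * x) * (l : G)⁻¹ = (l : G) * ((l : G)⁻¹ * (x⁻¹ * g * x)) * (l : G)⁻¹ := by
          group
        rw [h7, h6]; exact h
      · intro h
        have h6 := h5 _ h
        have h7 : (l : G)⁻¹ * (x⁻¹ * g * x) = (l : G)⁻¹ * ((x⁻¹ * g * x) * (l : G)⁻¹) * l := by group
        have h8 : (l : G)⁻¹ * ((x⁻¹ * g * x) * (l : G)⁻¹) * l = (x⁻¹ * g * x) * (l : G)⁻¹ := by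
          conv_lhs => rw [← h6]
          group
        rw [h7, h8]; exact h
    by_cases h : (l : G)⁻¹ * (x⁻¹ * g * x) ∈ H (l : G)
    · rw [if_pos ⟨hlA, h⟩, if_pos (h4.mp h)]
      rw [dade_apply hD hα hlA h (x := x⁻¹) (g := g) (by group)]
      ring
    · rw [if_neg (fun h' => h h'.2), if_neg (fun h' => h (h4.mpr h'))]
      ring
  · rw [if_neg hlA]
    exact Finset.sum_eq_zero fun x _ => if_neg (fun h => hlA h.1)

end

end Cfsg.Agent.H11.PF
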