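import Cfsg.Agent.H11.PF8

/-!
PF section 2: the Dade map sends virtual characters to virtual characters.
-/
set_option autoImplicit false

namespace Cfsg.Agent.H11.PF

open Cfsg Cfsg.Agent.H3 ComplexConjugate

universe u v

variable {G : Type u} [Group G] {A : Set G} {L : Subgroup G} {H : G → Subgroup G}

/-- conjugation action of `L` on finite subsets of `L` -/
@[reducible] def conjFinset (L : Subgroup G) : MulAction L (Finset L) where
  smul k B := B.map (MulAut.conj k).toEquiv.toEmbedding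
  one_smul B := by
    show B.map (MulAut.conj (1 : L)).toEquiv.toEmbedding = B
    ext x
    rw [Finset.mem_map]
    constructor
    · rintro ⟨a, ha, rfl⟩
      show 1 * a * 1⁻¹ ∈ B
      have : 1 * a * 1⁻¹ = a := by group
      rwa [this]
    · intro hx
      refine ⟨x, hx, ?_⟩
      show 1 * x * 1⁻¹ = x
      group
  mul_smul k k' B := by
    show B.map (MulAut.conj (k * k')).toEquiv.toEmbedding =
      (B.map (MulAut.conj k').toEquiv.toEmbedding).map (MulAut.conj k).toEquiv.toEmbedding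
    rw [Finset.map_map]
    congr 1
    ext x
    simp [mul_assoc]

theorem mem_conjFinset (k : L) (B : Finset L) (y : L) :
    letI := conjFinset L
    y ∈ k • B ↔ k⁻¹ * y * k ∈ B := by
  letI := conjFinset L
  show y ∈ B.map (MulAut.conj k).toEquiv.toEmbedding ↔ _
  rw [Finset.mem_map]
  constructor
  · rintro ⟨x, hx, rfl⟩
    show k⁻¹ * (k * x * k⁻¹) * k ∈ B
    have : k⁻¹ * (k * x * k⁻¹) * k = x := by group
    rwa [this]
  · intro h
    refine ⟨_, h, ?_⟩
    show k * (k⁻¹ * y * k) * k⁻¹ = y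
    group

theorem stab_conjFinset (B : Finset L) :
    letI := conjFinset L
    MulAction.stabilizer L B = NB B := by
  letI := conjFinset L
  ext k
  rw [MulAction.mem_stabilizer_iff, mem_NB]
  constructor
  · intro h b
    have := mem_conjFinset k B (k * b * k⁻¹)
    have e : k⁻¹ * (k * b * k⁻¹) * k = b := by group
    rw [e] at this
    rw [← this, h]
  · intro h
    ext y
    rw [mem_conjFinset, h]
    have e : k * (k⁻¹ * y * k) * k⁻¹ = y := by group
    rw [e]

theorem NB_conj (k : L) (B : Finset L) (l : L) :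
    letI := conjFinset L
    k * l * k⁻¹ ∈ NB (k • B) ↔ l ∈ NB B := by
  letI := conjFinset L
  rw [mem_NB, mem_NB]
  constructor
  · intro h b
    have := h (k * b * k⁻¹)
    rw [mem_conjFinset, mem_conjFinset] at this
    have e1 : k⁻¹ * (k * b * k⁻¹) * k = b := by group
    have e2 : k⁻¹ * (k * l * k⁻¹ * (k * b * k⁻¹) * (k * l * k⁻¹)⁻¹) * k = l * b * l⁻¹ := by group
    rwa [e1, e2] at this
  · intro h b
    rw [mem_conjFinset, mem_conjFinset, h]
    have e : l * (k⁻¹ * b * k) * l⁻¹ = k⁻¹ * (k * l * k⁻¹ * b * (k * l * k⁻¹)⁻¹) * k := by group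
    rw [e]

theorem card_NB_conj (k : L) (B : Finset L) :
    letI := conjFinset L
    Nat.card (NB (k • B)) = Nat.card (NB B) := by
  letI := conjFinset L
  symm
  refine Nat.card_congr (Equiv.subtypeEquiv (MulAut.conj k).toEquiv ?_)
  intro l
  exact (NB_conj k B l).symm

variable [Fintype G] (hD : DadeHypothesis A L H)
include hD

theorem HB_conj (k : L) {B : Finset L} (hBA : ∀ b ∈ B, (b : G) ∈ A) (u : G) :
    letI := conjFinset L
    (k : G) * u * (k : G)⁻¹ ∈ HB H (k • B) ↔ u ∈ HB H B := by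
  letI := conjFinset L
  rw [mem_HB, mem_HB]
  constructor
  · intro h b hb
    have h1 := h (k * b * k⁻¹) (by
      rw [mem_conjFinset]
      have e : k⁻¹ * (k * b * k⁻¹) * k = b := by group
      rwa [e])
    rw [← H_conj_iff hD (hBA b hb) (g := k) (hD.conj_mem k k.2 _ (hBA b hb))]
    exact h1
  · intro h b hb
    rw [mem_conjFinset] at hb
    have h1 := h _ hb
    have h2 := H_conj_mem hD (hBA _ hb) (g := k) (hD.conj_mem k k.2 _ (hBA _ hb)) h1
    have e : (k : G) * ((k⁻¹ * b * k : L) : G) * (k : G)⁻¹ = b := by push_cast; group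
    rwa [e] at h2

variable [Fintype L]

open Classical in
/-- The induced character attached to `B`, as a function of `B`. -/
noncomputable def EB (H : G → Subgroup G) (α : L → ℂ) (B : Finset L) : G → ℂ := fun g =>
  (Nat.card (NB B) : ℂ)⁻¹ * ∑ l : L, if l ∈ NB B then α l * Wt g (HB H B) (l : G) else 0

omit hD in
open Classical in
theorem EB_mul (α : L → ℂ) (B : Finset L) (g : G) :
    (Nat.card (NB B) : ℂ) * EB H α B g =
      ∑ l : L, if l ∈ NB B then α l * Wt g (HB H B) (l : G) else 0 := by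
  have hN : (Nat.card (NB B) : ℂ) ≠ 0 := by exact_mod_cast Nat.card_pos.ne'
  rw [EB, mul_inv_cancel_left₀ hN]

theorem EB_conj {α : L → ℂ} (hα : IsClassFunction L α) (k : L) {B : Finset L}
    (hBA : ∀ b ∈ B, (b : G) ∈ A) :
    letI := conjFinset L
    EB H α (k • B) = EB H α B := by
  classical
  letI := conjFinset L
  funext g
  rw [EB, EB, card_NB_conj]
  congr 1
  rw [← Equiv.sum_comp (MulAut.conj k).toEquiv]
  refine Finset.sum_congr rfl fun l _ => ?_
  show (if k * l * k⁻¹ ∈ NB (k • B) then α (k * l * k⁻¹) *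
    Wt g (HB H (k • B)) ((k * l * k⁻¹ : L) : G) else 0) = _
  by_cases hl : l ∈ NB B
  · rw [if_pos hl, if_pos ((NB_conj k B l).mpr hl), hα]
    congr 1
    rw [Wt, Wt]
    have h1 : Nat.card (HB H (k • B)) = Nat.card (HB H B) := by
      symm
      refine Nat.card_congr (Equiv.subtypeEquiv (MulAut.conj (k : G)).toEquiv ?_)
      intro u
      exact (HB_conj hD k hBA u).symm
    rw [h1]
    congr 1
    rw [← Equiv.sum_comp (Equiv.mulRight (k : G)⁻¹)]
    refine Finset.sum_congr rfl fun x _ => ?_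
    have h2 : ((x * (k : G)⁻¹)⁻¹ * g * (x * (k : G)⁻¹) * ((k * l * k⁻¹ : L) : G)⁻¹ ∈ HB H (k • B)) ↔
        (x⁻¹ * g * x * (l : G)⁻¹ ∈ HB H B) := by
      rw [← HB_conj hD k hBA]
      have e : (x * (k : G)⁻¹)⁻¹ * g * (x * (k : G)⁻¹) * ((k * l * k⁻¹ : L) : G)⁻¹ =
          (k : G) * (x⁻¹ * g * x * (l : G)⁻¹) * (k : G)⁻¹ := by push_cast; group
      rw [e]
    by_cases h3 : x⁻¹ * g * x * (l : G)⁻¹ ∈ HB H B
    · exact (if_pos (h2.mpr h3)).trans (if_pos h3).symm
    · exact (if_neg (fun h => h3 (h2.mp h))).trans (if_neg h3).symm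
  · rw [if_neg hl, if_neg (fun h => hl ((NB_conj k B l).mp h))]

theorem EB_gen {α : L → ℂ} (hα : IsGeneralizedCharacter L α) {B : Finset L}
    (hne : B.Nonempty) (hBA : ∀ b ∈ B, (b : G) ∈ A) :
    IsGeneralizedCharacter G (EB H α B) := by
  classical
  obtain ⟨f, hf⟩ := exists_MB_hom hD hBA hne
  have h1 : EB H α B = indFun (MB H B) (fun y => α (f y)) := by
    funext g
    have hN : (Nat.card (NB B) : ℂ) ≠ 0 := by exact_mod_cast Nat.card_pos.ne'
    apply mul_left_cancel₀ hN
    have h0 := ind_MB hD hBA hne α f hf g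
    rw [Finset.sum_comm, Finset.mul_sum] at h0
    rw [EB_mul, h0]
    refine Finset.sum_congr rfl fun l _ => ?_
    by_cases hl : l ∈ NB B
    · rw [if_pos hl, Wt, Finset.mul_sum, Finset.mul_sum, Finset.mul_sum]
      refine Finset.sum_congr rfl fun x _ => ?_
      by_cases h : x⁻¹ * g * x * (l : G)⁻¹ ∈ HB H B
      · rw [if_pos h, if_pos ⟨hl, h⟩]; ring
      · rw [if_neg h, if_neg (fun h' => h h'.2)]; ring
    · rw [if_neg hl]
      symm
      rw [Finset.sum_eq_zero, mul_zero]
      intro x _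
      exact if_neg (fun h => hl h.1)
  rw [h1]
  exact isGen_ind (MB H B) (isGen_comp hα f)

/-- S1501 -/
theorem dade_gen {α : L → ℂ} (hα : IsGeneralizedCharacter L α)
    (hαA : ∀ x : L, (x : G) ∉ A → α x = 0) :
    IsGeneralizedCharacter G (dadeIsometry A L H α) := by
  classical
  letI := conjFinset L
  have hcf := isGen_classFun hα
  rw [isGen_iff]
  refine ⟨dade_classFun hD hcf, fun χ => ?_⟩
  obtain ⟨S, hS⟩ : ∃ S, S = (Finset.univ : Finset (Finset L)).filter
    (fun B : Finset L => B.Nonempty ∧ ∀ b ∈ B, (b : G) ∈ A) := ⟨_, rfl⟩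
  have hmemS : ∀ B, B ∈ S ↔ B.Nonempty ∧ ∀ b ∈ B, (b : G) ∈ A := by
    intro B; rw [hS]; simp
  have h1 : ∀ B : Finset L, ∃ n : ℤ, B ∈ S → classInner (EB H α B) (χ : G → ℂ) = n := by
    intro B
    by_cases hB : B ∈ S
    · obtain ⟨hne, hBA⟩ := (hmemS B).mp hB
      obtain ⟨n, hn⟩ := classInner_gen_int (EB_gen hD hα hne hBA) (isGen_of_irr χ.2)
      exact ⟨n, fun _ => hn⟩
    · exact ⟨0, fun h => absurd h hB⟩
  choose n₀ hn₀ using h1
  obtain ⟨n, hn⟩ : ∃ n : Finset L → ℤ, n = fun B => if B ∈ S then (-1) ^ (B.card + 1) * n₀ B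
    else 0 := ⟨_, rfl⟩
  have hSk : ∀ (k : L) (B : Finset L), k • B ∈ S ↔ B ∈ S := by
    intro k B
    rw [hmemS, hmemS]
    constructor
    · rintro ⟨⟨b, hb⟩, h2⟩
      refine ⟨⟨k⁻¹ * b * k, (mem_conjFinset k B b).mp hb⟩, ?_⟩
      intro c hc
      have h3 := h2 (k * c * k⁻¹) (by
        rw [mem_conjFinset]
        have e : k⁻¹ * (k * c * k⁻¹) * k = c := by group
        rwa [e])
      have h4 := hD.conj_mem (k : G)⁻¹ (L.inv_mem k.2) _ h3
      have e : (k : G)⁻¹ * ((k * c * k⁻¹ : L) : G) * (k : G)⁻¹⁻¹ = c := by push_cast; group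
      rwa [e] at h4
    · rintro ⟨⟨b, hb⟩, h2⟩
      refine ⟨⟨k * b * k⁻¹, (mem_conjFinset k B _).mpr ?_⟩, ?_⟩
      · have e : k⁻¹ * (k * b * k⁻¹) * k = b := by group
        rwa [e]
      · intro c hc
        rw [mem_conjFinset] at hc
        have h3 := h2 _ hc
        have h4 := hD.conj_mem (k : G) k.2 _ h3
        have e : (k : G) * ((k⁻¹ * c * k : L) : G) * (k : G)⁻¹ = c := by push_cast; group
        rwa [e] at h4
  have hcard : ∀ (k : L) (B : Finset L), (k • B).card = B.card := fun k B =>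
    Finset.card_map _
  have hinv : ∀ (k : L) (B : Finset L), n (k • B) = n B := by
    intro k B
    rw [hn]
    by_cases hB : B ∈ S
    · simp only
      rw [if_pos hB, if_pos ((hSk k B).mpr hB), hcard]
      congr 1
      have h2 := hn₀ B hB
      have h3 := hn₀ (k • B) ((hSk k B).mpr hB)
      rw [EB_conj hD hcf k ((hmemS B).mp hB).2, h2] at h3
      exact_mod_cast h3.symm
    · simp only
      rw [if_neg hB, if_neg (fun h => hB ((hSk k B).mp h))]
  obtain ⟨m, hm⟩ := sum_stab_int n hinv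
  refine ⟨m, ?_⟩
  have hL : (Nat.card L : ℂ) ≠ 0 := by exact_mod_cast Nat.card_pos.ne'
  apply mul_left_cancel₀ hL
  have h2 : (Nat.card L : ℂ) • dadeIsometry A L H α =
      ∑ B ∈ S, ((-1 : ℂ) ^ (B.card + 1) * (Nat.card (NB B) : ℂ)) • EB H α B := by
    funext g
    rw [Finset.sum_apply, Pi.smul_apply, smul_eq_mul, dade_formula hD α hcf hαA g, hS]
    refine Finset.sum_congr rfl fun B _ => ?_
    rw [Pi.smul_apply, smul_eq_mul, mul_assoc, EB_mul]
  rw [← classInner_smul_left, h2, classInner_sum_left]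
  have h3 : (Nat.card L : ℂ) * m = ((∑ B : Finset L, (Nat.card (MulAction.stabilizer L B) : ℤ) * n B : ℤ) : ℂ) := by
    rw [hm]; push_cast; rfl
  rw [h3, Int.cast_sum]
  symm
  rw [← Finset.sum_subset (Finset.subset_univ S)]
  · refine Finset.sum_congr rfl fun B hB => ?_
    rw [classInner_smul_left, hn₀ B hB, stab_conjFinset, hn]
    simp only
    rw [if_pos hB]
    push_cast; ring
  · intro B _ hB
    rw [hn]
    simp only
    rw [if_neg hB, mul_zero, Int.cast_zero]

end Cfsg.Agent.H11.PF
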